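import Mathlib
import Cfsg.Agent.H972.NSm
import Cfsg.Agent.H94.Sp.Base
import Cfsg.Agent.SmallSimple.Burnside

/-!
# Orders of nilpotent subgroups: the arithmetic of the odd ones (helper805, for S2242)

* `NoComm r s G` : no element of order `r` commutes with an element of order `s`;
* `arith` : Sylow arithmetic for the centralizer of an element of prime order `s`, `s * s ∤ |G|`, `G` simple;
* `small_of_chk` : `Small G` from `SmallAt 2 G`, facts `NoComm`, `SmallAt` and a check of the orders.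
-/

set_option autoImplicit false

namespace Cfsg.Agent.H805.NilSp

open Subgroup Cfsg.Agent.H972 Cfsg.Agent.H972.NSm

/-- no element of order `r` commutes with an element of order `s` -/
def NoComm (r s : ℕ) (G : Type*) [Group G] : Prop :=
  ∀ x y : G, orderOf x = r → orderOf y = s → ¬ Commute x y

theorem NoComm.symm {r s : ℕ} {G : Type*} [Group G] (h : NoComm r s G) : NoComm s r G :=
  fun x y hx hy hc => h y x hy hx hc.symm

theorem NoComm.congr {r s : ℕ} {G H : Type*} [Group G] [Group H] (h : NoComm r s G) (e : G ≃* H) : NoComm r s H := by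
  intro x y hx hy hc
  refine h (e.symm x) (e.symm y) (by rw [MulEquiv.orderOf_eq]; exact hx) (by rw [MulEquiv.orderOf_eq]; exact hy) ?_
  exact hc.map e.symm.toMonoidHom

/-- from the order of the centralizer -/
theorem noComm_of_not_dvd {r s : ℕ} {G : Type*} [Group G]
    (h : ∀ x : G, orderOf x = r → ¬ s ∣ Nat.card ↥(centralizer ({x} : Set G))) : NoComm r s G := by
  intro x y hx hy hc
  apply h x hx
  have hm : y ∈ centralizer ({x} : Set G) := mem_centralizer_singleton_iff.2 hc.symm
  rw [← hy]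
  have := orderOf_dvd_natCard (⟨y, hm⟩ : ↥(centralizer ({x} : Set G)))
  rwa [Subgroup.orderOf_mk] at this

theorem not_dvd_of_noComm {r s : ℕ} (hs : s.Prime) {G : Type*} [Group G] [Finite G] (h : NoComm r s G) {x : G}
    (hx : orderOf x = r) : ¬ s ∣ Nat.card ↥(centralizer ({x} : Set G)) := by
  intro hd
  have : Fact s.Prime := ⟨hs⟩
  obtain ⟨y, hy⟩ := exists_prime_orderOf_dvd_card' s hd
  refine h x y hx (by rw [Subgroup.orderOf_coe, hy]) ?_
  exact (mem_centralizer_singleton_iff.1 y.2 : Commute (y : G) x).symm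

/-- Sylow arithmetic in a simple group -/
theorem arith {G : Type*} [Group G] [Finite G] [IsSimpleGroup G] {x : G} {s : ℕ} (hs : s.Prime) (hx : orderOf x = s)
    (hsq : ¬ s * s ∣ Nat.card G) (hne : Nat.card G ≠ s) : ∃ e, e ∣ s - 1 ∧ e ≠ 1 ∧
      Nat.card (centralizer ({x} : Set G)) * e ∣ Nat.card G ∧
      Nat.card G / (Nat.card (centralizer ({x} : Set G)) * e) % s = 1 % s := by
  classical
  have : Fact s.Prime := ⟨hs⟩
  have hcz : Nat.card (zpowers x) = s := by rw [Nat.card_zpowers, hx]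
  have hidx : ¬ s ∣ (zpowers x).index := by
    intro h
    apply hsq
    rw [← Subgroup.card_mul_index (zpowers x), hcz]
    exact Nat.mul_dvd_mul_left s h
  have hP : IsPGroup s (zpowers x) := IsPGroup.of_card (n := 1) (by rw [hcz, pow_one])
  let P : Sylow s G := hP.toSylow hidx
  have hPx : (P : Subgroup G) = zpowers x := rfl
  let N := normalizer (zpowers x : Set G)
  let C := centralizer ({x} : Set G)
  have hCN : C ≤ N := by
    intro g hg
    rw [mem_centralizer_singleton_iff] at hg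
    rw [Subgroup.mem_normalizer_iff]
    intro h
    have hgc : Commute g x := hg
    have key : ∀ k : ℤ, g * x ^ k * g⁻¹ = x ^ k := fun k => by
      rw [(hgc.zpow_right k).eq, mul_inv_cancel_right]
    constructor
    · intro hh
      obtain ⟨k, rfl⟩ := mem_zpowers_iff.1 hh
      rw [key]
      exact hh
    · intro hh
      obtain ⟨k, hk⟩ := mem_zpowers_iff.1 hh
      have h1 : h = x ^ k := by
        rw [← key k] at hk
        have h2 : g * h * g⁻¹ = g * x ^ k * g⁻¹ := by rw [hk]
        simpa using h2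
      rw [h1]
      exact zpow_mem (mem_zpowers x) k
  have hNn : ((zpowers x).subgroupOf N).Normal := by
    have := Subgroup.normal_in_normalizer (H := zpowers x)
    exact this
  let Z := (zpowers x).subgroupOf N
  let φ : N →* MulAut Z := MulAut.conjNormal
  have hZc : Nat.card Z = s := by
    rw [Nat.card_congr (Subgroup.subgroupOfEquivOfLe (Subgroup.le_normalizer)).toEquiv, hcz]
  have hker : φ.ker = C.subgroupOf N := by
    ext g
    rw [MonoidHom.mem_ker, mem_subgroupOf, mem_centralizer_singleton_iff]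
    constructor
    · intro h
      have h1 : ((φ g ⟨⟨x, Subgroup.le_normalizer (mem_zpowers x)⟩, mem_zpowers x⟩ : Z) : N) =
          (⟨x, Subgroup.le_normalizer (mem_zpowers x)⟩ : N) := by rw [h]; rfl
      have h2 : (g : G) * x * (g : G)⁻¹ = x := congrArg Subtype.val h1
      calc (g : G) * x = g * x * (g : G)⁻¹ * g := by group
        _ = x * g := by rw [h2]
    · intro h
      apply MulEquiv.ext
      rintro ⟨⟨y, hyN⟩, hy⟩
      apply Subtype.ext
      apply Subtype.ext
      have hy' : y ∈ zpowers x := hy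
      obtain ⟨k, rfl⟩ := mem_zpowers_iff.1 hy'
      change (g : G) * x ^ k * (g : G)⁻¹ = x ^ k
      have hgc : Commute (g : G) x := h
      rw [(hgc.zpow_right k).eq, mul_inv_cancel_right]
  have hcyc : IsCyclic Z := isCyclic_of_prime_card hZc
  have hrange : Nat.card φ.range ∣ s - 1 := by
    have h4 : Nat.card φ.range ∣ Nat.card (MulAut Z) := Subgroup.card_subgroup_dvd_card _
    rwa [IsCyclic.card_mulAut, hZc, Nat.totient_prime hs] at h4
  have hNcard : Nat.card N = Nat.card C * Nat.card φ.range := by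
    rw [← Nat.card_congr (Subgroup.subgroupOfEquivOfLe hCN).toEquiv, ← hker]
    have h1 := Subgroup.card_mul_index φ.ker
    rw [Subgroup.index_ker] at h1
    exact h1.symm
  refine ⟨Nat.card φ.range, hrange, ?_, ?_, ?_⟩
  · intro h1
    rw [h1, mul_one] at hNcard
    have hNC : C = N := Subgroup.eq_of_le_of_card_ge hCN (by rw [hNcard])
    apply hne
    refine SmallSimple.Burnside.card_eq_of_normalizer_le_centralizer (by rw [← hx]; exact orderOf_dvd_natCard x) P ?_
    intro g hg
    have hg' : g ∈ N := hg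
    rw [← hNC] at hg'
    have hgx : Commute g x := mem_centralizer_singleton_iff.1 hg'
    rw [mem_centralizer_iff]
    intro y hy
    have hy' : y ∈ zpowers x := hy
    obtain ⟨k, rfl⟩ := mem_zpowers_iff.1 hy'
    exact ((hgx.zpow_right k).eq).symm
  · rw [← hNcard]
    exact Subgroup.card_subgroup_dvd_card N
  · rw [← hNcard]
    have h1 : Nat.card (Sylow s G) ≡ 1 [MOD s] := card_sylow_modEq_one s G
    have h2 : Nat.card (Sylow s G) = N.index := by
      rw [Sylow.card_eq_index_normalizer P]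
      rfl
    rw [h2] at h1
    have h3 : Nat.card G / Nat.card N = N.index := by
      rw [← Subgroup.card_mul_index N]
      exact Nat.mul_div_cancel_left _ Nat.card_pos
    rw [h3]
    exact h1

/-- exclusion of the odd order `o / c` of a nilpotent subgroup of a group of order `2 ^ a * o` -/
def Excl (a o : ℕ) (S R : List ℕ) (F : List (ℕ × ℕ)) (L : List ℕ) (c : ℕ) : Prop :=
  (∃ r ∈ S, r ∣ o / c) ∨ (∃ p ∈ F, p.1 ∣ o / c ∧ p.2 ∣ o / c) ∨
  (∃ r ∈ R, r ∣ o / c ∧ ∀ e ∈ List.range r, e ∣ r - 1 → e ≠ 1 → ∀ j ∈ L, j ∣ c → j * e ∣ 2 ^ a * c →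
     (∃ p ∈ F, p.1 = r ∧ p.2 ∣ j) ∨ (2 ^ a * c / (j * e)) % r ≠ 1)

instance (a o : ℕ) (S R : List ℕ) (F : List (ℕ × ℕ)) (L : List ℕ) (c : ℕ) : Decidable (Excl a o S R F L c) := by
  unfold Excl; infer_instance

/-- **The criterion.** -/
theorem small_of_chk {G : Type*} [Group G] [Finite G] [IsSimpleGroup G] (a o B : ℕ) (hN : Nat.card G = 2 ^ a * o)
    (ho : ¬ 2 ∣ o) (hB : o < 2 ^ a * B ^ 2) (S R : List ℕ) (F : List (ℕ × ℕ)) (L : List ℕ)
    (hL : (List.range B).filter (fun c => c ∣ o) = L)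
    (hS : ∀ r ∈ S, SmallAt r G)
    (hR : ∀ r ∈ R, r.Prime ∧ ¬ r * r ∣ 2 ^ a * o ∧ 2 ^ a * o ≠ r ∧ NoComm r 2 G)
    (hF : ∀ p ∈ F, p.1.Prime ∧ p.2.Prime ∧ NoComm p.1 p.2 G)
    (h2 : SmallAt 2 G) (hchk : ∀ c ∈ L, Excl a o S R F L c) : NSm.Small G := by
  intro N hNn
  by_cases hN2 : 2 ∣ Nat.card ↥N
  · exact h2 N hNn hN2
  by_contra hlt
  push Not at hlt
  have hcop : (Nat.card ↥N).Coprime (2 ^ a) := ((Nat.Prime.coprime_iff_not_dvd Nat.prime_two).2 hN2).symm.pow_right a
  have hno : Nat.card ↥N ∣ o := by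
    have h1 : Nat.card ↥N ∣ 2 ^ a * o := by rw [← hN]; exact card_subgroup_dvd_card N
    exact hcop.dvd_of_dvd_mul_left h1
  obtain ⟨c, hc⟩ := hno
  set n := Nat.card ↥N with hn
  have hnpos : 0 < n := Nat.card_pos
  have ho0 : 0 < o := by
    rcases Nat.eq_zero_or_pos o with h | h
    · rw [h] at ho; exact absurd (dvd_zero 2) ho
    · exact h
  have hc0 : 0 < c := by
    rcases Nat.eq_zero_or_pos c with h | h
    · rw [h, mul_zero] at hc; omega
    · exact h
  have hge : 2 ^ a * c ≤ n := by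
    rw [hN, hc] at hlt
    have h1 : n * (2 ^ a * c) ≤ n * n := by
      calc n * (2 ^ a * c) = 2 ^ a * (n * c) := by ring
        _ ≤ n ^ 2 := hlt
        _ = n * n := sq n
    exact Nat.le_of_mul_le_mul_left h1 hnpos
  have hcB : c < B := by
    by_contra h
    push Not at h
    have h1 : 2 ^ a * B ^ 2 ≤ 2 ^ a * c ^ 2 := Nat.mul_le_mul_left _ (Nat.pow_le_pow_left h 2)
    have h3 : 2 ^ a * c ^ 2 ≤ o := by
      rw [hc]
      calc 2 ^ a * c ^ 2 = 2 ^ a * c * c := by ring
        _ ≤ n * c := Nat.mul_le_mul_right _ hge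
    omega
  have hco : c ∣ o := ⟨n, by rw [hc]; ring⟩
  have hmem : ∀ j, j ∣ c → j ∈ L := by
    intro j hj
    rw [← hL, List.mem_filter]
    refine ⟨List.mem_range.2 ((Nat.le_of_dvd hc0 hj).trans_lt hcB), ?_⟩
    simpa using hj.trans hco
  have hoc : o / c = n := by rw [hc]; exact Nat.mul_div_cancel _ hc0
  have hex := hchk c (hmem c dvd_rfl)
  unfold Excl at hex
  rw [hoc] at hex
  rcases hex with ⟨r, hrS, hrn⟩ | ⟨p, hpF, hp1, hp2⟩ | ⟨r, hrR, hrn, hall⟩
  · exact absurd (hS r hrS N hNn hrn) (not_lt.2 hlt)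
  · obtain ⟨hpp, hpq, hno⟩ := hF p hpF
    obtain ⟨x, hx, hxN, hle⟩ := exists_le_centralizer hNn hpp hp1
    have : Fact p.2.Prime := ⟨hpq⟩
    obtain ⟨y, hy⟩ := exists_prime_orderOf_dvd_card' p.2 hp2
    refine hno x y hx (by rw [Subgroup.orderOf_coe, hy]) ?_
    exact (mem_centralizer_singleton_iff.1 (hle y.2) : Commute (y : G) x).symm
  · obtain ⟨hrp, hsq, hner, hno2⟩ := hR r hrR
    obtain ⟨x, hx, hxN, hle⟩ := exists_le_centralizer hNn hrp hrn
    obtain ⟨e, he, he1, hd, hmod⟩ := arith hrp hx (by rw [hN]; exact hsq) (by rw [hN]; exact hner)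
    obtain ⟨j, hj⟩ : n ∣ Nat.card ↥(centralizer ({x} : Set G)) := Subgroup.card_dvd_of_le hle
    have hj2 : ¬ 2 ∣ j := by
      intro h
      exact not_dvd_of_noComm Nat.prime_two hno2 hx (by rw [hj]; exact h.trans (dvd_mul_left _ _))
    have hje : j * e ∣ 2 ^ a * c := by
      rw [hj, hN, hc] at hd
      have h1 : n * (j * e) ∣ n * (2 ^ a * c) := by
        rw [show n * (j * e) = n * j * e by ring, show n * (2 ^ a * c) = 2 ^ a * (n * c) by ring]
        exact hd
      exact Nat.dvd_of_mul_dvd_mul_left hnpos h1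
    have hjc : j ∣ c := by
      have h1 : j ∣ 2 ^ a * c := (dvd_mul_right j e).trans hje
      exact (((Nat.Prime.coprime_iff_not_dvd Nat.prime_two).2 hj2).symm.pow_right a).dvd_of_dvd_mul_left h1
    have her : e ∈ List.range r := by
      rw [List.mem_range]
      have h1 := hrp.two_le
      have := Nat.le_of_dvd (by omega) he
      omega
    rcases hall e her he he1 j (hmem j hjc) hjc hje with ⟨p, hpF, hp1, hpj⟩ | h1
    · obtain ⟨-, hpq, hno⟩ := hF p hpF
      rw [hp1] at hno
      exact not_dvd_of_noComm hpq hno hx (by rw [hj]; exact hpj.trans (dvd_mul_left _ _))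
    · apply h1
      rw [hj, hN, hc] at hmod
      have h3 : 2 ^ a * (n * c) / (n * j * e) = 2 ^ a * c / (j * e) := by
        rw [show 2 ^ a * (n * c) = n * (2 ^ a * c) by ring, show n * j * e = n * (j * e) by ring]
        exact Nat.mul_div_mul_left _ _ hnpos
      rw [h3] at hmod
      rw [hmod]
      exact Nat.mod_eq_of_lt hrp.one_lt

/-- `SmallAt p` from a bound of the orders of the centralizers -/
theorem smallAt_of_le {G : Type*} [Group G] [Finite G] {p b : ℕ} (hp : p.Prime) (hb : b ^ 2 < Nat.card G)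
    (h : ∀ x : G, orderOf x = p → Nat.card ↥(centralizer ({x} : Set G)) ≤ b) : SmallAt p G :=
  smallAt_of_cent hp fun x hx => ⟨b, nle_of_card (h x hx), hb⟩

/-! ### tools -/

/-- the order of the centralizer of a conjugate -/
theorem card_cent_isConj {G : Type*} [Group G] {t y : G} (h : IsConj t y) :
    Nat.card ↥(centralizer ({y} : Set G)) = Nat.card ↥(centralizer ({t} : Set G)) := by
  obtain ⟨g, hg⟩ := isConj_iff.1 h
  symm
  refine Nat.card_congr (Equiv.subtypeEquiv (MulAut.conj g).toEquiv fun y' => ?_)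
  show y' ∈ centralizer ({t} : Set G) ↔ g * y' * g⁻¹ ∈ centralizer ({y} : Set G)
  rw [mem_centralizer_singleton_iff, mem_centralizer_singleton_iff, ← hg]
  constructor
  · intro h1
    calc g * y' * g⁻¹ * (g * t * g⁻¹) = g * (y' * t) * g⁻¹ := by group
      _ = g * (t * y') * g⁻¹ := by rw [h1]
      _ = _ := by group
  · intro h1
    have h2 : g * (y' * t) * g⁻¹ = g * (t * y') * g⁻¹ := by
      calc g * (y' * t) * g⁻¹ = g * y' * g⁻¹ * (g * t * g⁻¹) := by group
        _ = g * t * g⁻¹ * (g * y' * g⁻¹) := h1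
        _ = _ := by group
    exact mul_left_cancel (mul_right_cancel h2)

/-- a nilpotent group of order divisible by three distinct primes has an element of order `p q r` -/
theorem exists_order_three {G : Type*} [Group G] [Finite G] {N : Subgroup G} (hN : Group.IsNilpotent ↥N) {p q r : ℕ}
    (hp : p.Prime) (hq : q.Prime) (hr : r.Prime) (hpq : p ≠ q) (hpr : p ≠ r) (hqr : q ≠ r)
    (h1 : p ∣ Nat.card ↥N) (h2 : q ∣ Nat.card ↥N) (h3 : r ∣ Nat.card ↥N) : ∃ g : G, orderOf g = p * q * r := by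
  obtain ⟨x, hx, hxN, hx'⟩ := exists_le_centralizer hN hp h1
  obtain ⟨y, hy, hyN, hy'⟩ := exists_le_centralizer hN hq h2
  obtain ⟨z, hz, hzN, hz'⟩ := exists_le_centralizer hN hr h3
  have cxy : Commute x y := (mem_centralizer_singleton_iff.1 (hx' hyN) : Commute y x).symm
  have cxz : Commute x z := (mem_centralizer_singleton_iff.1 (hx' hzN) : Commute z x).symm
  have cyz : Commute y z := (mem_centralizer_singleton_iff.1 (hy' hzN) : Commute z y).symm
  have e1 : orderOf (x * y) = p * q := by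
    rw [cxy.orderOf_mul_eq_mul_orderOf_of_coprime (by rw [hx, hy]; exact (Nat.coprime_primes hp hq).2 hpq), hx, hy]
  refine ⟨x * y * z, ?_⟩
  rw [(cxz.mul_left cyz).orderOf_mul_eq_mul_orderOf_of_coprime (by
    rw [e1, hz]
    exact Nat.Coprime.mul_left ((Nat.coprime_primes hp hr).2 hpr) ((Nat.coprime_primes hq hr).2 hqr)), e1, hz]

/-- from the spectrum -/
theorem noComm_of_spec {G : Type*} [Group G] {p q : ℕ} (hpq : p.Coprime q) (h : ∀ g : G, orderOf g ≠ p * q) :
    NoComm p q G := by
  intro x y hx hy hc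
  apply h (x * y)
  rw [hc.orderOf_mul_eq_mul_orderOf_of_coprime (by rw [hx, hy]; exact hpq), hx, hy]

/-- the centralizers of the elements of order `p`, `p * p ∤ |G|`, have the same order -/
theorem card_cent_prime_eq {G : Type*} [Group G] [Finite G] {p : ℕ} (hp : p.Prime) (hsq : ¬ p * p ∣ Nat.card G)
    {x y : G} (hx : orderOf x = p) (hy : orderOf y = p) :
    Nat.card ↥(centralizer ({y} : Set G)) = Nat.card ↥(centralizer ({x} : Set G)) := by
  have : Fact p.Prime := ⟨hp⟩
  have key : ∀ z : G, orderOf z = p → ∃ P : Sylow p G, (P : Subgroup G) = zpowers z := by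
    intro z hz
    have hcz : Nat.card (zpowers z) = p := by rw [Nat.card_zpowers, hz]
    have hidx : ¬ p ∣ (zpowers z).index := by
      intro h
      apply hsq
      rw [← Subgroup.card_mul_index (zpowers z), hcz]
      exact Nat.mul_dvd_mul_left p h
    have hP : IsPGroup p (zpowers z) := IsPGroup.of_card (n := 1) (by rw [hcz, pow_one])
    exact ⟨hP.toSylow hidx, rfl⟩
  obtain ⟨P, hP⟩ := key x hx
  obtain ⟨Q, hQ⟩ := key y hy
  obtain ⟨g, hg⟩ := MulAction.exists_smul_eq G P Q
  have hgx : g * x * g⁻¹ ∈ zpowers y := by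
    rw [← hQ, ← hg]
    exact Subgroup.smul_mem_pointwise_smul x (MulAut.conj g) _ (by rw [hP]; exact mem_zpowers x)
  have ho : orderOf (g * x * g⁻¹) = p := by
    rw [← hx]; exact MulEquiv.orderOf_eq (MulAut.conj g) x
  have hz : zpowers (g * x * g⁻¹) = zpowers y := by
    refine eq_of_le_of_card_ge (zpowers_le.2 hgx) ?_
    rw [Nat.card_zpowers, Nat.card_zpowers, ho, hy]
  have hcz : ∀ z : G, centralizer ((zpowers z : Subgroup G) : Set G) = centralizer ({z} : Set G) := fun z => by
    rw [zpowers_eq_closure, centralizer_closure]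
  rw [← card_cent_isConj (isConj_iff.2 ⟨g, rfl⟩ : IsConj x (g * x * g⁻¹)), ← hcz, ← hcz (g * x * g⁻¹), hz]

/-- a nilpotent subgroup has index at least 5 if the normal 2-subgroups are small -/
theorem five_le_index {C : Type*} [Group C] [Finite C] {k : ℕ}
    (hW : ∀ W : Subgroup C, W.Normal → IsPGroup 2 ↥W → Nat.card ↥W ≤ 2 ^ k) (hm : 2 ^ (k + 4) ∣ Nat.card C)
    {N : Subgroup C} (hN : Group.IsNilpotent ↥N) : 5 ≤ N.index := by
  by_contra hlt
  push Not at hlt
  have h2 : Fact (Nat.Prime 2) := ⟨Nat.prime_two⟩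
  let f := MulAction.toPermHom C (C ⧸ N)
  have h3 : f.ker ≤ N := by
    intro x hx
    have h4 : f x ((1 : C) : C ⧸ N) = ((1 : C) : C ⧸ N) := by
      rw [MonoidHom.mem_ker.1 hx]; rfl
    have h5 : ((x * 1 : C) : C ⧸ N) = ((1 : C) : C ⧸ N) := h4
    rw [mul_one] at h5
    have h6 := QuotientGroup.eq.1 h5.symm
    simpa using h6
  -- the order of the core
  have h24 : Nat.card ↥f.range ∣ 24 := by
    have h4 : Nat.card ↥f.range ∣ Nat.card (Equiv.Perm (C ⧸ N)) := card_subgroup_dvd_card _
    have h5 : Nat.card (Equiv.Perm (C ⧸ N)) = N.index.factorial := by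
      rw [Nat.card_perm]
      rfl
    rw [h5] at h4
    refine h4.trans ?_
    have h6 : N.index.factorial ∣ Nat.factorial 4 := Nat.factorial_dvd_factorial (by omega)
    exact h6
  have hcard : Nat.card ↥f.ker * Nat.card ↥f.range = Nat.card C := by
    rw [← Subgroup.index_ker]
    exact f.ker.card_mul_index
  have hM : 2 ^ (k + 1) ∣ Nat.card ↥f.ker := by
    have h4 : 2 ^ (k + 4) ∣ Nat.card ↥f.ker * 24 := (hcard ▸ hm).trans (Nat.mul_dvd_mul_left _ h24)
    have h5 : 2 ^ (k + 1) * 2 ^ 3 ∣ (Nat.card ↥f.ker * 3) * 2 ^ 3 := by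
      rw [← pow_add, show k + 1 + 3 = k + 4 by ring, show Nat.card ↥f.ker * 3 * 2 ^ 3 = Nat.card ↥f.ker * 24 by ring]
      exact h4
    have h6 : 2 ^ (k + 1) ∣ Nat.card ↥f.ker * 3 := Nat.dvd_of_mul_dvd_mul_right (by norm_num) h5
    exact (Nat.Coprime.pow_left (k + 1) (by norm_num : Nat.Coprime 2 3)).dvd_of_dvd_mul_right h6
  -- its Sylow 2-subgroup
  have hNk : Group.IsNilpotent ↥f.ker := by
    have e : ↥(f.ker.subgroupOf N) ≃* ↥f.ker := subgroupOfEquivOfLe h3
    exact Group.nilpotent_of_mulEquiv e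
  obtain ⟨P⟩ : Nonempty (Sylow 2 ↥f.ker) := inferInstance
  have hPn : (P : Subgroup ↥f.ker).Normal := by
    have h1 := ((Group.isNilpotent_of_finite_tfae (G := ↥f.ker)).out 0 3).1 hNk
    exact h1 2 h2 P
  have hPc : (P : Subgroup ↥f.ker).Characteristic := P.characteristic_of_normal hPn
  have hWn : ((P : Subgroup ↥f.ker).map f.ker.subtype).Normal := ConjAct.normal_of_characteristic_of_normal
  have hcW : Nat.card ↥((P : Subgroup ↥f.ker).map f.ker.subtype) = Nat.card ↥(P : Subgroup ↥f.ker) :=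
    card_map_of_injective f.ker.subtype_injective
  have hle := hW _ hWn (P.isPGroup'.map _)
  rw [hcW] at hle
  have hdv : 2 ^ (k + 1) ∣ Nat.card ↥(P : Subgroup ↥f.ker) := by
    rw [P.card_eq_multiplicity]
    exact pow_dvd_pow 2 ((Nat.Prime.pow_dvd_iff_le_factorization Nat.prime_two Nat.card_pos.ne').1 hM)
  have := Nat.le_of_dvd Nat.card_pos hdv
  have h7 : 2 ^ k < 2 ^ (k + 1) := Nat.pow_lt_pow_right (by norm_num) (by omega)
  omega

/-- bounds for the centralizer of a conjugate -/
theorem nle_cent_isConj {G : Type*} [Group G] {t y : G} (h : IsConj t y) {b : ℕ}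
    (hb : NLE b ↥(centralizer ({t} : Set G))) : NLE b ↥(centralizer ({y} : Set G)) := by
  obtain ⟨g, hg⟩ := isConj_iff.1 h
  have h1 : (centralizer ({t} : Set G)).map (MulAut.conj g).toMonoidHom = centralizer ({y} : Set G) := by
    ext c
    rw [mem_map]
    constructor
    · rintro ⟨d, hd, rfl⟩
      rw [mem_centralizer_singleton_iff] at hd ⊢
      show g * d * g⁻¹ * y = y * (g * d * g⁻¹)
      rw [← hg]
      calc g * d * g⁻¹ * (g * t * g⁻¹) = g * (d * t) * g⁻¹ := by group
        _ = g * (t * d) * g⁻¹ := by rw [hd]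
        _ = _ := by group
    · intro hc
      rw [mem_centralizer_singleton_iff] at hc
      refine ⟨g⁻¹ * c * g, ?_, ?_⟩
      · rw [mem_centralizer_singleton_iff]
        rw [← hg] at hc
        calc g⁻¹ * c * g * t = g⁻¹ * (c * (g * t * g⁻¹)) * g := by group
          _ = g⁻¹ * (g * t * g⁻¹ * c) * g := by rw [hc]
          _ = _ := by group
      · show g * (g⁻¹ * c * g) * g⁻¹ = c
        group
  exact hb.congr (((MulAut.conj g).subgroupMap (centralizer ({t} : Set G))).trans (MulEquiv.subgroupCongr h1))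

end Cfsg.Agent.H805.NilSp
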