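import Mathlib
import Cfsg.Agent.Lib.VonDyck
import Cfsg.Agent.ThreeTrans375.Basic

/-!
Three 3-transpositions `a - b - c` (`a`, `c` commuting) generate `S₄`; the case of a class in which
each member commutes with exactly one other.
-/

set_option autoImplicit false

namespace Cfsg.Agent.H805.SymFour

open Cfsg Cfsg.Agent.SporadicB.ThreeTrans Cfsg.Agent.ThreeTrans375.Basic

variable {G : Type*} [Group G] {D : Set G}

section Three

variable {a b c : G}

theorem coxeter_sq (hb : b * b = 1) (hac : a * c = c * a)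
    (hab : a * b * a = b * a * b) (hbc : c * b * c = b * c * b) :
    (a * (b * c)) ^ 2 = b * (a * c) * b := by
  rw [pow_two]
  calc a * (b * c) * (a * (b * c)) = a * b * (c * a) * b * c := by simp only [mul_assoc]
    _ = a * b * (a * c) * b * c := by rw [hac]
    _ = (a * b * a) * (c * b * c) := by simp only [mul_assoc]
    _ = (b * a * b) * (b * c * b) := by rw [hab, hbc]
    _ = b * a * (b * b) * c * b := by simp only [mul_assoc]
    _ = b * (a * c) * b := by rw [hb, mul_one]; simp only [mul_assoc]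

theorem coxeter_four (ha : a * a = 1) (hb : b * b = 1) (hc : c * c = 1) (hac : a * c = c * a)
    (hab : a * b * a = b * a * b) (hbc : c * b * c = b * c * b) :
    (a * (b * c)) ^ 4 = 1 := by
  have h := coxeter_sq hb hac hab hbc
  rw [show 4 = 2 * 2 from rfl, pow_mul, h, pow_two]
  calc b * (a * c) * b * (b * (a * c) * b) = b * (a * c) * (b * b) * (a * c) * b := by
        simp only [mul_assoc]
    _ = b * (a * (c * a) * c) * b := by rw [hb]; simp only [mul_assoc, one_mul]
    _ = b * ((a * a) * (c * c)) * b := by rw [← hac]; simp only [mul_assoc]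
    _ = 1 := by rw [ha, hc, one_mul, mul_one, hb]

theorem permFour (ha : a * a = 1) (hb : b * b = 1) (hc : c * c = 1) (hac : a * c = c * a)
    (hab : a * b * a = b * a * b) (hbc : c * b * c = b * c * b) (hne : a ≠ c) :
    Nonempty ((Subgroup.closure {a, b, c} : Subgroup G) ≃* Equiv.Perm (Fin 4)) := by
  have h1 : a ^ 2 = 1 := by rw [pow_two, ha]
  have h2 : (b * c) ^ 3 = 1 := by
    calc (b * c) ^ 3 = b * (c * b * c) * b * c := by
          simp only [pow_succ, pow_zero, one_mul, mul_assoc]
      _ = b * (b * c * b) * b * c := by rw [hbc]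
      _ = (b * b) * c * (b * b) * c := by simp only [mul_assoc]
      _ = 1 := by rw [hb, one_mul, mul_one, hc]
  have h3 : (a * (b * c)) ^ 2 ≠ 1 := by
    rw [coxeter_sq hb hac hab hbc]
    intro h
    apply hne
    have h4 : a * c = 1 := by
      calc a * c = (b * b) * (a * c) * (b * b) := by rw [hb, one_mul, mul_one]
        _ = b * (b * (a * c) * b) * b := by simp only [mul_assoc]
        _ = 1 := by rw [h, mul_one, hb]
    calc a = a * (c * c) := by rw [hc, mul_one]
      _ = (a * c) * c := by rw [mul_assoc]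
      _ = c := by rw [h4, one_mul]
  have h5 := Lib.VonDyck.closure_equiv_permFour h1 h2 (coxeter_four ha hb hc hac hab hbc) h3
  have h6 : Subgroup.closure {a, b * c} = Subgroup.closure {a, b, c} := by
    apply le_antisymm
    · rw [Subgroup.closure_le]
      rintro x (rfl | rfl)
      · exact Subgroup.subset_closure (by simp)
      · exact Subgroup.mul_mem _ (Subgroup.subset_closure (by simp))
          (Subgroup.subset_closure (by simp))
    · have hA : a ∈ Subgroup.closure {a, b * c} := Subgroup.subset_closure (by simp)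
      have hY : b * c ∈ Subgroup.closure {a, b * c} := Subgroup.subset_closure (by simp)
      have hci : c⁻¹ = c := inv_eq_of_mul_eq_one_left hc
      have hbi : b⁻¹ = b := inv_eq_of_mul_eq_one_left hb
      have hB : b ∈ Subgroup.closure {a, b * c} := by
        have e : b = a * ((b * c) * a * (b * c)⁻¹) * a := by
          rw [mul_inv_rev, hci, hbi]
          symm
          calc a * (b * c * a * (c * b)) * a = a * (b * (c * a) * c * b) * a := by
                simp only [mul_assoc]
            _ = a * (b * (a * c) * c * b) * a := by rw [hac]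
            _ = a * (b * a * (c * c) * b) * a := by simp only [mul_assoc]
            _ = a * (b * a * b) * a := by rw [hc, mul_one]
            _ = a * (a * b * a) * a := by rw [hab]
            _ = (a * a) * b * (a * a) := by simp only [mul_assoc]
            _ = b := by rw [ha, one_mul, mul_one]
        have ht := Subgroup.mul_mem _ (Subgroup.mul_mem _ hA (Subgroup.mul_mem _
          (Subgroup.mul_mem _ hY hA) (Subgroup.inv_mem _ hY))) hA
        rwa [← e] at ht
      have hC : c ∈ Subgroup.closure {a, b * c} := by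
        have e : c = b * (b * c) := by rw [← mul_assoc, hb, one_mul]
        have ht := Subgroup.mul_mem _ hB hY
        rwa [← e] at ht
      rw [Subgroup.closure_le]
      rintro x (rfl | rfl | rfl)
      · exact hA
      · exact hB
      · exact hC
  rw [← h6]
  exact h5

end Three

/-- the partner data -/
structure Part (D : Set G) (p : G → G) : Prop where
  mem : ∀ x ∈ D, p x ∈ D
  ne : ∀ x ∈ D, p x ≠ x
  comm : ∀ x ∈ D, ∀ y ∈ D, Commute x y ↔ (y = x ∨ y = p x)
  same : ∀ x ∈ D, ∀ y ∈ D, Commute x y ↔ Commute (p x) y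

theorem exists_part (hD : IsThreeTranspositionClass D) {d : G} (hd : d ∈ D)
    (hV : {y : G | y ∈ D ∧ Commute d y} = {v : G | v ∈ D ∧ ∀ e ∈ D, Commute v e ↔ Commute d e})
    (hm : {y : G | y ∈ D ∧ Commute d y}.ncard = 2) : ∃ p : G → G, Part D p := by
  have hC := conjClosed_of_class hD
  obtain ⟨u, v, huv, h⟩ := Set.ncard_eq_two.1 hm
  have hdm : d ∈ ({u, v} : Set G) := by rw [← h]; exact ⟨hd, Commute.refl d⟩
  obtain ⟨w, hwd, hw⟩ : ∃ w, w ≠ d ∧ {y : G | y ∈ D ∧ Commute d y} = {d, w} := by
    rcases hdm with rfl | hdm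
    · exact ⟨v, huv.symm, h⟩
    · rw [Set.mem_singleton_iff] at hdm
      subst hdm
      exact ⟨u, huv, by rw [h, Set.pair_comm]⟩
  have hwD : w ∈ D ∧ Commute d w := by
    have : w ∈ ({d, w} : Set G) := by simp
    rw [← hw] at this; exact this
  have hwV : ∀ e ∈ D, Commute w e ↔ Commute d e := by
    have : w ∈ {v : G | v ∈ D ∧ ∀ e ∈ D, Commute v e ↔ Commute d e} := by
      rw [← hV]; exact hwD
    exact this.2
  have hbase : ∀ y ∈ D, Commute d y ↔ (y = d ∨ y = w) := by
    intro y hy
    have h1 : y ∈ {y : G | y ∈ D ∧ Commute d y} ↔ y ∈ ({d, w} : Set G) := by rw [hw]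
    constructor
    · intro h2; exact h1.1 ⟨hy, h2⟩
    · intro h2; exact (h1.2 h2).2
  have hex : ∀ x ∈ D, ∃ y, y ∈ D ∧ y ≠ x ∧ (∀ z ∈ D, Commute x z ↔ (z = x ∨ z = y)) ∧
      ∀ z ∈ D, Commute x z ↔ Commute y z := by
    intro x hx
    obtain ⟨g, rfl⟩ := exists_conj_of_class hD hd hx
    have key : ∀ y z : G, Commute (g * y * g⁻¹) z ↔ Commute y (g⁻¹ * z * g⁻¹⁻¹) := by
      intro y z
      have h1 := commute_conj_iff (a := y) (b := g⁻¹ * z * g⁻¹⁻¹) g
      have e : g * (g⁻¹ * z * g⁻¹⁻¹) * g⁻¹ = z := by group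
      rw [e] at h1
      exact h1
    refine ⟨g * w * g⁻¹, hC g w hwD.1, fun h => hwd (mul_left_cancel (mul_right_cancel h)), ?_, ?_⟩
    · intro z hz
      rw [key, hbase _ (hC g⁻¹ z hz)]
      constructor
      · rintro (h | h)
        · left; rw [← h]; group
        · right; rw [← h]; group
      · rintro (rfl | rfl)
        · left; group
        · right; group
    · intro z hz
      rw [key, key]
      exact (hwV _ (hC g⁻¹ z hz)).symm
  classical
  choose! p hp using hex
  exact ⟨p, fun x hx => (hp x hx).1, fun x hx => (hp x hx).2.1, fun x hx => (hp x hx).2.2.1,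
    fun x hx => (hp x hx).2.2.2⟩

section PartLemmas

variable {p : G → G}

theorem p_conj (hC : ConjClosed D) (P : Part D p) {x g : G} (hx : x ∈ D) :
    p (g * x * g⁻¹) = g * p x * g⁻¹ := by
  have h1 := P.comm _ (hC g x hx) _ (hC g _ (P.mem x hx))
  have h2 : Commute x (p x) := (P.comm x hx _ (P.mem x hx)).2 (Or.inr rfl)
  rcases h1.1 ((commute_conj_iff g).2 h2) with h | h
  · exact absurd (mul_left_cancel (mul_right_cancel h)) (P.ne x hx)
  · exact h.symm

theorem zz_conj (hC : ConjClosed D) (P : Part D p) {x g : G} (hx : x ∈ D) :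
    (g * x * g⁻¹) * p (g * x * g⁻¹) = g * (x * p x) * g⁻¹ := by
  rw [p_conj hC P hx]; group

theorem comm_p (P : Part D p) {x : G} (hx : x ∈ D) : Commute x (p x) :=
  (P.comm x hx _ (P.mem x hx)).2 (Or.inr rfl)

theorem zz_sq (hE : IsThreeTranspositionSet D) (P : Part D p) {x : G} (hx : x ∈ D) :
    (x * p x) * (x * p x) = 1 := by
  calc (x * p x) * (x * p x) = x * (p x * x) * p x := by simp only [mul_assoc]
    _ = x * (x * p x) * p x := by rw [(comm_p P hx).eq]
    _ = (x * x) * (p x * p x) := by simp only [mul_assoc]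
    _ = 1 := by rw [mul_self hE hx, mul_self hE (P.mem x hx), one_mul]

/-- `(z_x y)⁴ = 1` for noncommuting `x`, `y` -/
theorem zz_four (hE : IsThreeTranspositionSet D) (P : Part D p) {x y : G}
    (hx : x ∈ D) (hy : y ∈ D) (hxy : ¬ Commute x y) : (x * p x * y) ^ 4 = 1 := by
  have hpx := P.mem x hx
  have hpy : ¬ Commute (p x) y := fun h => hxy ((P.same x hx y hy).2 h)
  have h1 := coxeter_four (a := x) (b := y) (c := p x) (mul_self hE hx) (mul_self hE hy)
    (mul_self hE hpx) (comm_p P hx).eq (braid hE hx hy hxy) (braid hE hpx hy hpy)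
  have e : x * p x * y = p x * (x * (y * p x)) * (p x)⁻¹ := by
    rw [(comm_p P hx).eq]; group
  rw [e, conj_pow, h1]; group

/-- the partner of `y` is its conjugate by `z_x` -/
theorem p_eq (hE : IsThreeTranspositionSet D) (hC : ConjClosed D) (P : Part D p) {x y : G}
    (hx : x ∈ D) (hy : y ∈ D) (hxy : ¬ Commute x y) :
    p y = (x * p x) * y * (x * p x)⁻¹ := by
  have hpx := P.mem x hx
  set z := x * p x with hz
  have hz2 : z * z = 1 := zz_sq hE P hx
  have hzi : z⁻¹ = z := inv_eq_of_mul_eq_one_left hz2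
  have h4 : (z * y) ^ 4 = 1 := zz_four hE P hx hy hxy
  have hyy := mul_self hE hy
  have hcomm : Commute y (z * y * z⁻¹) := by
    rw [hzi]
    show y * (z * y * z) = (z * y * z) * y
    have h5 : (z * y) * (z * y) * ((z * y) * (z * y)) = 1 := by
      rw [← h4]; simp only [pow_succ, pow_zero, one_mul, mul_assoc]
    have h6 : (z * y * z) * y = ((z * y) * (z * y))⁻¹ := by
      rw [eq_inv_iff_mul_eq_one, ← h5]; simp only [mul_assoc]
    rw [h6, mul_inv_rev, mul_inv_rev, inv_eq hE hy, hzi]
    simp only [mul_assoc]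
  rcases (P.comm y hy _ (hC z y hy)).1 hcomm with h | h
  · exfalso
    have h7 : Commute z y := conj_eq_self_iff.1 h
    have h8 := (commute_mul_iff hE hx hpx hy (P.ne x hx).symm (comm_p P hx)).1 h7.symm
    exact hxy h8.1.symm
  · exact h.symm

/-- `z_x z_y = z_{yxy}` -/
theorem zz_mul (hE : IsThreeTranspositionSet D) (hC : ConjClosed D) (P : Part D p) {x y : G}
    (hx : x ∈ D) (hy : y ∈ D) (hxy : ¬ Commute x y) :
    (x * p x) * (y * p y) = y * (x * p x) * y⁻¹ := by
  rw [p_eq hE hC P hx hy hxy]
  set z := x * p x with hz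
  have hz2 : z * z = 1 := zz_sq hE P hx
  have hzi : z⁻¹ = z := inv_eq_of_mul_eq_one_left hz2
  have h4 : (z * y) ^ 4 = 1 := zz_four hE P hx hy hxy
  have hyy := mul_self hE hy
  rw [hzi, inv_eq hE hy]
  have h5 : (z * (y * (z * y * z))) * (y * z * y) = 1 := by
    rw [← h4]; simp only [pow_succ, pow_zero, one_mul, mul_assoc]
  rw [eq_inv_of_mul_eq_one_left h5, mul_inv_rev, mul_inv_rev, inv_eq hE hy, hzi]
  simp only [mul_assoc]

theorem zz_comm (hE : IsThreeTranspositionSet D) (hC : ConjClosed D) (P : Part D p) {x y : G}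
    (hx : x ∈ D) (hy : y ∈ D) (hxy : ¬ Commute x y) :
    (x * p x) * (y * p y) = (y * p y) * (x * p x) := by
  rw [zz_mul hE hC P hx hy hxy, zz_mul hE hC P hy hx (fun h => hxy h.symm),
    ← zz_conj hC P hx, ← zz_conj hC P hy, inv_eq hE hx, inv_eq hE hy, braid hE hx hy hxy]

/-- every member lies in one of three pairs -/
theorem mem_of (hE : IsThreeTranspositionSet D) (hC : ConjClosed D) (P : Part D p) {a b e : G}
    (ha : a ∈ D) (hb : b ∈ D) (he : e ∈ D) (hab : ¬ Commute a b) :
    Commute a e ∨ Commute b e ∨ Commute (b * a * b) e := by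
  by_contra hcon
  push Not at hcon
  obtain ⟨h1, h2, h3⟩ := hcon
  have hcD : b * a * b ∈ D := third_mem hE hC hb ha
  set c := b * a * b with hc
  -- `z_a z_b = z_c`
  have hc' : b * a * b⁻¹ = c := by rw [inv_eq hE hb]
  have hzc : (a * p a) * (b * p b) = c * p c := by
    rw [zz_mul hE hC P ha hb hab, ← zz_conj hC P ha, hc']
  -- conjugate by `e`
  have ea := zz_mul hE hC P ha he h1
  have eb := zz_mul hE hC P hb he h2
  have ec := zz_mul hE hC P hcD he h3
  have hcomm := zz_comm hE hC P hb he h2
  have hee := zz_sq hE P he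
  have h5 : e * (c * p c) * e⁻¹ = c * p c := by
    rw [← hzc]
    calc e * (a * p a * (b * p b)) * e⁻¹ = (e * (a * p a) * e⁻¹) * (e * (b * p b) * e⁻¹) := by group
      _ = ((a * p a) * (e * p e)) * ((b * p b) * (e * p e)) := by rw [← ea, ← eb]
      _ = (a * p a) * (e * p e) * ((e * p e) * (b * p b)) := by rw [hcomm]
      _ = (a * p a) * ((e * p e) * (e * p e)) * (b * p b) := by simp only [mul_assoc]
      _ = a * p a * (b * p b) := by rw [hee, mul_one]
  rw [← ec] at h5
  have h6 : e * p e = 1 := by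
    have : c * p c * (e * p e) = c * p c * 1 := by rw [h5, mul_one]
    exact mul_left_cancel this
  have h7 : p e = e := by
    calc p e = (e * e) * p e := by rw [mul_self hE he, one_mul]
      _ = e * (e * p e) := by rw [mul_assoc]
      _ = e := by rw [h6, mul_one]
  exact P.ne e he h7

end PartLemmas

/-- **The theorem.** -/
theorem main (hD : IsThreeTranspositionClass D) {d b : G} (hd : d ∈ D) (hb : b ∈ D)
    (hdb : ¬ Commute d b)
    (hV : {y : G | y ∈ D ∧ Commute d y} = {v : G | v ∈ D ∧ ∀ e ∈ D, Commute v e ↔ Commute d e})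
    (hm : {y : G | y ∈ D ∧ Commute d y}.ncard = 2) : Nonempty (G ≃* Equiv.Perm (Fin 4)) := by
  obtain ⟨p, P⟩ := exists_part hD hd hV hm
  have hE := hD.1
  have hC := conjClosed_of_class hD
  have hpd := P.mem d hd
  have hpdb : ¬ Commute (p d) b := fun h => hdb ((P.same d hd b hb).2 h)
  obtain ⟨f⟩ := permFour (a := d) (b := b) (c := p d) (mul_self hE hd) (mul_self hE hb)
    (mul_self hE hpd) (comm_p P hd).eq (braid hE hd hb hdb) (braid hE hpd hb hpdb)
    (P.ne d hd).symm
  have hdS : d ∈ Subgroup.closure {d, b, p d} := Subgroup.subset_closure (by simp)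
  have hbS : b ∈ Subgroup.closure {d, b, p d} := Subgroup.subset_closure (by simp)
  have hpS : p d ∈ Subgroup.closure {d, b, p d} := Subgroup.subset_closure (by simp)
  have htop : Subgroup.closure {d, b, p d} = ⊤ := by
    rw [← top_le_iff, ← hD.2.2, Subgroup.closure_le]
    intro e he
    rcases mem_of hE hC P hd hb he hdb with h | h | h
    · rcases (P.comm d hd e he).1 h with rfl | rfl
      · exact hdS
      · exact hpS
    · rcases (P.comm b hb e he).1 h with rfl | rfl
      · exact hbS
      · rw [p_eq hE hC P hd hb hdb]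
        exact Subgroup.mul_mem _ (Subgroup.mul_mem _ (Subgroup.mul_mem _ hdS hpS) hbS)
          (Subgroup.inv_mem _ (Subgroup.mul_mem _ hdS hpS))
    · have hcD : b * d * b ∈ D := third_mem hE hC hb hd
      rcases (P.comm _ hcD e he).1 h with rfl | rfl
      · exact Subgroup.mul_mem _ (Subgroup.mul_mem _ hbS hdS) hbS
      · have e1 : b * d * b = b * d * b⁻¹ := by rw [inv_eq hE hb]
        rw [e1, p_conj hC P hd]
        exact Subgroup.mul_mem _ (Subgroup.mul_mem _ hbS hpS) (Subgroup.inv_mem _ hbS)
  rw [htop] at f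
  exact ⟨Subgroup.topEquiv.symm.trans f⟩

end Cfsg.Agent.H805.SymFour
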