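import Cfsg.Agent.H805.NilSp
import Cfsg.Agent.H812.SuzSeven
import Cfsg.Agent.H245.SuzInv
import Cfsg.Agent.KFacts.SuzLarge
import Cfsg.Agent.S1694

/-!
# Nilpotent subgroups of Suz (helper805, task 429 for S2242)

`small_Suz` : `|N| ^ 2 < |G|` for nilpotent `N`.
-/

set_option autoImplicit false

namespace Cfsg.Agent.H805.NilSp

open Cfsg Subgroup Cfsg.Agent.H972 Cfsg.Agent.H972.NSm
open Cfsg.Spor (Suz)
open Cfsg.Agent.SporadicRecognition.SuzOrder Cfsg.Agent.SuzThree.CentA
  Cfsg.Agent.SuzThree.QZero Cfsg.Agent.KFacts.SuzLFour Cfsg.Agent.KFacts.SuzTwoB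

universe u

/-- the centralizers of the elements of order 7 -/
theorem cent_seven_Suz {x : Spor.Suz} (hx : orderOf x = 7) :
    Nat.card ↥(centralizer ({x} : Set Spor.Suz)) = 84 := by
  have hc : Nat.card Spor.Suz = 448345497600 := card_Suz
  have hf : Finite Spor.Suz := Nat.finite_of_card_ne_zero (by rw [hc]; norm_num)
  have h7 : Fact (Nat.Prime 7) := ⟨by norm_num⟩
  obtain ⟨y, hy⟩ := exists_prime_orderOf_dvd_card' (G := ↥L) 7 (by rw [card_L]; norm_num)
  have hy' : orderOf (y : Spor.Suz) = 7 := by rw [Subgroup.orderOf_coe]; exact hy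
  rw [card_cent_prime_eq (by norm_num) (by rw [hc]; norm_num) hy' hx, ← (H812.SuzSeven.main_card y.2 hy').1,
    H812.Transport.centralizer_zpowers]

/-- nilpotent subgroups of the centralizer of a 2A involution -/
theorem nle_z0 : NLE 663552 ↥(centralizer ({z0} : Set Spor.Suz)) := by
  have hc : Nat.card Spor.Suz = 448345497600 := card_Suz
  have hf : Finite Spor.Suz := Nat.finite_of_card_ne_zero (by rw [hc]; norm_num)
  have hcc : Nat.card ↥(centralizer ({z0} : Set Spor.Suz)) = 3317760 := KFacts.SuzCent.card_C1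
  intro N hN
  have h5 := five_le_index (C := ↥(centralizer ({z0} : Set Spor.Suz))) (k := 7) ?_ (by rw [hcc]; norm_num) hN
  · have h1 := N.card_mul_index
    rw [hcc] at h1
    have h2 : Nat.card ↥N * 5 ≤ Nat.card ↥N * N.index := Nat.mul_le_mul_left _ h5
    omega
  · intro W hW hWp
    have h1 : W.map (centralizer ({z0} : Set Spor.Suz)).subtype ≤ Q0 := by
      refine KFacts.SuzLarge.hR (hWp.map _) ?_ ?_
      · rintro _ ⟨w, -, rfl⟩
        exact mem_centralizer_singleton_iff.1 w.2
      · rintro u hu _ ⟨w, hw, rfl⟩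
        exact ⟨_, hW.conj_mem w hw ⟨u, mem_centralizer_singleton_iff.2 hu⟩, rfl⟩
    have h2 := Subgroup.card_le_of_le h1
    rw [card_map_of_injective (Subgroup.subtype_injective _)] at h2
    refine h2.trans ?_
    exact KFacts.SuzR.card_R.le

theorem small_Suz' : NSm.Small Spor.Suz := by
  have hc : Nat.card Spor.Suz = 448345497600 := card_Suz
  have hf : Finite Spor.Suz := Nat.finite_of_card_ne_zero (by rw [hc]; norm_num)
  have hs : IsSimpleGroup Spor.Suz := Cfsg.Agent.S1694.result.1
  have h7 : SmallAt 7 Spor.Suz := smallAt_of_le (b := 84) (by norm_num) (by rw [hc]; norm_num)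
    fun x hx => (cent_seven_Suz hx).le
  have hone : ∀ x : Spor.Suz, orderOf x = 2 → x ≠ 1 ∧ x * x = 1 := by
    intro x hx
    refine ⟨?_, by rw [← pow_two, ← hx, pow_orderOf_eq_one]⟩
    rintro rfl
    rw [orderOf_one] at hx
    omega
  have h2 : SmallAt 2 Spor.Suz := by
    refine smallAt_of_cent Nat.prime_two fun x hx => ⟨663552, ?_, by rw [hc]; norm_num⟩
    obtain ⟨hx1, hxx⟩ := hone x hx
    rcases SporRec.SuzCl.two x hxx hx1 with ⟨g, hg⟩ | ⟨g, hg⟩
    · have h3 : SporRec.SuzCl.ia = z0 := KFacts.SuzY.z0_eq.symm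
      rw [h3] at hg
      exact nle_cent_isConj (isConj_iff.2 ⟨g, hg⟩) nle_z0
    · refine nle_of_card ?_
      have h3 : SporRec.SuzCl.ie = e0 := by
        show (PresentedGroup.of Suz.Gen.e : Cfsg.Spor.Suz) = el [Suz.Gen.e]
        unfold el
        rw [List.map_cons, List.map_nil, List.prod_cons, List.prod_nil, mul_one]
      rw [h3] at hg
      rw [card_cent_isConj (isConj_iff.2 ⟨g, hg⟩)]
      exact (card_CE).le.trans (by norm_num)
  have hcent : ∀ t : Spor.Suz, orderOf t = 2 → Nat.card ↥(centralizer ({t} : Set Spor.Suz)) ∣ 2 ^ 13 * 3 ^ 4 * 5 * 7 := by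
    intro t ht
    obtain ⟨ht1, htt⟩ := hone t ht
    rcases H245.SuzInv.card_cent t ht1 htt with h | h <;> rw [h] <;> norm_num
  refine small_of_chk 13 54729675 82 (by rw [hc]; norm_num) (by norm_num) (by norm_num) [7]
    [11, 13] [(7, 11), (7, 13), (11, 7), (13, 7)] [1, 3, 5, 7, 9, 11, 13, 15, 21, 25, 27, 33, 35, 39, 45, 55, 63, 65, 75, 77, 81]
    (by decide +kernel) ?_ ?_ ?_ h2 (by decide +kernel)
  · intro r hr
    rw [List.mem_singleton] at hr
    subst hr
    exact h7
  · intro r hr
    simp only [List.mem_cons, List.not_mem_nil, or_false] at hr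
    rcases hr with rfl | rfl
    · refine ⟨by norm_num, by norm_num, by norm_num, NoComm.symm (noComm_of_not_dvd fun t ht hpd => ?_)⟩
      have := hpd.trans (hcent t ht)
      norm_num at this
    · refine ⟨by norm_num, by norm_num, by norm_num, NoComm.symm (noComm_of_not_dvd fun t ht hpd => ?_)⟩
      have := hpd.trans (hcent t ht)
      norm_num at this
  · intro p hp
    simp only [List.mem_cons, List.not_mem_nil, or_false] at hp
    rcases hp with rfl | rfl | rfl | rfl
    · exact ⟨by norm_num, by norm_num, noComm_of_not_dvd fun x hx => by rw [cent_seven_Suz hx]; norm_num⟩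
    · exact ⟨by norm_num, by norm_num, noComm_of_not_dvd fun x hx => by rw [cent_seven_Suz hx]; norm_num⟩
    · exact ⟨by norm_num, by norm_num, NoComm.symm (noComm_of_not_dvd fun x hx => by
        rw [cent_seven_Suz hx]; norm_num)⟩
    · exact ⟨by norm_num, by norm_num, NoComm.symm (noComm_of_not_dvd fun x hx => by
        rw [cent_seven_Suz hx]; norm_num)⟩

theorem small_Suz {G : Type u} [Group G] [Finite G] (h : Cfsg.Spor.IsoSuz G)
    (_hI : ∀ (H : Type u) [Group H] [Finite H], IsSimpleGroup H → ¬ IsMulCommutative H → Nat.card H < Nat.card G →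
      NSm.Small H) : NSm.Small G := by
  obtain ⟨e⟩ := h
  exact small_Suz'.congr e.symm

end Cfsg.Agent.H805.NilSp
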