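import Cfsg.Agent.H993.AbTool
import Cfsg.Agent.H805.NilSuz
import Cfsg.Agent.H265.SuzCent
import Cfsg.Agent.LThreeBX.Main

/-!
# Abelian subgroups of Suz (helper805, for S2501)

* `abLE_of_large` : `|A| ^ 2 ≤ 2 |Q|` for the abelian subgroups of an extraspecial group;
* `ab3_Suz` : `|A| ^ 3 < |G|` for abelian `A`.
-/

set_option autoImplicit false

namespace Cfsg.Agent.H805.Ab

open Cfsg Subgroup Cfsg.Agent.H498.Ab Cfsg.Agent.H993.AbTool Cfsg.Agent.OrdDiv

/-- the abelian subgroups of an extraspecial group -/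
theorem abLE_of_large {G : Type*} [Group G] [Finite G] {Q : Subgroup G} {z : G} (h : Co2Type.Quad.Large Q z) {b : ℕ}
    (hb : 2 * Nat.card Q < (b + 1) ^ 2) : AbLE b Q := by
  refine abLE_of_two (z := ⟨z, h.z_mem⟩) (fun x y => ?_) ?_
  · rcases h.comm x x.2 y y.2 with h1 | h1
    · exact Or.inl (Subtype.ext h1)
    · right
      apply Subtype.ext
      show (x : G) * y = z * (y * x)
      rw [h1, ← h.comm_z _ (mul_mem y.2 x.2)]
  · refine lt_of_le_of_lt (Nat.mul_le_mul_right _ ?_) hb
    have h1 : ((center Q : Subgroup Q) : Set Q) ⊆ {1, ⟨z, h.z_mem⟩} := by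
      intro x hx
      rcases h.mem_center.1 hx with h2 | h2
      · exact Or.inl (Subtype.ext h2)
      · exact Or.inr (Subtype.ext h2)
    have h2 : Nat.card (center Q) = ((center Q : Subgroup Q) : Set Q).ncard := Nat.card_coe_set_eq _
    rw [h2]
    exact (Set.ncard_le_ncard h1 (Set.toFinite _)).trans ((Set.ncard_insert_le _ _).trans (by simp))

/-- a simple group of composite order -/
theorem abLE_simple {G : Type*} [Group G] [Finite G] [IsSimpleGroup G] (hp : ¬ (Nat.card G).Prime) {b : ℕ}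
    (hb : Nat.card G < (b + 1) ^ 2) : AbLE b G := by
  refine abLE_of_simple (S := G) (f := MonoidHom.id G) (k := 1) ?_ Function.surjective_id ?_ (by rwa [one_mul])
  · by_contra hcon
    push Not at hcon
    apply hp
    let _ : CommGroup G := { (inferInstance : Group G) with mul_comm := hcon }
    exact IsSimpleGroup.prime_card
  · have : (MonoidHom.id G).ker = ⊥ := by
      rw [MonoidHom.ker_eq_bot_iff]
      exact Function.injective_id
    rw [this, Subgroup.card_bot]

/-- elements of order `p` with centralizers of order `2 ^ k m` -/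
theorem at3_of_odd {G : Type*} [Group G] [Finite G] {p k m : ℕ} (h2 : At3 2 G) (hp : p.Prime) (hm0 : 0 < m)
    (hm : m ^ 3 < Nat.card G)
    (h : ∀ x : G, orderOf x = p → Nat.card ↥(centralizer ({x} : Set G)) ∣ 2 ^ k * m) : At3 p G := by
  intro A hA hd
  by_cases h2d : 2 ∣ Nat.card A
  · exact h2 A hA h2d
  obtain ⟨x, hx, -, hle⟩ := exists_le_cent hp hA hd
  have h1 := (Subgroup.card_dvd_of_le hle).trans (h x hx)
  have h3 := (((Nat.Prime.coprime_iff_not_dvd Nat.prime_two).2 h2d).symm.pow_right k).dvd_of_dvd_mul_left h1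
  exact (Nat.pow_le_pow_left (Nat.le_of_dvd hm0 h3) 3).trans_lt hm

namespace SuzR

open Cfsg.Spor (Suz)
open Cfsg.Agent.SporadicRecognition.SuzOrder Cfsg.Agent.SuzThree.CentA
  Cfsg.Agent.SuzThree.QZero Cfsg.Agent.KFacts.SuzLFour Cfsg.Agent.KFacts.SuzTwoB Cfsg.Agent.H805.NilSp

theorem hcard : Nat.card Spor.Suz = 448345497600 := card_Suz

theorem fin : Finite Spor.Suz := Nat.finite_of_card_ne_zero (by rw [hcard]; norm_num)

theorem abLE_z0 : AbLE 2560 ↥(centralizer ({z0} : Set Spor.Suz)) := by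
  have := fin
  have h1 : AbLE 160 LThreeBX.SuzQ.SU := by
    have := LThreeBX.SuzQ.simple
    have := LThreeBX.SuzQ.finC1
    exact abLE_simple (by rw [LThreeBX.SuzQ.card_SU]; norm_num) (by rw [LThreeBX.SuzQ.card_SU]; norm_num)
  have h2 : AbLE 16 Q0 := abLE_of_large KFacts.SuzLarge.large (by rw [KFacts.SuzR.card_R]; norm_num)
  have h3 : AbLE 16 ↥(Q0.subgroupOf (centralizer ({z0} : Set Spor.Suz))) :=
    h2.congr (Subgroup.subgroupOfEquivOfLe Q0_le).symm
  have : (Q0.subgroupOf (centralizer ({z0} : Set Spor.Suz))).Normal := LThreeBX.SuzQ.Q0_normal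
  exact AbLE.of_quotient (Q0.subgroupOf (centralizer ({z0} : Set Spor.Suz))) h1 h3

theorem abLE_e0 : AbLE 1128 ↥(centralizer ({e0} : Set Spor.Suz)) := by
  have := fin
  have hL : L ≤ centralizer ({e0} : Set Spor.Suz) := fun l hl => mem_centralizer_singleton_iff.2 (e0_comm l hl).symm
  have h1 : AbLE 141 L := by
    have := CTwoTab.SuzPlane.simple_L
    exact abLE_simple (by rw [card_L]; norm_num) (by rw [card_L]; norm_num)
  have h2 := AbLE.of_index (L.subgroupOf (centralizer ({e0} : Set Spor.Suz)))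
    (h1.congr (Subgroup.subgroupOfEquivOfLe hL).symm)
  have h3 := (L.subgroupOf (centralizer ({e0} : Set Spor.Suz))).card_mul_index
  rw [Nat.card_congr (Subgroup.subgroupOfEquivOfLe hL).toEquiv, card_L, card_CE] at h3
  have h4 : (L.subgroupOf (centralizer ({e0} : Set Spor.Suz))).index = 8 := by omega
  rw [h4] at h2
  exact h2

theorem abLE_isConj {G : Type*} [Group G] {b : ℕ} {t y : G} (h : IsConj t y)
    (hb : AbLE b ↥(centralizer ({t} : Set G))) : AbLE b ↥(centralizer ({y} : Set G)) := by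
  obtain ⟨g, hg⟩ := isConj_iff.1 h
  have h1 : (centralizer ({t} : Set G)).map (MulAut.conj g).toMonoidHom = centralizer ({y} : Set G) := by
    ext c
    rw [Subgroup.mem_map, mem_centralizer_singleton_iff, ← hg]
    constructor
    · rintro ⟨d, hd, rfl⟩
      have hd' := mem_centralizer_singleton_iff.1 hd
      show g * d * g⁻¹ * (g * t * g⁻¹) = g * t * g⁻¹ * (g * d * g⁻¹)
      calc g * d * g⁻¹ * (g * t * g⁻¹) = g * (d * t) * g⁻¹ := by group
        _ = g * (t * d) * g⁻¹ := by rw [hd']
        _ = g * t * g⁻¹ * (g * d * g⁻¹) := by group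
    · intro hc
      refine ⟨g⁻¹ * c * g, mem_centralizer_singleton_iff.2 ?_, ?_⟩
      · calc g⁻¹ * c * g * t = g⁻¹ * (c * (g * t * g⁻¹)) * g := by group
          _ = g⁻¹ * (g * t * g⁻¹ * c) * g := by rw [hc]
          _ = t * (g⁻¹ * c * g) := by group
      · show g * (g⁻¹ * c * g) * g⁻¹ = c
        group
  exact hb.congr (((centralizer ({t} : Set G)).equivMapOfInjective _ (MulAut.conj g).injective).trans
    (MulEquiv.subgroupCongr h1))

theorem at3_two : At3 2 Spor.Suz := by
  have := fin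
  refine at3_of_cent (b := 2560) Nat.prime_two (by rw [hcard]; norm_num) fun x hx => ?_
  have hxx : x * x = 1 := by rw [← pow_two, ← hx, pow_orderOf_eq_one]
  have hx1 : x ≠ 1 := by
    rintro rfl
    rw [orderOf_one] at hx
    omega
  rcases CTwoTab.Suz.classes hxx hx1 with h | h
  · exact abLE_isConj h abLE_z0
  · exact (abLE_isConj h abLE_e0).mono (by norm_num)

end SuzR

theorem ab3_Suz' : Ab3 Spor.Suz := by
  have := SuzR.fin
  refine ab3_of_chk SuzR.hcard [(2, 13), (3, 7), (5, 2), (7, 1), (11, 1), (13, 1)] (by decide +kernel)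
    [2, 5, 7, 11, 13] [] ?_ (by simp) (by decide +kernel)
  intro p hp
  simp only [List.mem_cons, List.not_mem_nil, or_false] at hp
  rcases hp with rfl | rfl | rfl | rfl | rfl
  · exact SuzR.at3_two
  · exact at3_of_odd SuzR.at3_two (by norm_num) (by norm_num : 0 < 2025) (by rw [SuzR.hcard]; norm_num)
      fun x hx => H265.SuzCent.dvd_five hx
  · exact at3_of_odd SuzR.at3_two (by norm_num) (by norm_num : 0 < 189) (by rw [SuzR.hcard]; norm_num)
      fun x hx => H265.SuzCent.dvd_seven hx
  · exact at3_of_odd SuzR.at3_two (by norm_num) (by norm_num : 0 < 11) (by rw [SuzR.hcard]; norm_num)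
      fun x hx => H265.SuzCent.dvd_eleven hx
  · exact at3_of_odd SuzR.at3_two (by norm_num) (by norm_num : 0 < 13) (by rw [SuzR.hcard]; norm_num)
      fun x hx => H265.SuzCent.dvd_thirteen hx

/-- **The abelian subgroups of the Suzuki group.** -/
theorem ab3_Suz {G : Type*} [Group G] [Finite G] [IsSimpleGroup G] (h : Cfsg.Spor.IsoSuz G) : Ab3 G := by
  obtain ⟨e⟩ := h
  exact ab3_Suz'.congr e.symm

end Cfsg.Agent.H805.Ab
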