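import Mathlib

namespace Cfsg.Agent.H805.ASeven

open Equiv.Perm

variable {n : ℕ}

/-- If an odd permutation commutes with the even permutation `x`, the centralizer of `x` in the
alternating group has half the order of the one in the symmetric group. -/
theorem card_cent (x : ↥(alternatingGroup (Fin n))) (s : Equiv.Perm (Fin n))
    (hs : s * x.1 = x.1 * s) (hsg : Equiv.Perm.sign s = -1) :
    Nat.card (Subgroup.centralizer ({x.1} : Set (Equiv.Perm (Fin n)))) =
      Nat.card (Subgroup.centralizer ({x} : Set (↥(alternatingGroup (Fin n))))) * 2 := by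
  classical
  set C := Subgroup.centralizer ({x.1} : Set (Equiv.Perm (Fin n))) with hC
  let φ : C →* ℤˣ := Equiv.Perm.sign.comp C.subtype
  have hsC : s ∈ C := by
    rw [hC, Subgroup.mem_centralizer_iff]
    intro h hh
    rw [Set.mem_singleton_iff] at hh
    rw [hh]; exact hs.symm
  have hsurj : Function.Surjective φ := by
    intro u
    rcases Int.units_eq_one_or u with rfl | rfl
    · exact ⟨1, map_one _⟩
    · exact ⟨⟨s, hsC⟩, hsg⟩
  have hidx : φ.ker.index = 2 := by
    rw [Subgroup.index_ker, MonoidHom.range_eq_top.mpr hsurj]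
    simp
  have hker : Nat.card φ.ker =
      Nat.card (Subgroup.centralizer ({x} : Set (↥(alternatingGroup (Fin n))))) := by
    apply Nat.card_congr
    refine ⟨fun c => ⟨⟨c.1.1, ?_⟩, ?_⟩, fun c => ⟨⟨c.1.1, ?_⟩, ?_⟩, ?_, ?_⟩
    · have := c.2
      rw [MonoidHom.mem_ker] at this
      rw [Equiv.Perm.mem_alternatingGroup]
      exact this
    · rw [Subgroup.mem_centralizer_iff]
      intro h hh
      rw [Set.mem_singleton_iff] at hh
      have := Subgroup.mem_centralizer_iff.mp c.1.2
      have h2 := this x.1 rfl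
      subst hh
      exact Subtype.ext h2
    · have := c.2
      rw [Subgroup.mem_centralizer_iff] at this
      rw [hC, Subgroup.mem_centralizer_iff]
      intro h hh
      rw [Set.mem_singleton_iff] at hh
      have h2 := this x rfl
      subst hh
      exact congrArg Subtype.val h2
    · rw [MonoidHom.mem_ker]
      exact Equiv.Perm.mem_alternatingGroup.mp c.1.2
    · intro c; rfl
    · intro c; rfl
  rw [← hker, ← hidx, Subgroup.card_mul_index]

/-- The index of the centralizer, for a nontrivial element of given centralizer order. -/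
theorem index_cent (x : ↥(alternatingGroup (Fin 7))) (s : Equiv.Perm (Fin 7))
    (hs : s * x.1 = x.1 * s) (hsg : Equiv.Perm.sign s = -1) (c k : ℕ)
    (hc : Nat.card (Subgroup.centralizer ({x.1} : Set (Equiv.Perm (Fin 7)))) = c * 2)
    (hk : c * k = 2520) :
    (Subgroup.centralizer ({x} : Set (↥(alternatingGroup (Fin 7))))).index = k := by
  have h1 := card_cent x s hs hsg
  have h2 : Nat.card (Subgroup.centralizer ({x} : Set (↥(alternatingGroup (Fin 7))))) = c := by
    omega
  have h3 := Subgroup.card_mul_index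
    (Subgroup.centralizer ({x} : Set (↥(alternatingGroup (Fin 7)))))
  have h4 : Nat.card (↥(alternatingGroup (Fin 7))) = 2520 := by
    rw [nat_card_alternatingGroup]
    simp [Nat.factorial]
  rw [h2, h4] at h3
  have hc0 : 0 < c := by
    rcases Nat.eq_zero_or_pos c with h | h
    · rw [h] at hk; simp at hk
    · exact h
  exact Nat.eq_of_mul_eq_mul_left hc0 (by rw [h3, hk])

/-- A convenient form: the witnesses. -/
theorem witness (x : Equiv.Perm (Fin 7)) (hx : Equiv.Perm.sign x = 1) (s : Equiv.Perm (Fin 7))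
    (hs : s * x = x * s) (hsg : Equiv.Perm.sign s = -1) (m : Multiset ℕ) (hm : x.cycleType = m)
    (c k : ℕ)
    (hc : (Fintype.card (Fin 7) - m.sum).factorial * m.prod *
        (∏ n ∈ m.toFinset, (m.count n).factorial) = c * 2)
    (hk : c * k = 2520) (hk1 : k ≠ 1) :
    k ∈ {k : ℕ | ∃ x : ↥(alternatingGroup (Fin 7)),
      x ∉ Subgroup.center (↥(alternatingGroup (Fin 7))) ∧
      k = (Subgroup.centralizer ({x} : Set (↥(alternatingGroup (Fin 7))))).index} := by
  have hxA : x ∈ alternatingGroup (Fin 7) := Equiv.Perm.mem_alternatingGroup.mpr hx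
  have hidx := index_cent ⟨x, hxA⟩ s hs hsg c k
    (by rw [Equiv.Perm.nat_card_centralizer, hm]; exact hc) hk
  refine ⟨⟨x, hxA⟩, ?_, hidx.symm⟩
  intro hcen
  apply hk1
  rw [← hidx, Subgroup.index_eq_one]
  rw [eq_top_iff]
  intro g _
  rw [Subgroup.mem_centralizer_iff]
  intro h hh
  rw [Set.mem_singleton_iff] at hh
  rw [hh]
  exact (Subgroup.mem_center_iff.mp hcen g).symm

/-- The cycle type of a cycle given by a list. -/
theorem cyc (l : List (Fin 7)) (hl : l.Nodup) (h2 : 2 ≤ l.length) :
    (l.formPerm).cycleType = {l.length} := by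
  rw [(List.isCycle_formPerm hl h2).cycleType]
  congr 1
  rw [List.support_formPerm_of_nodup l hl (by rintro x rfl; simp at h2)]
  exact List.toFinset_card_of_nodup hl

theorem cyc2 (l l' : List (Fin 7)) (hl : l.Nodup) (h2 : 2 ≤ l.length) (hl' : l'.Nodup)
    (h2' : 2 ≤ l'.length) (hd : ∀ a : Fin 7, a ∈ l → ¬ a ∈ l') :
    (l.formPerm * l'.formPerm).cycleType = {l.length} + {l'.length} := by
  rw [Equiv.Perm.Disjoint.cycleType_mul, cyc l hl h2, cyc l' hl' h2']
  exact (List.formPerm_disjoint_iff hl hl' h2 h2').mpr (fun a h1 h2 => hd a h1 h2)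

theorem cyc3 (l l' l'' : List (Fin 7)) (hl : l.Nodup) (h2 : 2 ≤ l.length) (hl' : l'.Nodup)
    (h2' : 2 ≤ l'.length) (hl'' : l''.Nodup) (h2'' : 2 ≤ l''.length)
    (hd : ∀ a : Fin 7, a ∈ l → ¬ a ∈ l') (hd2 : ∀ a : Fin 7, a ∈ l → ¬ a ∈ l'')
    (hd3 : ∀ a : Fin 7, a ∈ l' → ¬ a ∈ l'') :
    (l.formPerm * l'.formPerm * l''.formPerm).cycleType =
      {l.length} + {l'.length} + {l''.length} := by
  have e1 := (List.formPerm_disjoint_iff hl hl' h2 h2').mpr (fun a h1 h2 => hd a h1 h2)
  have e2 := (List.formPerm_disjoint_iff hl hl'' h2 h2'').mpr (fun a h1 h2 => hd2 a h1 h2)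
  have e3 := (List.formPerm_disjoint_iff hl' hl'' h2' h2'').mpr (fun a h1 h2 => hd3 a h1 h2)
  rw [Equiv.Perm.Disjoint.cycleType_mul (e2.mul_left e3), e1.cycleType_mul, cyc l hl h2,
    cyc l' hl' h2', cyc l'' hl'' h2'']

/-- `A₇` has at least six distinct noncentral class sizes. -/
theorem a7_six : 6 ≤ Set.ncard {k : ℕ | ∃ x : ↥(alternatingGroup (Fin 7)),
    x ∉ Subgroup.center (↥(alternatingGroup (Fin 7))) ∧
    k = (Subgroup.centralizer ({x} : Set (↥(alternatingGroup (Fin 7))))).index} := by
  classical
  set T := {k : ℕ | ∃ x : ↥(alternatingGroup (Fin 7)),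
    x ∉ Subgroup.center (↥(alternatingGroup (Fin 7))) ∧
    k = (Subgroup.centralizer ({x} : Set (↥(alternatingGroup (Fin 7))))).index} with hT
  have w1 : 504 ∈ T := by
    refine witness ([0,1,2,3,4] : List (Fin 7)).formPerm (by decide)
      ([5,6] : List (Fin 7)).formPerm (by decide) (by decide) {5} ?_ 5 504 ?_ (by norm_num)
      (by norm_num)
    · exact cyc _ (by decide) (by decide)
    · decide
  have w2 : 630 ∈ T := by
    refine witness (([0,1,2,3] : List (Fin 7)).formPerm * ([4,5] : List (Fin 7)).formPerm)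
      (by decide)
      ([4,5] : List (Fin 7)).formPerm (by decide) (by decide) ({4} + {2}) ?_ 4 630 ?_
      (by norm_num) (by norm_num)
    · exact cyc2 _ _ (by decide) (by decide) (by decide) (by decide) (by decide)
    · decide
  have w3 : 70 ∈ T := by
    refine witness ([0,1,2] : List (Fin 7)).formPerm (by decide)
      ([5,6] : List (Fin 7)).formPerm (by decide) (by decide) {3} ?_ 36 70 ?_ (by norm_num)
      (by norm_num)
    · exact cyc _ (by decide) (by decide)
    · decide
  have w4 : 280 ∈ T := by
    refine witness (([0,1,2] : List (Fin 7)).formPerm * ([3,4,5] : List (Fin 7)).formPerm)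
      (by decide)
      (([0,3] : List (Fin 7)).formPerm * ([1,4] : List (Fin 7)).formPerm *
        ([2,5] : List (Fin 7)).formPerm) (by decide) (by decide) ({3} + {3}) ?_ 9 280 ?_
      (by norm_num) (by norm_num)
    · exact cyc2 _ _ (by decide) (by decide) (by decide) (by decide) (by decide)
    · decide
  have w5 : 105 ∈ T := by
    refine witness (([0,1] : List (Fin 7)).formPerm * ([2,3] : List (Fin 7)).formPerm)
      (by decide)
      ([0,1] : List (Fin 7)).formPerm (by decide) (by decide) ({2} + {2}) ?_ 24 105 ?_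
      (by norm_num) (by norm_num)
    · exact cyc2 _ _ (by decide) (by decide) (by decide) (by decide) (by decide)
    · decide
  have w6 : 210 ∈ T := by
    refine witness (([0,1,2] : List (Fin 7)).formPerm * ([3,4] : List (Fin 7)).formPerm *
        ([5,6] : List (Fin 7)).formPerm)
      (by decide)
      ([3,4] : List (Fin 7)).formPerm (by decide) (by decide) ({3} + {2} + {2}) ?_ 12 210 ?_
      (by norm_num) (by norm_num)
    · exact cyc3 _ _ _ (by decide) (by decide) (by decide) (by decide) (by decide) (by decide)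
        (by decide) (by decide) (by decide)
    · decide
  have hfin : T.Finite := by
    have : T ⊆ Set.range (fun x : ↥(alternatingGroup (Fin 7)) =>
        (Subgroup.centralizer ({x} : Set (↥(alternatingGroup (Fin 7))))).index) := by
      rintro k ⟨x, -, rfl⟩
      exact ⟨x, rfl⟩
    exact (Set.finite_range _).subset this
  have hsub : (({504, 630, 70, 280, 105, 210} : Finset ℕ) : Set ℕ) ⊆ T := by
    intro k hk
    simp only [Finset.coe_insert, Finset.coe_singleton, Set.mem_insert_iff,
      Set.mem_singleton_iff] at hk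
    rcases hk with rfl | rfl | rfl | rfl | rfl | rfl
    exacts [w1, w2, w3, w4, w5, w6]
  have := Set.ncard_le_ncard hsub hfin
  rw [Set.ncard_coe_finset] at this
  exact le_trans (by decide) this

end Cfsg.Agent.H805.ASeven
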