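import Cfsg.Agent.H805.NilSp
import Cfsg.Agent.OddHalf.D9.Ru.XCover
import Cfsg.Agent.RuB.Local
import Cfsg.Agent.S1627

/-!
# Nilpotent subgroups of Ru (helper805, task 429 for S2242)

`small_Ru` : `|N| ^ 2 < |G|` for nilpotent `N`.
-/

set_option autoImplicit false

namespace Cfsg.Agent.H805.NilSp

open Cfsg Subgroup Cfsg.Agent.H972 Cfsg.Agent.H972.NSm
open Cfsg.Agent.SporadicB Cfsg.Agent.RuD.Letters Cfsg.Agent.RuD.Model

universe u

/-- the centralizers of the involutions of `Ru` -/
theorem cent_two_Ru {x : RuOrder.H} (hx : orderOf x = 2) :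
    Nat.card ↥(centralizer ({x} : Set RuOrder.H)) = 245760 ∨
      Nat.card ↥(centralizer ({x} : Set RuOrder.H)) = 116480 := by
  have hiso : Spor.IsoRu RuOrder.H := ⟨RuLat.Main.equiv.symm⟩
  have hc : Nat.card RuOrder.H = 145926144000 := by
    rw [← Nat.card_congr RuLat.Main.equiv.toEquiv]; exact Cfsg.Agent.S1627.result.2.1
  have hf : Finite RuOrder.H := Nat.finite_of_card_ne_zero (by rw [hc]; norm_num)
  obtain ⟨C, -⟩ := KFacts.Ru.exists_core hiso
  obtain ⟨a, ha⟩ : ∃ a : RuB.A4, a ≠ 0 := ⟨1, by decide⟩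
  have hv1 : C.v a ≠ 1 := fun h => ha (C.v_eq_one h)
  have hcv := RuB.Local.card_cent_v (C := C) ha
  have hz := OddHalf.D9.Ru.XCover.card_cent
  have hT : Nat.card ↥(centralizer ({T} : Set RuOrder.H)) = 116480 := by
    rcases OddHalf.D9.Ru.XLevel.isConj_or (C.v_sq a) hv1 with h | h
    · rw [card_cent_isConj h, hz] at hcv
      norm_num at hcv
    · rw [← card_cent_isConj h, hcv]
  have hxx : x * x = 1 := by rw [← pow_two, ← hx, pow_orderOf_eq_one]
  have hx1 : x ≠ 1 := by
    rintro rfl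
    rw [orderOf_one] at hx
    omega
  rcases OddHalf.D9.Ru.XLevel.isConj_or hxx hx1 with h | h
  · left; rw [card_cent_isConj h, hz]
  · right; rw [card_cent_isConj h, hT]

theorem small_Ru' : NSm.Small RuOrder.H := by
  have hc : Nat.card RuOrder.H = 145926144000 := by
    rw [← Nat.card_congr RuLat.Main.equiv.toEquiv]; exact Cfsg.Agent.S1627.result.2.1
  have hf : Finite RuOrder.H := Nat.finite_of_card_ne_zero (by rw [hc]; norm_num)
  have hs : IsSimpleGroup RuOrder.H := (MulEquiv.isSimpleGroup_congr RuLat.Main.equiv).1 Cfsg.Agent.S1627.result.2.2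
  have h2 : SmallAt 2 RuOrder.H := smallAt_of_le (b := 245760) Nat.prime_two (by rw [hc]; norm_num) fun x hx => by
    rcases cent_two_Ru hx with h | h <;> rw [h]
    norm_num
  refine small_of_chk 14 8906625 24 (by rw [hc]; norm_num) (by norm_num) (by norm_num) []
    [29] [] [1, 3, 5, 7, 9, 13, 15, 21] (by decide +kernel) (by simp) ?_ (by simp) h2 (by decide +kernel)
  intro r hr
  rw [List.mem_singleton] at hr
  subst hr
  refine ⟨by norm_num, by norm_num, by norm_num, NoComm.symm (noComm_of_not_dvd fun t ht hpd => ?_)⟩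
  rcases cent_two_Ru ht with h | h <;> rw [h] at hpd <;> norm_num at hpd

theorem small_Ru {G : Type u} [Group G] [Finite G] (h : Cfsg.Spor.IsoRu G)
    (_hI : ∀ (H : Type u) [Group H] [Finite H], IsSimpleGroup H → ¬ IsMulCommutative H → Nat.card H < Nat.card G →
      NSm.Small H) : NSm.Small G := by
  obtain ⟨e⟩ := h
  exact small_Ru'.congr (e.trans RuLat.Main.equiv).symm

end Cfsg.Agent.H805.NilSp
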