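import Cfsg.Agent.H805.Width
import Cfsg.Agent.PLocal.SubnormalCore

/-!
The sets `V_d` and `W_d`.
-/

set_option autoImplicit false

namespace Cfsg.Agent.H805.VW

open Cfsg Cfsg.Agent.SporadicB.ThreeTrans Cfsg.Agent.ThreeTrans375.Basic Cfsg.Agent.H805.Base
  Cfsg.Agent.H805.Width Cfsg.Agent.ThreeTrans375.Blocks

variable {G : Type*} [Group G] {D : Set G}

theorem commute_conj_move (g y z : G) :
    Commute (g * y * g⁻¹) z ↔ Commute y (g⁻¹ * z * g⁻¹⁻¹) := by
  have h1 := commute_conj_iff (a := y) (b := g⁻¹ * z * g⁻¹⁻¹) g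
  have e : g * (g⁻¹ * z * g⁻¹⁻¹) * g⁻¹ = z := by group
  rw [e] at h1
  exact h1

/-- the `V` block system -/
theorem blockV (hC : ConjClosed D) :
    BlockSystem D (fun a b => ∀ x ∈ D, Commute a x ↔ Commute b x) where
  refl := fun _ _ _ _ => Iff.rfl
  symm := fun _ _ _ _ h x hx => (h x hx).symm
  trans := fun _ _ _ _ _ _ h h' x hx => (h x hx).trans (h' x hx)
  conj := by
    intro g a _ b _ h x hx
    rw [commute_conj_move, commute_conj_move]
    exact h _ (hC g⁻¹ x hx)
  total := by
    intro a _ b _ x hx h _ hcomm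
    exact ((h x hx).1 hcomm.symm).symm

theorem Dc_conj (hC : ConjClosed D) (g c : G) :
    Dc D (g * c * g⁻¹) = (fun x => g * x * g⁻¹) '' Dc D c := by
  ext x
  constructor
  · rintro ⟨hxD, hxc, hxcomm⟩
    refine ⟨g⁻¹ * x * g⁻¹⁻¹, ⟨hC g⁻¹ x hxD, ?_, ?_⟩, by group⟩
    · intro h; apply hxc; rw [← h]; group
    · have := (commute_conj_iff g⁻¹).2 hxcomm
      have e : g⁻¹ * (g * c * g⁻¹) * g⁻¹⁻¹ = c := by group
      rwa [e] at this
  · rintro ⟨y, ⟨hyD, hyc, hycomm⟩, rfl⟩
    refine ⟨hC g y hyD, ?_, (commute_conj_iff g).2 hycomm⟩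
    intro h; exact hyc (mul_left_cancel (mul_right_cancel h))

/-- the `W` block system -/
theorem blockW (hC : ConjClosed D) : BlockSystem D (fun a b => Dc D a = Dc D b) where
  refl := fun _ _ => rfl
  symm := fun _ _ _ _ h => h.symm
  trans := fun _ _ _ _ _ _ h h' => h.trans h'
  conj := by
    intro g a _ b _ h
    show Dc D (g * a * g⁻¹) = Dc D (g * b * g⁻¹)
    rw [Dc_conj hC, Dc_conj hC, h]
  total := by
    intro a _ b _ x hx h hax hcomm
    have h1 : x ≠ a := by rintro rfl; exact hax rfl
    have h2 : x ∈ Dc D a := ⟨hx, h1, hcomm.symm⟩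
    rw [h] at h2
    exact h2.2.2.symm

/-- `V`-related members agree modulo `O₂(G)` -/
theorem mul_mem_two [Finite G] (hE : IsThreeTranspositionSet D) (hC : ConjClosed D) {d v : G}
    (hd : d ∈ D) (hv : v ∈ D) (h : ∀ e ∈ D, Commute d e ↔ Commute v e) : d * v ∈ pCore 2 G := by
  set r : G → G → Prop := fun a b => ∀ x ∈ D, Commute a x ↔ Commute b x with hr
  have hB : BlockSystem D r := blockV hC
  have hsub := blockGroup_subnormal hE hC hB hd
  -- members of the block of `d`
  have hcommD : ∀ x ∈ D, r x d → ∀ y ∈ D, r y d → Commute x y := by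
    intro x hx hxd y hy hyd
    rw [hxd y hy, ← hyd y hy]
  have hle : blockGroup D r d ≤ Subgroup.closure {x : G | x ∈ D ∧ r x d} := by
    rw [blockGroup, Subgroup.closure_le]
    rintro _ ⟨x, hx, y, hy, hxc, hyc, rfl⟩
    exact Subgroup.mul_mem _ (Subgroup.subset_closure ⟨hx, hxc⟩)
      (Subgroup.subset_closure ⟨hy, hyc⟩)
  have hp2 : IsPGroup 2 (Subgroup.closure {x : G | x ∈ D ∧ r x d}) :=
    isPGroup_closure (fun a ha => mul_self hE ha.1)
      (fun a ha b hb => hcommD a ha.1 ha.2 b hb.1 hb.2)
  have h1 := PLocal.SubnormalCore.le_pCore_of_isSubnormal hsub (hp2.to_le hle)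
  exact h1 (mul_mem_blockGroup hd hv (fun _ _ => Iff.rfl) (fun e he => (h e he).symm))

/-- `W`-related members agree modulo `O₃(G)` -/
theorem mul_mem_three [Finite G] (hE : IsThreeTranspositionSet D) (hC : ConjClosed D) {d w : G}
    (hd : d ∈ D) (hw : w ∈ D) (h : Dc D d = Dc D w) : d * w ∈ pCore 3 G := by
  set r : G → G → Prop := fun a b => Dc D a = Dc D b with hr
  have hB : BlockSystem D r := blockW hC
  have hsub := blockGroup_subnormal hE hC hB hd
  set T : Set G := {x : G | x ∈ D ∧ r x d} with hT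
  have hcommD : ∀ x ∈ T, ∀ y ∈ T, Commute x y → x = y := by
    rintro x ⟨hx, hxd⟩ y ⟨hy, hyd⟩ hc
    by_contra hne
    have h1 : y ∈ Dc D x := ⟨hy, fun h => hne h.symm, hc⟩
    have h2 : Dc D x = Dc D y := hxd.trans hyd.symm
    rw [h2] at h1
    exact h1.2.1 rfl
  have hHall : Lib.HallTriple.IsHallSet T := by
    refine ⟨fun a ha => mul_self hE ha.1, ?_, ?_⟩
    · rintro a ⟨ha, had⟩ b ⟨hb, hbd⟩
      refine ⟨third_mem hE hC ha hb, ?_⟩
      have h1 := hB.conj a b hb a ha (hbd.trans had.symm)
      rw [inv_eq hE ha] at h1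
      have e : a * a * a = a := by rw [mul_self hE ha, one_mul]
      rw [e] at h1
      exact h1.trans had
    · intro a ha b hb
      rcases hE.2 a ha.1 b hb.1 with h1 | h1
      · have h2 := hcommD a ha b hb (commute_of_sq hE ha.1 hb.1 h1)
        rw [h2, mul_self hE hb.1, one_pow]
      · exact h1
  have hp := Lib.HallTriple.isPGroup_closure_mul hHall
  have hle : blockGroup D r d ≤ Subgroup.closure {x : G | ∃ a ∈ T, ∃ b ∈ T, x = a * b} := by
    rw [blockGroup, Subgroup.closure_le]
    rintro _ ⟨x, hx, y, hy, hxc, hyc, rfl⟩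
    exact Subgroup.subset_closure ⟨x, ⟨hx, hxc⟩, y, ⟨hy, hyc⟩, rfl⟩
  have : Fact (Nat.Prime 3) := ⟨Nat.prime_three⟩
  have h1 := PLocal.SubnormalCore.le_pCore_of_isSubnormal hsub (hp.to_le hle)
  exact h1 (mul_mem_blockGroup hd hw rfl h.symm)

/-- two members of a class agreeing modulo `O₂(G)` are conjugate under `O₂(G)` -/
theorem exists_conj_two [Finite G] (hD : IsThreeTranspositionClass D)
    (hD2 : ∃ a ∈ D, ∃ b ∈ D, a ≠ b) {d v : G} (hd : d ∈ D) (hv : v ∈ D)
    (h : d * v ∈ pCore 2 G) : ∃ g ∈ pCore 2 G, v = g * d * g⁻¹ := by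
  have hE := hD.1
  have hN : (pCore 2 G).Normal := Lib.Cores.pCore_normal 2
  have hNp : IsPGroup 2 (pCore 2 G) := Lib.Cores.pCore_isPGroup 2
  by_cases hdv : d = v
  · subst hdv
    exact ⟨1, (pCore 2 G).one_mem, by simp⟩
  obtain ⟨e, he, hde⟩ := exists_noncomm hD hD2 hd
  have hc : Commute d v := commute_of_two hE hNp hd hv h
  have hve : ¬ Commute v e := fun h1 => by
    have h2 : v * d ∈ pCore 2 G := by rw [← hc.eq]; exact h
    exact hde (commute_two hE hN hNp hv hd he h2 h1.symm).symm
  -- `c = d e d`, `g = c (d v) c (d v)`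
  set z := d * v with hz
  have hz2 : z * z = 1 := by
    calc z * z = d * (v * d) * v := by simp only [hz, mul_assoc]
      _ = d * (d * v) * v := by rw [hc.eq]
      _ = (d * d) * (v * v) := by simp only [mul_assoc]
      _ = 1 := by rw [mul_self hE hd, mul_self hE hv, one_mul]
  set c := d * e * d with hcd
  have hcD : c ∈ D := third_mem hE (conjClosed_of_class hD) hd he
  have hci : c * c = 1 := mul_self hE hcD
  refine ⟨c * z * c * z, ?_, ?_⟩
  · have h1 := hN.conj_mem z h c
    rw [inv_eq hE hcD] at h1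
    exact (pCore 2 G).mul_mem h1 h
  · have hzi : z⁻¹ = z := inv_eq_of_mul_eq_one_left hz2
    have e0 : (c * z * c * z)⁻¹ = z * c * z * c := by
      apply inv_eq_of_mul_eq_one_right
      calc c * z * c * z * (z * c * z * c) = c * z * c * (z * z) * c * z * c := by
            simp only [mul_assoc]
        _ = c * z * (c * c) * z * c := by rw [hz2]; simp only [mul_assoc, one_mul]
        _ = c * (z * z) * c := by rw [hci]; simp only [mul_assoc, one_mul]
        _ = 1 := by rw [hz2, mul_one, hci]
    rw [e0]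
    -- `z d z = d`
    have hzd : z * d * z = d := by
      calc z * d * z = d * (v * d) * (d * v) := by simp only [hz, mul_assoc]
        _ = d * (d * v) * (d * v) := by rw [hc.eq]
        _ = (d * d) * v * (d * v) := by simp only [mul_assoc]
        _ = v * (d * v) := by rw [mul_self hE hd, one_mul]
        _ = v * (v * d) := by rw [hc.eq]
        _ = d := by rw [← mul_assoc, mul_self hE hv, one_mul]
    -- `c d c = e`
    have hcdc : c * d * c = e := by
      calc c * d * c = d * e * (d * d) * d * e * d := by simp only [hcd, mul_assoc]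
        _ = d * (e * d * e) * d := by rw [mul_self hE hd, mul_one]; simp only [mul_assoc]
        _ = d * (d * e * d) * d := by rw [braid hE hd he hde]
        _ = (d * d) * e * (d * d) := by simp only [mul_assoc]
        _ = e := by rw [mul_self hE hd, one_mul, mul_one]
    -- `z e z = v c v`
    have hve' := braid hE hv he hve
    have hzez : z * e * z = v * c * v := by
      calc z * e * z = (d * v) * e * (d * v) := rfl
        _ = (v * d) * e * (d * v) := by rw [hc.eq]
        _ = v * (d * e * d) * v := by simp only [mul_assoc]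
    -- `c` and `v` do not commute
    have hcv : ¬ Commute v c := by
      intro h1
      apply hve
      have h2 : e = d * c * d := by
        calc e = (d * d) * e * (d * d) := by rw [mul_self hE hd, one_mul, mul_one]
          _ = d * c * d := by simp only [hcd, mul_assoc]
      rw [h2]
      exact (hc.symm.mul_right h1).mul_right hc.symm
    calc v = c * (c * v * c) * c := by
          calc v = (c * c) * v * (c * c) := by rw [hci, one_mul, mul_one]
            _ = c * (c * v * c) * c := by simp only [mul_assoc]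
      _ = c * (v * c * v) * c := by rw [← braid hE hv hcD hcv]
      _ = c * (z * e * z) * c := by rw [hzez]
      _ = c * (z * (c * d * c) * z) * c := by rw [hcdc]
      _ = c * (z * (c * (z * d * z) * c) * z) * c := by rw [hzd]
      _ = c * z * c * z * d * (z * c * z * c) := by simp only [mul_assoc]

end Cfsg.Agent.H805.VW
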