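import Cfsg.Agent.H805.Maxl

/-!
Primitivity, simplicity of the commutator subgroup and connectedness.
-/

set_option autoImplicit false

namespace Cfsg.Agent.H805.PrimSimple

open Cfsg Cfsg.Agent.SporadicB.ThreeTrans Cfsg.Agent.ThreeTrans375.Basic Cfsg.Agent.H805.Base
  Cfsg.Agent.H805.Comp Cfsg.Agent.H805.Prim Cfsg.Agent.H805.Index Cfsg.Agent.H805.Maxl

open scoped commutatorElement

variable {G : Type*} [Group G] {D : Set G}

/-- the relational form of primitivity implies the block form -/
theorem isPrimitive_of_isPrim (hD : IsThreeTranspositionClass D) (hD2 : ∃ a ∈ D, ∃ b ∈ D, a ≠ b)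
    (hp : Lib.ThreeTransRank.IsPrim D) : IsPrimitiveUnderConj D := by
  refine ⟨fun a ha b hb => exists_conj_of_class hD ha hb, hD2, fun B hBD hB => ?_⟩
  by_cases hs : B.Subsingleton
  · exact Or.inl hs
  right
  rw [Set.not_subsingleton_iff] at hs
  obtain ⟨a, ha, b, hb, hab⟩ := hs
  have hr := blockSystem hD hBD hB ⟨a, ha⟩
  have h1 := hp (rel B) hr.refl hr.symm hr.trans hr.conj
    ⟨a, hBD ha, b, hBD hb, hab, 1, ⟨a, ha, by simp⟩, ⟨b, hb, by simp⟩⟩
  apply Set.Subset.antisymm hBD
  intro y hy
  obtain ⟨g, hg1, hg2⟩ := h1 a (hBD ha) y hy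
  rcases hB g with h8 | h8
  · rwa [h8] at hg2
  · exact absurd ha (Set.disjoint_left.1 h8 hg1)

theorem simple_of_primitive [Finite G] (hD : IsThreeTranspositionClass D)
    (hZ : Subgroup.center G = ⊥) (hw : ∃ a ∈ D, ∃ b ∈ D, a ≠ b ∧ Commute a b)
    (hp : IsPrimitiveUnderConj D) : IsSimpleGroup (commutator G) := by
  have hp' := isPrim (conjClosed_of_class hD) hp
  have h2 := two_central hD hp.2.1 hp'
  have h3 := three_central hD hw hp'
  have hc := connected hD hw hp'
  obtain ⟨L, hLn, hL, hF⟩ := structure_thm hD hp.2.1 h2 h3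
  have hi : L.index ≤ 2 := index_le_two hD hLn fun x hx y hy =>
    mul_mem_of_connected hD hL hc ⟨x, hx⟩ ⟨y, hy⟩
  -- the centre of `L` is trivial
  have hZL : Subgroup.center L = ⊥ := by
    have h4 : (Subgroup.center L).map L.subtype ≤ Subgroup.center G := by
      have hn : ((Subgroup.center L).map L.subtype).Normal := inferInstance
      apply solvable_le_center hD h2 h3 hn
      have hs : Group.IsSolvable (Subgroup.center L) :=
        Group.isSolvable_of_comm fun a b => Subtype.ext ((Subgroup.mem_center_iff.1 b.2) a)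
      exact SignalizersComponents.ComponentExists.isSolvable_map hs _
    rw [hZ, le_bot_iff, Subgroup.map_eq_bot_iff_of_injective _ L.subtype_injective] at h4
    exact h4
  have hLs : IsSimpleGroup L := by
    have h5 := hL.2.2
    have e : L ⧸ Subgroup.center L ≃* L :=
      (QuotientGroup.quotientMulEquivOfEq hZL).trans (QuotientGroup.quotientBot (G := L))
    have hnt : Nontrivial L := SignalizersComponents.Components.quasisimple_nontrivial hL.2
    exact IsSimpleGroup.isSimpleGroup_of_surjective (f := e.toMonoidHom) e.surjective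
  -- the commutator subgroup is `L`
  have hle : commutator G ≤ L := by
    have hcomm : ∀ u v : G ⧸ L, u * v = v * u :=
      comm_of_card_le (by rw [← Subgroup.index_eq_card]; exact hi)
    rw [commutator_def, Subgroup.commutator_le]
    intro g _ h _
    rw [← QuotientGroup.eq_one_iff]
    show QuotientGroup.mk' L ⁅g, h⁆ = 1
    rw [map_commutatorElement, commutatorElement_eq_one_iff_mul_comm]
    exact hcomm _ _
  have hge : L ≤ commutator G := by
    rw [← SignalizersComponents.Components.component_commutator_self hL, commutator_def]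
    exact Subgroup.commutator_mono le_top le_top
  have h6 := le_antisymm hle hge
  rw [h6]
  exact hLs

theorem main [Finite G] (hD : IsThreeTranspositionClass D) (hZ : Subgroup.center G = ⊥)
    (hw : ∃ a ∈ D, ∃ b ∈ D, a ≠ b ∧ Commute a b) :
    (IsSimpleGroup (commutator G) ↔ IsPrimitiveUnderConj D) ∧
      (IsPrimitiveUnderConj D ↔ (pCore 2 G = ⊥ ∧ pCore 3 G = ⊥ ∧ (commutingGraph D).Connected)) := by
  have hD2 : ∃ a ∈ D, ∃ b ∈ D, a ≠ b := by
    obtain ⟨a, ha, b, hb, hab, _⟩ := hw
    exact ⟨a, ha, b, hb, hab⟩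
  refine ⟨⟨fun hs => ?_, simple_of_primitive hD hZ hw⟩, ⟨fun hp => ?_, ?_⟩⟩
  · exact isPrimitive_of_isPrim hD hD2 (Lib.ThreeTransRank.isPrim_of_simple hD hs)
  · have hp' := isPrim (conjClosed_of_class hD) hp
    have h2 := two_central hD hp.2.1 hp'
    have h3 := three_central hD hw hp'
    rw [hZ, le_bot_iff] at h2 h3
    exact ⟨h2, h3, connected hD hw hp'⟩
  · rintro ⟨h2, h3, hc⟩
    have h2' : pCore 2 G ≤ Subgroup.center G := by rw [h2]; exact bot_le
    have h3' : pCore 3 G ≤ Subgroup.center G := by rw [h3]; exact bot_le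
    obtain ⟨L, hLn, hL, hF⟩ := structure_thm hD hD2 h2' h3'
    have hi : L.index ≤ 2 := index_le_two hD hLn fun x hx y hy =>
      mul_mem_of_connected hD hL hc ⟨x, hx⟩ ⟨y, hy⟩
    exact isPrimitive hD hD2 h2' h3' hL hF hi

end Cfsg.Agent.H805.PrimSimple
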