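import Mathlib
import Cfsg.Agent.H805.Comb
import Cfsg.Agent.TSp.UCount
import Cfsg.Agent.Fischer920.IsoU
import Cfsg.Agent.Fischer3.Orth3Up

set_option autoImplicit false

/-!
# S5368: the common partners of two noncommuting members, types `T6`, `T7`, `T8`
-/

namespace Cfsg.Agent.H805.ComT

open Cfsg Cfsg.Agent.SporadicStructure.FischerSpace Cfsg.Agent.Fischer480.Defs
open Cfsg.Agent.ThreeTransPolar.Basic
open Cfsg.Agent.TSp.Basic (TSet)
open Cfsg.Agent.H805.Sub Cfsg.Agent.H805.Comb

universe u v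

variable {G : Type u} [Group G]

/-- transport of the local types -/
theorem loc_isR {H : Type v} [Group H] {S : Set G} {E : Set H} (hiso : CIso S E) {n : ℕ}
    (h : ∀ z ∈ S, IsR n (Loc S z)) : ∀ x ∈ E, IsR n (Loc E x) := by
  obtain ⟨ψ, hψ, hc⟩ := Cfsg.Agent.Fischer480.Transport.CIso.symm hiso
  intro x hx
  exact Cfsg.Agent.Fischer480.Transport.isR
    (Cfsg.Agent.Fischer480.Transport.loc_cIso hψ hc hx) (h _ (hψ.mapsTo hx))

theorem isR_of_fgroup [Finite G] {S : Set G} (hg : Good S) (hF : FGroup (ES S)) {n : ℕ}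
    (hn : 5 ≤ n) (h : ∀ z ∈ S, IsR n (Loc S z)) : IsR (n + 1) S := by
  have hiso := cIso_ES hg
  exact Cfsg.Agent.Fischer480.Transport.isR hiso
    (Cfsg.Agent.Fischer3.Orth3Up.caseE hF n hn (loc_isR hiso h))

/-! ### Type `U 4` -/

theorem wRed_isU_four [Finite G] {E : Set G} (hU : IsU 4 E) : WRed E := by
  apply wRed_isU hU
  intro a ha b hb hab
  have h1 := Cfsg.Agent.S0480U.UComb.ncard_loc hU ha hb hab
  rw [Cfsg.Agent.S0480U.UComb.ncard_loc_four hU ha] at h1
  rw [← Set.ncard_pos (Set.toFinite _)]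
  omega

/-! ### Type `T6` -/

section Six

variable [Finite G] {E : Set G} (hE : TSet E) (h : IsT6 E) {x y : G} (hx : x ∈ E) (hy : y ∈ E)
  (hxy : ¬ Commute x y)
include hE h hx hy hxy

theorem isU_loc_com : ∀ z ∈ Com E x y, IsU 4 (Loc (Com E x y) z) := by
  intro z hz
  rw [loc_com]
  exact Cfsg.Agent.S0480U.UModel.isU_com (n := 4) (h.2.1 z hz.1) (mem_loc_left hx hxy hz)
    (mem_loc_right hy hxy hz) hxy

theorem reg_six : Reg (Com E x y) 126 45 12 where
  card := h.2.2 x hx y hy hxy
  deg := by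
    intro z hz
    rw [loc_com]
    exact (Cfsg.Agent.TSp.UCount.numbers_six (h.2.1 z hz.1)).2.2 x (mem_loc_left hx hxy hz) y
      (mem_loc_right hy hxy hz) hxy
  lam := fun z hz _ ha =>
    Cfsg.Agent.S0480U.UComb.ncard_loc_four (isU_loc_com hE h hx hy hxy z hz) ha

theorem good_six : Good (Com E x y) :=
  good_of_reg (com_tset hE x y) (reg_six hE h hx hy hxy) (by norm_num) (by norm_num)
    (by norm_num) (by norm_num)

theorem wRed_six : WRed (Com E x y) := by
  have R := reg_six hE h hx hy hxy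
  apply wRed_of_loc
  · intro z hz
    rw [← Set.ncard_pos (Set.toFinite _), R.deg z hz]
    norm_num
  · intro z hz
    exact wRed_isU_four (isU_loc_com hE h hx hy hxy z hz)

theorem fgroup_six : FGroup (ES (Com E x y)) :=
  fgroup_of_reg (com_tset hE x y) (reg_six hE h hx hy hxy) (by norm_num) (by norm_num)
    (by norm_num) (by norm_num) (by norm_num) (wRed_six hE h hx hy hxy)

/-- **`T6`: the common partners form a set of type `R 6`.** -/
theorem isR_six : IsR 6 (Com E x y) :=
  isR_of_fgroup (good_six hE h hx hy hxy) (fgroup_six hE h hx hy hxy) (n := 5) (le_refl 5)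
    fun z hz => Cfsg.Agent.Fischer920.IsoU.isoU _ (isU_loc_com hE h hx hy hxy z hz)

end Six

/-! ### Type `T7` -/

section Seven

variable [Finite G] {E : Set G} (hE : TSet E) (h : IsT7 E) {x y : G} (hx : x ∈ E) (hy : y ∈ E)
  (hxy : ¬ Commute x y)
include hE h hx hy hxy

theorem reg_seven : Reg (Com E x y) 351 126 45 where
  card := h.2.2 x hx y hy hxy
  deg := by
    intro z hz
    rw [loc_com]
    exact (h.2.1 z hz.1).2.2 x (mem_loc_left hx hxy hz) y (mem_loc_right hy hxy hz) hxy
  lam := by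
    intro z hz a ha
    rw [loc_com] at ha ⊢
    rw [loc_com]
    exact (Cfsg.Agent.TSp.UCount.numbers_six ((h.2.1 z hz.1).2.1 a ha.1)).2.2 x
      (mem_loc_left (mem_loc_left hx hxy hz) hxy ha) y
      (mem_loc_right (mem_loc_right hy hxy hz) hxy ha) hxy

theorem good_seven : Good (Com E x y) :=
  good_of_reg (com_tset hE x y) (reg_seven hE h hx hy hxy) (by norm_num) (by norm_num)
    (by norm_num) (by norm_num)

theorem wRed_seven : WRed (Com E x y) := by
  have R := reg_seven hE h hx hy hxy
  apply wRed_of_loc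
  · intro z hz
    rw [← Set.ncard_pos (Set.toFinite _), R.deg z hz]
    norm_num
  · intro z hz
    rw [loc_com]
    exact wRed_six (loc_tset hE z) (h.2.1 z hz.1) (mem_loc_left hx hxy hz)
      (mem_loc_right hy hxy hz) hxy

theorem fgroup_seven : FGroup (ES (Com E x y)) :=
  fgroup_of_reg (com_tset hE x y) (reg_seven hE h hx hy hxy) (by norm_num) (by norm_num)
    (by norm_num) (by norm_num) (by norm_num) (wRed_seven hE h hx hy hxy)

/-- **`T7`: the common partners form a set of type `R 7`.** -/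
theorem isR_seven : IsR 7 (Com E x y) :=
  isR_of_fgroup (good_seven hE h hx hy hxy) (fgroup_seven hE h hx hy hxy) (n := 6) (by norm_num)
    fun z hz => by
      rw [loc_com]
      exact isR_six (loc_tset hE z) (h.2.1 z hz.1) (mem_loc_left hx hxy hz)
        (mem_loc_right hy hxy hz) hxy

end Seven

/-! ### Type `T8` -/

section Eight

variable [Finite G] {E : Set G} (hE : TSet E) (h : IsT8 E) {x y : G} (hx : x ∈ E) (hy : y ∈ E)
  (hxy : ¬ Commute x y)
include hE h hx hy hxy

theorem reg_eight : Reg (Com E x y) 3240 351 126 where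
  card := h.2.2 x hx y hy hxy
  deg := by
    intro z hz
    rw [loc_com]
    exact (h.2.1 z hz.1).2.2 x (mem_loc_left hx hxy hz) y (mem_loc_right hy hxy hz) hxy
  lam := by
    intro z hz a ha
    rw [loc_com] at ha ⊢
    rw [loc_com]
    exact ((h.2.1 z hz.1).2.1 a ha.1).2.2 x
      (mem_loc_left (mem_loc_left hx hxy hz) hxy ha) y
      (mem_loc_right (mem_loc_right hy hxy hz) hxy ha) hxy

theorem good_eight : Good (Com E x y) :=
  good_of_reg (com_tset hE x y) (reg_eight hE h hx hy hxy) (by norm_num) (by norm_num)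
    (by norm_num) (by norm_num)

theorem wRed_eight : WRed (Com E x y) := by
  have R := reg_eight hE h hx hy hxy
  apply wRed_of_loc
  · intro z hz
    rw [← Set.ncard_pos (Set.toFinite _), R.deg z hz]
    norm_num
  · intro z hz
    rw [loc_com]
    exact wRed_seven (loc_tset hE z) (h.2.1 z hz.1) (mem_loc_left hx hxy hz)
      (mem_loc_right hy hxy hz) hxy

theorem loc_isR_seven : ∀ z ∈ Com E x y, IsR 7 (Loc (Com E x y) z) := by
  intro z hz
  rw [loc_com]
  exact isR_seven (loc_tset hE z) (h.2.1 z hz.1) (mem_loc_left hx hxy hz)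
    (mem_loc_right hy hxy hz) hxy

end Eight

end Cfsg.Agent.H805.ComT
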