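import Mathlib
import Cfsg.Agent.Fischer920.RackIso
import Cfsg.Agent.Fischer886.Lab
import Cfsg.Agent.S0439

set_option autoImplicit false

/-!
# S5368: matching classes; the symmetric groups
-/

namespace Cfsg.Agent.H805.MSym

open Cfsg Cfsg.Agent.SporadicStructure.FischerSpace Cfsg.Agent.Fischer480.Defs
open Cfsg.Agent.ThreeTransPolar.Basic Cfsg.Agent.Fischer886.Lab
open Cfsg.Agent.Fischer920.RackIso

section General

variable {G₁ G₂ : Type*} [Group G₁] [Group G₂] {D₁ : Set G₁} {D₂ : Set G₂}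

/-- **Matching**, the first centre trivial. -/
theorem exists_iso_quot (h₁ : FData D₁) (h₂ : FData D₂) (hz₁ : Subgroup.center G₁ = ⊥)
    (φ : ↥D₁ ≃ ↥D₂)
    (hφ : ∀ a b : ↥D₁, ((φ ⟨(a : G₁) * b * (a : G₁)⁻¹, h₁.conj a b b.2⟩ : ↥D₂) : G₂)
      = (φ a : G₂) * φ b * (φ a : G₂)⁻¹) :
    ∃ e : G₁ ≃* (G₂ ⧸ Subgroup.center G₂),
      e '' D₁ = (QuotientGroup.mk : G₂ → G₂ ⧸ Subgroup.center G₂) '' D₂ := by
  obtain ⟨e, he⟩ := exists_equiv_quotient h₁.conj h₂.conj h₁.gen h₂.gen φ hφ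
  let E : G₁ ≃* (G₁ ⧸ Subgroup.center G₁) :=
    (QuotientGroup.quotientBot (G := G₁)).symm.trans
      (QuotientGroup.quotientMulEquivOfEq hz₁.symm)
  have hE : ∀ x : G₁, E x = QuotientGroup.mk x := fun x => rfl
  have hEe : ∀ a : ↥D₁, (E.trans e) a = QuotientGroup.mk ((φ a : ↥D₂) : G₂) := by
    intro a
    rw [← he a, ← hE]
    rfl
  refine ⟨E.trans e, ?_⟩
  apply Set.Subset.antisymm
  · rintro _ ⟨x, hx, rfl⟩
    exact ⟨φ ⟨x, hx⟩, (φ ⟨x, hx⟩).2, (hEe ⟨x, hx⟩).symm⟩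
  · rintro _ ⟨y, hy, rfl⟩
    obtain ⟨a, ha⟩ := φ.surjective ⟨y, hy⟩
    refine ⟨a, a.2, ?_⟩
    rw [hEe a, ha]

/-- **Matching**, both centres trivial. -/
theorem exists_iso (h₁ : FData D₁) (h₂ : FData D₂) (hz₁ : Subgroup.center G₁ = ⊥)
    (hz₂ : Subgroup.center G₂ = ⊥) (φ : ↥D₁ ≃ ↥D₂)
    (hφ : ∀ a b : ↥D₁, ((φ ⟨(a : G₁) * b * (a : G₁)⁻¹, h₁.conj a b b.2⟩ : ↥D₂) : G₂)
      = (φ a : G₂) * φ b * (φ a : G₂)⁻¹) :
    ∃ e : G₁ ≃* G₂, e '' D₁ = D₂ := by
  obtain ⟨e, he⟩ := exists_iso_quot h₁ h₂ hz₁ φ hφ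
  let E : G₂ ≃* (G₂ ⧸ Subgroup.center G₂) :=
    (QuotientGroup.quotientBot (G := G₂)).symm.trans
      (QuotientGroup.quotientMulEquivOfEq hz₂.symm)
  have hE : ∀ x : G₂, E x = QuotientGroup.mk x := fun x => rfl
  refine ⟨e.trans E.symm, ?_⟩
  have h1 : (e.trans E.symm) '' D₁ = E.symm '' (e '' D₁) := by
    rw [← Set.image_comp]
    rfl
  rw [h1, he]
  apply Set.Subset.antisymm
  · rintro _ ⟨_, ⟨y, hy, rfl⟩, rfl⟩
    rw [← hE, E.symm_apply_apply]
    exact hy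
  · intro y hy
    refine ⟨_, ⟨y, hy, rfl⟩, ?_⟩
    rw [← hE, E.symm_apply_apply]

end General

/-- The centre of a symmetric group. -/
theorem center_perm {n : ℕ} (hn : 3 ≤ n) : Subgroup.center (Equiv.Perm (Fin n)) = ⊥ := by
  rw [eq_bot_iff]
  intro σ hσ
  rw [Subgroup.mem_center_iff] at hσ
  rw [Subgroup.mem_bot]
  have key : ∀ i j : Fin n, i ≠ j → Equiv.swap (σ i) (σ j) = Equiv.swap i j := by
    intro i j _
    rw [Equiv.swap_apply_apply, ← hσ, mul_assoc, mul_inv_cancel, mul_one]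
  ext i
  have hcard : Fintype.card (Fin n) = n := Fintype.card_fin n
  obtain ⟨j, hj, k, hk, hjk⟩ : ∃ j, j ≠ i ∧ ∃ k, k ≠ i ∧ j ≠ k := by
    have h1 : 1 < (Finset.univ.erase i : Finset (Fin n)).card := by
      rw [Finset.card_erase_of_mem (Finset.mem_univ i), Finset.card_univ, hcard]
      omega
    obtain ⟨j, hj, k, hk, hjk⟩ := Finset.one_lt_card.1 h1
    exact ⟨j, (Finset.mem_erase.1 hj).1, k, (Finset.mem_erase.1 hk).1, hjk⟩
  have h3 : ∀ j : Fin n, j ≠ i → σ i = i ∨ σ i = j := by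
    intro j hj
    by_contra hcon
    push Not at hcon
    have h4 := congrArg (fun τ : Equiv.Perm (Fin n) => τ (σ i)) (key i j hj.symm)
    simp only [Equiv.swap_apply_left] at h4
    rw [Equiv.swap_apply_of_ne_of_ne hcon.1 hcon.2] at h4
    exact hj (σ.injective h4)
  rcases h3 j hj with h4 | h4
  · rw [h4]; rfl
  · rcases h3 k hk with h5 | h5
    · rw [h5]; rfl
    · exact absurd (h4.symm.trans h5) hjk

/-- **Type `Sym n`.** -/
theorem exists_iso_perm {G : Type*} [Group G] {D : Set G} {n : ℕ} (h : FData D)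
    (hz : Subgroup.center G = ⊥) (hn : 5 ≤ n) (hS : IsSym n D) :
    ∃ e : G ≃* Equiv.Perm (Fin n), e '' D = {σ : Equiv.Perm (Fin n) | σ.IsSwap} := by
  classical
  obtain ⟨t, hL⟩ := labels_of_isSym hS
  have hcard : 5 ≤ Fintype.card (Fin n) := by rw [Fintype.card_fin]; exact hn
  have h₂ : FData {σ : Equiv.Perm (Fin n) | σ.IsSwap} :=
    fdata_of_class (Cfsg.Agent.S0439.result n (by omega))
  have hex : ∀ x : ↥D, ∃ i j, i ≠ j ∧ t i j = x := fun x => hL.surj x x.2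
  choose p q hpq ht using hex
  let φ₀ : ↥D → ↥{σ : Equiv.Perm (Fin n) | σ.IsSwap} := fun x =>
    ⟨Equiv.swap (p x) (q x), p x, q x, hpq x, rfl⟩
  have hφ₀ : ∀ (i j : Fin n) (hij : i ≠ j) (x : ↥D), t i j = x →
      ((φ₀ x : ↥{σ : Equiv.Perm (Fin n) | σ.IsSwap}) : Equiv.Perm (Fin n)) = Equiv.swap i j := by
    intro i j hij x hx
    show Equiv.swap (p x) (q x) = Equiv.swap i j
    have h1 : t (p x) (q x) = t i j := by rw [ht x, hx]
    rcases hL.inj hcard (hpq x) hij h1 with h2 | h2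
    · rw [h2.1, h2.2]
    · rw [h2.1, h2.2, Equiv.swap_comm]
  have hbij : Function.Bijective φ₀ := by
    constructor
    · intro x y hxy
      have h1 : Equiv.swap (p x) (q x) = Equiv.swap (p y) (q y) := congrArg Subtype.val hxy
      apply Subtype.ext
      rw [← ht x, ← ht y]
      have h2 : ∀ k, k ≠ p y → k ≠ q y → k ≠ p x := by
        rintro k h3 h4 rfl
        have h5 := congrArg (fun τ : Equiv.Perm (Fin n) => τ (p x)) h1
        simp only [Equiv.swap_apply_left] at h5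
        rw [Equiv.swap_apply_of_ne_of_ne h3 h4] at h5
        exact hpq x h5.symm
      have h2' : p x = p y ∨ p x = q y := by
        by_contra hcon
        push Not at hcon
        exact h2 _ hcon.1 hcon.2 rfl
      rcases h2' with h3 | h3
      · have h5 := congrArg (fun τ : Equiv.Perm (Fin n) => τ (p x)) h1
        simp only [Equiv.swap_apply_left] at h5
        rw [h3, Equiv.swap_apply_left] at h5
        rw [h3, h5]
      · have h5 := congrArg (fun τ : Equiv.Perm (Fin n) => τ (p x)) h1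
        simp only [Equiv.swap_apply_left] at h5
        rw [h3, Equiv.swap_apply_right] at h5
        rw [h3, h5, hL.symm]
    · rintro ⟨σ, i, j, hij, rfl⟩
      exact ⟨⟨t i j, hL.mem i j hij⟩, Subtype.ext (hφ₀ i j hij _ rfl)⟩
  refine exists_iso h h₂ hz (center_perm (by omega)) (Equiv.ofBijective φ₀ hbij) ?_
  intro a b
  have h1 : cj (t (p a) (q a)) (t (p b) (q b)) =
      t (Equiv.swap (p a) (q a) (p b)) (Equiv.swap (p a) (q a) (q b)) :=
    hL.conj_label h hcard (Set.Subset.refl _) (fun y _ z hz _ => cj_mem h hz) (hpq a) (hpq b)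
  rw [ht a, ht b] at h1
  show ((φ₀ ⟨(a : G) * b * (a : G)⁻¹, h.conj a b b.2⟩ :
    ↥{σ : Equiv.Perm (Fin n) | σ.IsSwap}) : Equiv.Perm (Fin n)) = _
  rw [hφ₀ _ _ ((Equiv.swap (p a) (q a)).injective.ne (hpq b)) _ h1.symm,
    Equiv.swap_apply_apply]
  rfl

end Cfsg.Agent.H805.MSym
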