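import Mathlib
import Cfsg.Agent.Fischer891.FinalSp
import Cfsg.Agent.Fischer919.FinalU
import Cfsg.Agent.Fischer919.OmegaR
import Cfsg.Agent.H805.MSym
import Cfsg.Prelude.Def_FischerSpaces

set_option autoImplicit false

/-!
# S5368: the symplectic, unitary and mod 3 reflection groups
-/

namespace Cfsg.Agent.H805.MSpU

open Cfsg Cfsg.Agent.SporadicStructure.FischerSpace Cfsg.Agent.Fischer480.Defs
open Cfsg.Agent.ThreeTransPolar.Basic

section Sp

open Cfsg.Agent.Fischer891.Lin Cfsg.Agent.Fischer891.SpUp Cfsg.Agent.Fischer891.FinalSp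

variable {G : Type*} [Group G] {D : Set G} {n : ℕ}

theorem hyps_of_isSp (R : Rk D) (hS : IsSp n D) : Fischer3.SpCase.Hyps D := by
  obtain ⟨B, f, C⟩ := isSp_iff.1 hS
  have h := R.fd
  refine ⟨h, R.center, ?_, ?_, ?_, ?_⟩
  · intro x hx y hy hxy
    exact R.perp_sub x hx y hy fun d hd hdx => (hxy d hd).1 hdx
  · intro x hx y hy hne hc
    have hne0 : f x + f y ≠ 0 := fun h1 => hne (C.inj x hx y hy (v_add_eq_zero h1))
    obtain ⟨z, hz, hfz⟩ := C.surj _ hne0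
    have hzx : z ≠ x := by
      rintro rfl
      have h1 : f z + f z = f z + (f z + f y) := by rw [← hfz]
      rw [v_add_self, ← add_assoc, v_add_self, zero_add] at h1
      exact C.ne y hy h1.symm
    have hzy : z ≠ y := by
      rintro rfl
      have h1 : f z + f z = (f x + f z) + f z := by rw [← hfz]
      rw [v_add_self, add_assoc, v_add_self, add_zero] at h1
      exact C.ne x hx h1.symm
    have hline : Fischer3.SpCase.Line D x y = {x, y, z} := by
      ext w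
      constructor
      · rintro ⟨hw, hw'⟩
        rcases double_perp C hw hx hy hw' with h1 | h1 | h1
        · exact Or.inl (C.inj w hw x hx h1)
        · exact Or.inr (Or.inl (C.inj w hw y hy h1))
        · exact Or.inr (Or.inr (C.inj w hw z hz (by rw [h1, hfz])))
      · rintro (rfl | rfl | rfl)
        · exact Fischer3.SpCase.left_mem_line hx y
        · exact Fischer3.SpCase.right_mem_line x hy
        · refine ⟨hz, fun d hd h1 h2 => ?_⟩
          rw [← nc_eq_zero, ← C.B_eq hd hz, hfz, map_add, C.B_eq hd hx, C.B_eq hd hy,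
            nc_eq_zero.2 h1, nc_eq_zero.2 h2, add_zero]
    rw [hline, Set.ncard_eq_three]
    exact ⟨x, y, z, hne, hzx.symm, hzy.symm, rfl⟩
  · intro x hx y hy hne hc d hd
    by_cases hdx : Commute d x
    · exact ⟨x, Fischer3.SpCase.left_mem_line hx y, hdx⟩
    by_cases hdy : Commute d y
    · exact ⟨y, Fischer3.SpCase.right_mem_line x hy, hdy⟩
    have hne0 : f x + f y ≠ 0 := fun h1 => hne (C.inj x hx y hy (v_add_eq_zero h1))
    obtain ⟨z, hz, hfz⟩ := C.surj _ hne0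
    refine ⟨z, ⟨hz, fun e he h1 h2 => ?_⟩, ?_⟩
    · rw [← nc_eq_zero, ← C.B_eq he hz, hfz, map_add, C.B_eq he hx, C.B_eq he hy,
        nc_eq_zero.2 h1, nc_eq_zero.2 h2, add_zero]
    · rw [← nc_eq_zero, ← C.B_eq hd hz, hfz, map_add, C.B_eq hd hx, C.B_eq hd hy,
        nc_eq_one.2 hdx, nc_eq_one.2 hdy]
      decide
  · intro x hx y hy hxy z hz hz'
    have hc : cj x y ∈ D := cj_mem h hy
    have h3 : f (cj x y) = f x + f y := by
      rcases double_perp C hc hx hy (fun d _ h1 h2 => commute_cj_of h1 h2) with h1 | h1 | h1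
      · exact absurd (C.inj _ hc _ hx h1) (third_ne_left h hx hxy)
      · exact absurd (C.inj _ hc _ hy h1) (third_ne_right hxy)
      · exact h1
    rcases double_perp C hz hx hy hz' with h1 | h1 | h1
    · exact Or.inl (C.inj _ hz _ hx h1)
    · exact Or.inr (Or.inl (C.inj _ hz _ hy h1))
    · right; right
      rw [← cj_eq_mul h hx]
      exact C.inj _ hz _ hc (by rw [h1, h3])

/-- **Type `Sp(2n)`.** -/
theorem exists_iso_sp [Finite G] (R : Rk D) (hS : IsSp n D) :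
    ∃ m : ℕ, ∃ e : G ≃* Matrix.symplecticGroup (Fin m) (ZMod 2), e '' D = {g : Matrix.symplecticGroup (Fin m) (ZMod 2) | ((g : Matrix (Fin m ⊕ Fin m) (Fin m ⊕ Fin m) (ZMod 2)) - 1).rank = 1} := by
  obtain ⟨m, e, -, he⟩ := Fischer3.SpCase.exists_equiv_sp (hyps_of_isSp R hS)
  refine ⟨m, e, ?_⟩
  apply Set.Subset.antisymm
  · rintro _ ⟨x, hx, rfl⟩
    exact (he x).1 hx
  · intro g hg
    refine ⟨e.symm g, (he _).2 ?_, e.apply_symm_apply g⟩
    rw [e.apply_symm_apply]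
    exact hg

end Sp

section U

open Cfsg.Agent.S0480U.UModel Cfsg.Agent.Fischer920.PsuEnd Cfsg.Agent.Fischer919.FinalU

variable {G : Type*} [Group G] {D : Set G} {n : ℕ}

/-- **Type `U n`.** -/
theorem exists_iso_psu (h : FData D) (hz : Subgroup.center G = ⊥) (hn : 4 ≤ n) (hU : IsU n D) :
    ∃ (F : Type) (_ : Field F) (_ : Fintype F), Fintype.card F = 4 ∧ ∃ e : G ≃* Cfsg.PSU n F 2, e '' D = (QuotientGroup.mk : ↥(Cfsg.SU n F 2) → Cfsg.PSU n F 2) '' {g : ↥(Cfsg.SU n F 2) | (((g : Matrix.SpecialLinearGroup (Fin n) F) : Matrix (Fin n) (Fin n) F) - 1).rank = 1} := by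
  obtain ⟨F, i1, i2, f, U⟩ := exists_um hU
  have hfin := U.fin
  obtain ⟨e, he⟩ := exists_equiv_psu h hz
    (hyp_of_um U hn h) U.card U.herm U.dim hn f U.ne U.iso U.comm U.inj U.surj
  refine ⟨F, i1, i2, U.card, e, ?_⟩
  apply Set.Subset.antisymm
  · rintro _ ⟨x, hx, rfl⟩
    obtain ⟨t, ht, hxt⟩ := (he x).1 hx
    exact ⟨t, ht, hxt.symm⟩
  · rintro _ ⟨t, ht, rfl⟩
    refine ⟨e.symm (QuotientGroup.mk t), (he _).2 ⟨t, ht, ?_⟩, e.apply_symm_apply _⟩
    rw [e.apply_symm_apply]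

end U

section R

open Cfsg.Agent.Fischer919.OmegaR
open Cfsg.Agent.Fischer3.Orth3Basic (Form)
open LinearMap (BilinForm)

variable {n : ℕ} {B : BilinForm (ZMod 3) (Fin n → ZMod 3)}

/-- the reflections in vectors of norm one -/
theorem RR_eq (F : Form B) : RR B = reflectionsOfNorm (⇑(QB B)) 1 := by
  ext g
  constructor
  · rintro ⟨v, hv, rfl⟩
    exact ⟨v, hv, rfl⟩
  · rintro ⟨v, hv, hg⟩
    refine ⟨v, hv, ?_⟩
    apply Subtype.ext
    apply Units.ext
    rw [hg]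
    rfl

theorem Gam_eq (F : Form B) : Gam B = reflectionSubgroup (⇑(QB B)) 1 := by
  rw [Gam, reflectionSubgroup, RR_eq F]

theorem polarBilin_nondeg (F : Form B) (hB : B.Nondegenerate) :
    (QuadraticMap.polarBilin (QB B)).Nondegenerate := by
  have h1 : ∀ v w, QuadraticMap.polarBilin (QB B) v w = 2 * B v w := fun v w => polar_QB F v w
  have h2 : ∀ a : ZMod 3, 2 * a = 0 → a = 0 := by decide
  have h3 : (QuadraticMap.polarBilin (QB B)).SeparatingLeft := by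
    intro v hv
    apply hB.1
    intro w
    exact h2 _ ((h1 v w).symm.trans (hv w))
  refine ⟨h3, fun v hv => ?_⟩
  apply hB.2
  intro w
  exact h2 _ ((h1 w v).symm.trans (hv w))

/-- the data of `IsR` -/
theorem exists_chart {G : Type*} [Group G] {E : Set G} (h : IsR n E) :
    ∃ (B : BilinForm (ZMod 3) (Fin n → ZMod 3)) (f : G → Fin n → ZMod 3), Form B ∧
      B.Nondegenerate ∧ (∀ x ∈ E, B (f x) (f x) = 1) ∧
    (∀ x ∈ E, ∀ y ∈ E, (Commute x y ↔ x = y ∨ B (f x) (f y) = 0)) ∧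
    (∀ x ∈ E, ∀ y ∈ E, (f x = f y ∨ f x = - f y) → x = y) ∧
    (∀ v, B v v = 1 → ∃ x ∈ E, v = f x ∨ v = - f x) := by
  obtain ⟨B, f, h1, h2, h3⟩ := h
  exact ⟨B, f, ⟨h1.eq, h2.1⟩, h2, h3⟩

/-- **Type `R n`.** -/
theorem exists_iso_refl {G : Type*} [Group G] {D : Set G} (h : FData D)
    (hz : Subgroup.center G = ⊥) (hn : 6 ≤ n) (F : Form B) (f : G → Fin n → ZMod 3)
    (h1 : ∀ x ∈ D, B (f x) (f x) = 1)
    (h2 : ∀ x ∈ D, ∀ y ∈ D, (Commute x y ↔ x = y ∨ B (f x) (f y) = 0))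
    (h3 : ∀ x ∈ D, ∀ y ∈ D, (f x = f y ∨ f x = - f y) → x = y)
    (h4 : ∀ v, B v v = 1 → ∃ x ∈ D, v = f x ∨ v = - f x) :
    ∃ e : G ≃* ↥(Cfsg.reflectionSubgroup (⇑(QB B)) 1) ⧸ Subgroup.center ↥(Cfsg.reflectionSubgroup (⇑(QB B)) 1), e '' D = (QuotientGroup.mk : ↥(Cfsg.reflectionSubgroup (⇑(QB B)) 1) → _) '' {g : ↥(Cfsg.reflectionSubgroup (⇑(QB B)) 1) | (g : ↥(Cfsg.isometryGroup (ZMod 3) (⇑(QB B)))) ∈ Cfsg.reflectionsOfNorm (⇑(QB B)) 1} := by
  obtain ⟨e, he⟩ := exists_equiv_Gam F h hn h1 h2 h3 h4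
  rw [← RR_eq F]
  have hK := Gam_eq F
  generalize reflectionSubgroup (⇑(QB B)) 1 = K at hK
  subst hK
  let E : G ≃* (G ⧸ Subgroup.center G) :=
    (QuotientGroup.quotientBot (G := G)).symm.trans
      (QuotientGroup.quotientMulEquivOfEq hz.symm)
  have hE : ∀ x : G, E x = QuotientGroup.mk x := fun x => rfl
  refine ⟨E.trans e, ?_⟩
  apply Set.Subset.antisymm
  · rintro _ ⟨x, hx, rfl⟩
    refine ⟨_, ?_, (he x hx).symm⟩
    exact ⟨f x, h1 x hx, rfl⟩
  · rintro _ ⟨g, ⟨v, hv, hg⟩, rfl⟩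
    obtain ⟨x, hx, hxv⟩ := h4 v hv
    refine ⟨x, hx, ?_⟩
    have h5 : (E.trans e) x = e (QuotientGroup.mk x) := rfl
    rw [h5, he x hx]
    congr 1
    apply Subtype.ext
    show rr B (h1 x hx) = g
    rw [← hg]
    exact (rr_eq F hv (h1 x hx) hxv).symm

end R

end Cfsg.Agent.H805.MSpU
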