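import Mathlib
import Cfsg.Agent.ClassicalGeometry.Discriminant
import Cfsg.Agent.H805.MSpU

set_option autoImplicit false

/-!
# S5368: number of norm one vectors and discriminant over the field with three elements
-/

namespace Cfsg.Agent.H805.CountR

open Cfsg Cfsg.Agent.Fischer480.Defs
open Cfsg.Agent.Fischer919.OmegaR
open Cfsg.Agent.Fischer3.Orth3Basic (Form)
open LinearMap (BilinForm)

/-- the number of solutions of `∑ c i x i ^ 2 = t` -/
noncomputable def N (n : ℕ) (c : Fin n → ZMod 3) (t : ZMod 3) : ℕ :=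
  Nat.card {x : Fin n → ZMod 3 // ∑ i, c i * (x i * x i) = t}

theorem N_zero (c : Fin 0 → ZMod 3) (t : ZMod 3) : N 0 c t = if t = 0 then 1 else 0 := by
  unfold N
  by_cases ht : t = 0
  · rw [if_pos ht]
    have : ∀ x : Fin 0 → ZMod 3, ∑ i, c i * (x i * x i) = t := by
      intro x
      rw [ht]
      simp
    rw [Nat.card_congr (Equiv.subtypeUnivEquiv this)]
    simp
  · rw [if_neg ht]
    have : IsEmpty {x : Fin 0 → ZMod 3 // ∑ i, c i * (x i * x i) = t} := by
      constructor
      rintro ⟨x, hx⟩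
      apply ht
      rw [← hx]
      simp
    exact Nat.card_eq_zero.2 (Or.inl this)

theorem N_succ (n : ℕ) (c : Fin (n + 1) → ZMod 3) (t : ZMod 3) :
    N (n + 1) c t = N n (fun i => c i.succ) t + 2 * N n (fun i => c i.succ) (t - c 0) := by
  let e : {x : Fin (n + 1) → ZMod 3 // ∑ i, c i * (x i * x i) = t} ≃
      Σ a : ZMod 3, {x : Fin n → ZMod 3 // ∑ i : Fin n, c i.succ * (x i * x i) = t - c 0 * (a * a)} :=
    { toFun := fun x => ⟨x.1 0, fun i => x.1 i.succ, by
        have h := x.2
        rw [Fin.sum_univ_succ] at h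
        exact eq_sub_of_add_eq' h⟩
      invFun := fun p => ⟨Fin.cons p.1 p.2.1, by
        rw [Fin.sum_univ_succ]
        simp only [Fin.cons_zero, Fin.cons_succ]
        rw [p.2.2]
        ring⟩
      left_inv := by
        rintro ⟨x, hx⟩
        apply Subtype.ext
        funext i
        refine Fin.cases ?_ (fun j => ?_) i
        · rfl
        · rfl
      right_inv := by
        rintro ⟨a, x, hx⟩
        rfl }
  unfold N
  rw [Nat.card_congr e, Nat.card_sigma]
  have h0 : ∀ f : ZMod 3 → ℕ, ∑ a, f a = f 0 + f 1 + f 2 := by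
    intro f
    exact Fin.sum_univ_three f
  rw [h0]
  have e0 : t - c 0 * ((0 : ZMod 3) * 0) = t := by ring
  have e1 : t - c 0 * ((1 : ZMod 3) * 1) = t - c 0 := by ring
  have e2 : t - c 0 * ((2 : ZMod 3) * 2) = t - c 0 := by
    have : (2 : ZMod 3) * 2 = 1 := by decide
    rw [this]; ring
  rw [e0, e1, e2]
  ring

/-- the recursive function for all coefficients one -/
def A : ℕ → ZMod 3 → ℕ
  | 0, t => if t = 0 then 1 else 0
  | n + 1, t => A n t + 2 * A n (t - 1)

theorem N_one (n : ℕ) : ∀ t, N n (fun _ => 1) t = A n t := by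
  induction n with
  | zero => intro t; exact N_zero _ t
  | succ n ih =>
    intro t
    rw [N_succ]
    show N n (fun _ => 1) t + 2 * N n (fun _ => 1) (t - 1) = A n t + 2 * A n (t - 1)
    rw [ih, ih]

/-- the coefficients `d, 1, ..., 1` -/
def cf (n : ℕ) (d : ZMod 3) : Fin (n + 1) → ZMod 3 := Fin.cons d fun _ => 1

theorem N_cf (n : ℕ) (d t : ZMod 3) : N (n + 1) (cf n d) t = A n t + 2 * A n (t - d) := by
  rw [N_succ]
  show N n (fun _ => 1) t + 2 * N n (fun _ => 1) (t - d) = _
  rw [N_one, N_one]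

/-- the Gram determinant -/
noncomputable def gdet {n : ℕ} (B : BilinForm (ZMod 3) (Fin n → ZMod 3)) : ZMod 3 :=
  (LinearMap.BilinForm.toMatrix (Pi.basisFun (ZMod 3) (Fin n)) B).det

/-- **The number of norm one vectors.** -/
theorem card_norm_one {n : ℕ} (B : BilinForm (ZMod 3) (Fin (n + 1) → ZMod 3)) (hS : B.IsSymm)
    (hB : B.Nondegenerate) :
    Nat.card {v : Fin (n + 1) → ZMod 3 // B v v = 1} = A n 1 + 2 * A n (1 - gdet B) := by
  have hd0 : gdet B ≠ 0 := (LinearMap.BilinForm.nondegenerate_iff_det_ne_zero _).1 hB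
  have h2 : (2 : ZMod 3) ≠ 0 := by decide
  obtain ⟨v, hv⟩ := Cfsg.Agent.ClassicalGeometry.Discriminant.exists_basis_diag_fin h2 (n + 1) B hS
    hB (Pi.basisFun (ZMod 3) (Fin (n + 1))) (cf n (gdet B)) (by
      intro i
      refine Fin.cases ?_ (fun j => ?_) i
      · exact hd0
      · show (1 : ZMod 3) ≠ 0
        decide) 1 (by
      rw [Fin.prod_univ_succ]
      show gdet B = 1 ^ 2 * (gdet B * ∏ i : Fin n, (1 : ZMod 3))
      rw [Finset.prod_const_one]
      ring)
  rw [← N_cf]
  unfold N
  refine Nat.card_congr ((v.equivFun.toEquiv).subtypeEquiv fun x => ?_)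
  have h3 : B x x = ∑ i, cf n (gdet B) i * (v.equivFun x i * v.equivFun x i) := by
    conv_lhs => rw [← v.sum_equivFun x]
    rw [map_sum]
    simp only [LinearMap.sum_apply, map_sum, map_smul, LinearMap.smul_apply, smul_eq_mul]
    refine Finset.sum_congr rfl fun i _ => ?_
    rw [Finset.sum_eq_single i]
    · rw [hv, if_pos rfl]; ring
    · intro j _ hji
      rw [hv, if_neg hji]
      ring
    · intro h
      exact absurd (Finset.mem_univ i) h
  rw [h3]
  rfl

theorem gdet_cases {n : ℕ} {B : BilinForm (ZMod 3) (Fin n → ZMod 3)} (hB : B.Nondegenerate) :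
    gdet B = 1 ∨ gdet B = -1 := by
  have hd0 : gdet B ≠ 0 := (LinearMap.BilinForm.nondegenerate_iff_det_ne_zero _).1 hB
  revert hd0
  generalize gdet B = d
  revert d
  decide

/-- the norm one vectors of a set of type `R n` -/
theorem card_isR {G : Type*} [Group G] [Finite G] {n : ℕ} {E : Set G}
    {B : BilinForm (ZMod 3) (Fin n → ZMod 3)} {f : G → Fin n → ZMod 3}
    (h1 : ∀ x ∈ E, B (f x) (f x) = 1)
    (h3 : ∀ x ∈ E, ∀ y ∈ E, (f x = f y ∨ f x = - f y) → x = y)
    (h4 : ∀ v, B v v = 1 → ∃ x ∈ E, v = f x ∨ v = - f x) :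
    Nat.card {v : Fin n → ZMod 3 // B v v = 1} = 2 * E.ncard := by
  have hneg : ∀ v : Fin n → ZMod 3, B v v = 1 → v ≠ -v := by
    intro v hv h
    have h5 : v + v = 0 := by
      nth_rewrite 2 [h]
      exact add_neg_cancel v
    have h6 : v = 0 := by
      have h7 : (2 : ZMod 3) • v = 0 := by rw [two_smul]; exact h5
      have h8 : (2 : ZMod 3) • (2 : ZMod 3) • v = v := by
        rw [smul_smul]
        have : (2 : ZMod 3) * 2 = 1 := by decide
        rw [this, one_smul]
      rw [← h8, h7, smul_zero]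
    rw [h6] at hv
    simp at hv
  let φ : ↥E × Bool → {v : Fin n → ZMod 3 // B v v = 1} := fun p =>
    ⟨if p.2 then f p.1 else - f p.1, by
      split_ifs
      · exact h1 _ p.1.2
      · rw [map_neg, map_neg, LinearMap.neg_apply, neg_neg]; exact h1 _ p.1.2⟩
  have hφ : Function.Bijective φ := by
    constructor
    · rintro ⟨⟨x, hx⟩, b⟩ ⟨⟨y, hy⟩, c⟩ hxy
      have h5 : (if b then f x else - f x) = (if c then f y else - f y) :=
        congrArg Subtype.val hxy
      cases b <;> cases c
      · have h6 : - f x = - f y := h5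
        have h7 := h3 x hx y hy (Or.inl (neg_injective h6))
        subst h7
        rfl
      · exfalso
        have h6 : - f x = f y := h5
        have h7 := h3 x hx y hy (Or.inr (by rw [← h6, neg_neg]))
        subst h7
        exact hneg _ (h1 x hx) h6.symm
      · exfalso
        have h6 : f x = - f y := h5
        have h7 := h3 x hx y hy (Or.inr h6)
        subst h7
        exact hneg _ (h1 x hx) h6
      · have h6 : f x = f y := h5
        have h7 := h3 x hx y hy (Or.inl h6)
        subst h7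
        rfl
    · rintro ⟨v, hv⟩
      obtain ⟨x, hx, h5 | h5⟩ := h4 v hv
      · exact ⟨(⟨x, hx⟩, true), Subtype.ext h5.symm⟩
      · exact ⟨(⟨x, hx⟩, false), Subtype.ext h5.symm⟩
  rw [← Nat.card_congr (Equiv.ofBijective φ hφ), Nat.card_prod, Nat.card_coe_set_eq]
  simp [mul_comm]

/-- the polar discriminant -/
theorem polarGramDet_QB {n : ℕ} {B : BilinForm (ZMod 3) (Fin n → ZMod 3)} (F : Form B) :
    polarGramDet (⇑(QB B)) = (-1) ^ n * gdet B := by
  unfold polarGramDet gdet
  have h1 : (Matrix.of fun i j : Fin n => QuadraticMap.polar (⇑(QB B)) (Pi.single i 1)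
      (Pi.single j 1)) = (-1 : ZMod 3) •
        (LinearMap.BilinForm.toMatrix (Pi.basisFun (ZMod 3) (Fin n)) B) := by
    ext i j
    rw [Matrix.of_apply, Matrix.smul_apply, LinearMap.BilinForm.toMatrix_apply, polar_QB F,
      Pi.basisFun_apply, Pi.basisFun_apply, smul_eq_mul]
    have : (2 : ZMod 3) = -1 := by decide
    rw [this]
  rw [h1, Matrix.det_smul, Fintype.card_fin]

theorem val5 : A 5 1 + 2 * A 5 (1 - (-1)) ≠ 252 := by decide +kernel
theorem val6 : A 6 1 + 2 * A 6 (1 - (-1)) ≠ 702 := by decide +kernel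
theorem val7 : A 7 1 + 2 * A 7 (1 - (-1)) = 2214 := by decide +kernel
theorem val7' : A 7 1 + 2 * A 7 (1 - 1) = 2160 := by decide +kernel

end Cfsg.Agent.H805.CountR
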