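import Mathlib
import Cfsg.Agent.H805.ComT
import Cfsg.Agent.H805.CountR
import Cfsg.Agent.TSp.OrdersT

set_option autoImplicit false

/-!
# S5368: the types `T6`, `T7` are the types M(22), M(23)
-/

namespace Cfsg.Agent.H805.MTypes

open Cfsg Cfsg.Agent.SporadicStructure.FischerSpace
open Cfsg.Agent.ThreeTransPolar.Basic Cfsg.Agent.ThreeTransPolar.Lines
open Cfsg.Agent.TSp.Basic (TSet)
open Cfsg.Agent.Fischer480.Defs hiding FGroup
open Cfsg.Agent.Fischer160.Inherit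
open Cfsg.Agent.Fischer919.OmegaR
open Cfsg.Agent.Fischer3.Orth3Basic (Form)
open LinearMap (BilinForm)
open Cfsg.Agent.H805.Sub Cfsg.Agent.H805.Comb Cfsg.Agent.H805.ComT Cfsg.Agent.H805.CountR

universe u

variable {G : Type u} [Group G]

/-- a good set of type `R n` generates, modulo the centre, a mod 3 reflection group -/
theorem proj_refl [Finite G] {n : ℕ} {S : Set G} (hg : Good S) (hn : 6 ≤ n) (hR : IsR n S) :
    ∃ B : BilinForm (ZMod 3) (Fin n → ZMod 3), B.IsSymm ∧ Form B ∧ B.Nondegenerate ∧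
      Nat.card {v : Fin n → ZMod 3 // B v v = 1} = 2 * S.ncard ∧
      ∃ e : KS S ≃* ↥(reflectionSubgroup (⇑(QB B)) 1) ⧸
        Subgroup.center ↥(reflectionSubgroup (⇑(QB B)) 1),
        e '' (ES S) = (QuotientGroup.mk : ↥(Cfsg.reflectionSubgroup (⇑(QB B)) 1) → _) '' {g : ↥(Cfsg.reflectionSubgroup (⇑(QB B)) 1) | (g : ↥(Cfsg.isometryGroup (ZMod 3) (⇑(QB B)))) ∈ Cfsg.reflectionsOfNorm (⇑(QB B)) 1} := by
  have hiso := cIso_ES hg
  have hR' : IsR n (ES S) :=
    Cfsg.Agent.Fischer480.Transport.isR (Cfsg.Agent.Fischer480.Transport.CIso.symm hiso) hR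
  obtain ⟨B, f, hS, hB, h1, h2, h3, h4⟩ := hR'
  have F : Form B := ⟨hS.eq, hB.1⟩
  have hc := card_isR h1 h3 h4
  rw [← Cfsg.Agent.Fischer480.Transport.ncard_eq hiso] at hc
  exact ⟨B, hS, F, hB, hc, MSpU.exists_iso_refl (fdata_ES hg) (center_KS hg) hn F f h1 h2 h3 h4⟩

/-- the literal set of the definitions -/
theorem inter_eq {D : Set G} {d c : G} (hdc : ¬ Commute d c) :
    {y : G | y ∈ D ∧ y ≠ d ∧ Commute d y} ∩ {y : G | y ∈ D ∧ y ≠ c ∧ Commute c y} = Com D d c := by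
  ext z
  constructor
  · rintro ⟨⟨h1, h2, h3⟩, h4, h5, h6⟩
    exact ⟨h1, h3, h6⟩
  · rintro ⟨h1, h2, h3⟩
    refine ⟨⟨h1, ?_, h2⟩, h1, ?_, h3⟩
    · rintro rfl
      exact hdc h3.symm
    · rintro rfl
      exact hdc h2

theorem proj_transfer {S T : Set G} (h : S = T) {n : ℕ} {μ c : ZMod 3}
    (hT : IsProjReflectionGroupModThree (KS T) n μ c) :
    IsProjReflectionGroupModThree
      (↥(Subgroup.closure S) ⧸ Subgroup.center ↥(Subgroup.closure S)) n μ c := by
  subst h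
  exact hT

theorem center_of_sol {D : Set G} (F : FGroup D) : Subgroup.center G = ⊥ := by
  apply F.sol _ inferInstance
  exact Group.isSolvable_of_comm fun a b =>
    Subtype.ext ((Subgroup.mem_center_iff.1 b.2) a)

section Six

variable [Finite G] {D : Set G}

/-- **Type `T6` is type M(22).** -/
theorem m22_of_isT6 (F : FGroup D) (h : IsT6 D) : IsOfTypeM22 G D := by
  have R := rk_of_FGroup F
  have h6 := Cfsg.Agent.TSp.OrdersT.n6_of_isT6 h
  obtain ⟨d, hd⟩ := F.fd.nonempty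
  obtain ⟨c, hc, hdc⟩ := R.exCol d hd
  refine ⟨center_of_sol F, d, hd, c, hc, hdc, ?_, 1, by decide, ?_⟩
  · have hI := Cfsg.Agent.TSp.Orders.inherit_N6 F h6 hd
    have hiso := Cfsg.Agent.TSp.Orders.cIso_Eb F.fd (Cfsg.Agent.TSp.Orders.thin_N6 h6) hd
    have hU : IsU 6 (Eb D d) := Cfsg.Agent.Fischer480.Transport.isU
      (Cfsg.Agent.Fischer480.Transport.CIso.symm hiso) (h.2.1 d hd)
    obtain ⟨F4, i1, i2, hF, e, -⟩ := MSpU.exists_iso_psu hI.fd (center_of_sol hI) (by norm_num) hU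
    exact ⟨F4, i1, i2, hF, ⟨e⟩⟩
  · refine proj_transfer (inter_eq hdc) ?_
    have hT := Cfsg.Agent.TSp.Basic.tset_of_fdata F.fd
    obtain ⟨B, hS, hF, hB, hcard, e, -⟩ := proj_refl (good_six hT h hd hc hdc) (le_refl 6)
      (isR_six hT h hd hc hdc)
    refine ⟨QB B, MSpU.polarBilin_nondeg hF hB, ?_, ⟨e⟩⟩
    rw [card_norm_one B hS hB, (reg_six hT h hd hc hdc).card] at hcard
    rcases gdet_cases hB with h1 | h1
    · rw [polarGramDet_QB hF, h1]
      decide
    · rw [h1] at hcard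
      exact absurd hcard val5

end Six

section Seven

variable [Finite G] {D : Set G}

/-- **Type `T7` is type M(23).** -/
theorem m23_of_isT7 (F : FGroup D) (h : IsT7 D) : IsOfTypeM23 G D := by
  have R := rk_of_FGroup F
  have h7 := Cfsg.Agent.TSp.OrdersT.n7_of_isT7 h
  obtain ⟨d, hd⟩ := F.fd.nonempty
  obtain ⟨c, hc, hdc⟩ := R.exCol d hd
  refine ⟨center_of_sol F, d, hd, c, hc, hdc, ?_, 1, by decide, ?_⟩
  · have hI := Cfsg.Agent.TSp.Orders.inherit_N7 F h7 hd
    have hiso := Cfsg.Agent.TSp.Orders.cIso_Eb F.fd (Cfsg.Agent.TSp.Orders.thin_N7 h7) hd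
    exact m22_of_isT6 hI (Cfsg.Agent.Fischer480.Transport.isT6
      (Cfsg.Agent.Fischer480.Transport.CIso.symm hiso) (h.2.1 d hd))
  · refine proj_transfer (inter_eq hdc) ?_
    have hT := Cfsg.Agent.TSp.Basic.tset_of_fdata F.fd
    obtain ⟨B, hS, hF, hB, hcard, e, -⟩ := proj_refl (good_seven hT h hd hc hdc) (by norm_num)
      (isR_seven hT h hd hc hdc)
    refine ⟨QB B, MSpU.polarBilin_nondeg hF hB, ?_, ⟨e⟩⟩
    rw [card_norm_one B hS hB, (reg_seven hT h hd hc hdc).card] at hcard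
    rcases gdet_cases hB with h1 | h1
    · rw [polarGramDet_QB hF, h1]
      decide
    · rw [h1] at hcard
      exact absurd hcard val6

end Seven

end Cfsg.Agent.H805.MTypes
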