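import Mathlib
import Cfsg.Agent.H805.ComT
import Cfsg.Agent.H805.CountR

set_option autoImplicit false

/-!
# S5368: components of the commuting graph of a class with the numbers 3240, 351, 126
-/

namespace Cfsg.Agent.H805.CompT

open Cfsg Cfsg.Agent.SporadicStructure.FischerSpace
open Cfsg.Agent.ThreeTransPolar.Basic
open Cfsg.Agent.TSp.Basic (TSet)
open Cfsg.Agent.Fischer480.Defs
open Cfsg.Agent.Fischer3.Orth3Basic (Form)
open LinearMap (BilinForm)
open Cfsg.Agent.H805.Sub Cfsg.Agent.H805.Comb Cfsg.Agent.H805.ComT Cfsg.Agent.H805.CountR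

universe u

variable {K : Type u} [Group K] {T : Set K}

/-- the component of a member -/
def Cp (T : Set K) (a : K) : Set K := {b | Relation.ReflTransGen (Adj T) a b}

theorem self_mem (a : K) : a ∈ Cp T a := Relation.ReflTransGen.refl

theorem cp_subset {a : K} (ha : a ∈ T) : Cp T a ⊆ T := by
  intro b hb
  rcases Relation.ReflTransGen.cases_tail hb with h | ⟨c, -, h⟩
  · rw [h]; exact ha
  · exact h.1

theorem cp_of_adj {a z b : K} (hz : z ∈ Cp T a) (hb : b ∈ T) (h : Commute z b) : b ∈ Cp T a :=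
  Relation.ReflTransGen.tail hz ⟨hb, h⟩

theorem loc_subset_cp {a z : K} (hz : z ∈ Cp T a) : Loc T z ⊆ Cp T a := fun _ hb =>
  cp_of_adj hz hb.1 hb.2.2

theorem loc_cp {a z : K} (ha : a ∈ T) (hz : z ∈ Cp T a) : Loc (Cp T a) z = Loc T z := by
  ext b
  constructor
  · rintro ⟨h1, h2, h3⟩
    exact ⟨cp_subset ha h1, h2, h3⟩
  · rintro ⟨h1, h2, h3⟩
    exact ⟨cp_of_adj hz h1 h3, h2, h3⟩

theorem cp_symm {a b : K} (ha : a ∈ T) (h : b ∈ Cp T a) : a ∈ Cp T b := (adj_symm_path ha h).2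

theorem cp_eq {a b : K} (ha : a ∈ T) (h : b ∈ Cp T a) : Cp T b = Cp T a := by
  ext c
  constructor
  · intro hc
    exact Relation.ReflTransGen.trans h hc
  · intro hc
    exact Relation.ReflTransGen.trans (cp_symm ha h) hc

/-- conjugation moves paths -/
theorem cj_path (hT : ∀ g : K, ∀ x ∈ T, g * x * g⁻¹ ∈ T) (g : K) {u v : K}
    (h : Relation.ReflTransGen (Adj T) u v) :
    Relation.ReflTransGen (Adj T) (cj g u) (cj g v) := by
  induction h with
  | refl => exact Relation.ReflTransGen.refl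
  | tail _ hbc ih =>
    refine ih.tail ⟨hT g _ hbc.1, ?_⟩
    exact (FData.commute_conj_gen g _ _).2 hbc.2

theorem cp_tset (hF : FData T) {a : K} (ha : a ∈ T) : TSet (Cp T a) := by
  refine (Cfsg.Agent.TSp.Basic.tset_of_fdata hF).subset_closed (cp_subset ha) ?_
  intro u hu v hv
  have h1 : Relation.ReflTransGen (Adj T) u v :=
    Relation.ReflTransGen.trans (cp_symm ha hu) hv
  have h2 := cj_path hF.conj u h1
  rw [cj_self] at h2
  exact Relation.ReflTransGen.trans hu h2

theorem cp_conn {a : K} : Conn (Cp T a) := by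
  have key : ∀ b ∈ Cp T a, Relation.ReflTransGen (Adj (Cp T a)) a b := by
    intro b hb
    have h : ∀ b, Relation.ReflTransGen (Adj T) a b → b ∈ Cp T a ∧
        Relation.ReflTransGen (Adj (Cp T a)) a b := by
      intro b hb
      induction hb with
      | refl => exact ⟨self_mem a, Relation.ReflTransGen.refl⟩
      | tail _ hbc ih =>
        have h1 := cp_of_adj ih.1 hbc.1 hbc.2
        exact ⟨h1, ih.2.tail ⟨h1, hbc.2⟩⟩
    exact (h b hb).2
  intro b hb c hc
  exact ((adj_symm_path (self_mem a) (key b hb)).2).trans (key c hc)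

/-- the hypotheses -/
structure H8 (T : Set K) : Prop where
  fd : FData T
  cen : Subgroup.center K = ⊥
  red : ∀ a ∈ T, ∀ b ∈ T, (∀ z ∈ T, Commute z a ↔ Commute z b) → a = b
  wred : WRed T
  reg : Reg T 3240 351 126
  loc : ∀ z ∈ T, IsR 7 (Loc T z)
  lncon : ∀ z ∈ T, ∀ a ∈ Loc T z, ∀ b ∈ Loc T z, Commute a b →
    ∃ c ∈ Loc T z, ¬ Commute c a ∧ ¬ Commute c b

variable [Finite K]

theorem cp_ncon (h : H8 T) {a : K} (ha : a ∈ T) : ∀ u ∈ Cp T a, ∀ v ∈ Cp T a, Commute u v →
    ∃ c ∈ Cp T a, ¬ Commute c u ∧ ¬ Commute c v := by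
  intro u hu v hv huv
  have huT := cp_subset ha hu
  have hvT := cp_subset ha hv
  have hz : ∃ z ∈ Cp T a, u ∈ Loc T z ∧ v ∈ Loc T z := by
    by_cases hne : u = v
    · subst hne
      have h1 : (Loc T u).Nonempty := by
        rw [← Set.ncard_pos (Set.toFinite _), h.reg.deg u huT]
        norm_num
      obtain ⟨z, hz⟩ := h1
      exact ⟨z, loc_subset_cp hu hz, loc_symm huT hz, loc_symm huT hz⟩
    · have hvu : v ∈ Loc T u := ⟨hvT, fun h => hne h.symm, huv⟩
      have h1 : (Loc (Loc T u) v).Nonempty := by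
        rw [← Set.ncard_pos (Set.toFinite _), h.reg.lam u huT v hvu]
        norm_num
      obtain ⟨z, hz⟩ := h1
      exact ⟨z, loc_subset_cp hu hz.1, loc_symm huT hz.1,
        loc_symm hvT ⟨hz.1.1, hz.2.1, hz.2.2⟩⟩
  obtain ⟨z, hz, hu', hv'⟩ := hz
  obtain ⟨c, hc, h1, h2⟩ := h.lncon z (cp_subset ha hz) u hu' v hv' huv
  exact ⟨c, loc_subset_cp hz hc, h1, h2⟩

theorem cp_good (h : H8 T) {a : K} (ha : a ∈ T) : Good (Cp T a) where
  ts := cp_tset h.fd ha
  ne := ⟨a, self_mem a⟩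
  ncon := cp_ncon h ha
  red := by
    intro u hu v hv huv
    apply h.red u (cp_subset ha hu) v (cp_subset ha hv)
    intro z hz
    constructor
    · intro hc
      exact (huv z (cp_of_adj hu hz hc.symm)).1 hc
    · intro hc
      exact (huv z (cp_of_adj hv hz hc.symm)).2 hc

theorem cp_wRed (h : H8 T) {a : K} (ha : a ∈ T) : WRed (Cp T a) := by
  intro u hu v hv huv
  rw [loc_cp ha hu, loc_cp ha hv] at huv
  exact h.wred u (cp_subset ha hu) v (cp_subset ha hv) huv

theorem cp_pair (h : H8 T) {a : K} (ha : a ∈ T) : ∃ u ∈ Cp T a, ∃ v ∈ Cp T a,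
    u ≠ v ∧ Commute u v := by
  have h1 : (Loc T a).Nonempty := by
    rw [← Set.ncard_pos (Set.toFinite _), h.reg.deg a ha]
    norm_num
  obtain ⟨z, hz⟩ := h1
  exact ⟨a, self_mem a, z, loc_subset_cp (self_mem a) hz, fun h2 => hz.2.1 h2.symm, hz.2.2⟩

theorem cp_isR (h : H8 T) {a : K} (ha : a ∈ T) : IsR 8 (Cp T a) := by
  have hg := cp_good h ha
  have hF := fgroup_ES hg (cp_wRed h ha) cp_conn (cp_pair h ha)
  refine isR_of_fgroup hg hF (n := 7) (by norm_num) fun z hz => ?_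
  rw [loc_cp ha hz]
  exact h.loc z (cp_subset ha hz)

/-- the two possible sizes -/
theorem card_isR_eight {S : Set K} (h : IsR 8 S) : S.ncard = 1080 ∨ S.ncard = 1107 := by
  obtain ⟨B, f, hS, hB, h1, h2, h3, h4⟩ := h
  have hc := card_isR h1 h3 h4
  rw [card_norm_one B hS hB] at hc
  rcases gdet_cases hB with h5 | h5
  · rw [h5, val7'] at hc
    left; omega
  · rw [h5, val7] at hc
    right; omega

theorem cp_card (h : H8 T) {a : K} (ha : a ∈ T) :
    (Cp T a).ncard = 1080 ∨ (Cp T a).ncard = 1107 := card_isR_eight (cp_isR h ha)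

theorem not_conn (h : H8 T) : ¬ Conn T := by
  intro hc
  obtain ⟨a, ha⟩ := h.fd.nonempty
  have h1 : Cp T a = T := Set.Subset.antisymm (cp_subset ha) fun b hb => hc a ha b hb
  have h2 := cp_card h ha
  rw [h1, h.reg.card] at h2
  omega

end Cfsg.Agent.H805.CompT
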