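import Mathlib
import Cfsg.Agent.Fischer919.OmegaIdent
import Cfsg.Agent.H805.CountR
import Cfsg.Agent.LieClassical.QuadForms

set_option autoImplicit false

/-!
# S5368: the hyperbolic form in dimension eight over the field with three elements
-/

namespace Cfsg.Agent.H805.PlusEight

open Cfsg
open Cfsg.Agent.Fischer919.OmegaR
open Cfsg.Agent.Fischer3.Orth3Basic (Form)
open Cfsg.Agent.LieClassical.OmegaReindex
open LinearMap (BilinForm)
open Cfsg.Agent.H805.CountR
open scoped Matrix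

local notation "F₃" => ZMod 3

/-- the symmetric bilinear form of the hyperbolic form -/
noncomputable def BP : BilinForm F₃ (Fin 4 ⊕ Fin 4 → F₃) :=
  (2 : F₃) • QuadraticMap.polarBilin (quadPlus 4 F₃)

theorem BP_apply (x y : Fin 4 ⊕ Fin 4 → F₃) :
    BP x y = 2 * QuadraticMap.polar (⇑(quadPlus 4 F₃)) x y := rfl

theorem BP_self (x : Fin 4 ⊕ Fin 4 → F₃) : BP x x = quadPlus 4 F₃ x := by
  rw [BP_apply, QuadraticMap.polar_self, two_smul]
  generalize quadPlus 4 F₃ x = a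
  revert a
  decide

theorem polar_plus (x y : Fin 4 ⊕ Fin 4 → F₃) :
    QuadraticMap.polar (⇑(quadPlus 4 F₃)) x y =
      ∑ i : Fin 4, (x (.inl i) * y (.inr i) + y (.inl i) * x (.inr i)) := by
  rw [coe_quadPlus, ← Cfsg.Agent.LieClassical.QuadForms.coe_plusForm,
    Cfsg.Agent.LieClassical.QuadForms.polar_plusForm]

theorem BP_symm : BP.IsSymm := ⟨fun x y => by
  rw [BP_apply, BP_apply, QuadraticMap.polar_comm]⟩

theorem BP_nondeg : BP.Nondegenerate := by
  have h : ∀ x, (∀ y, BP x y = 0) → x = 0 := by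
    intro x hx
    apply Cfsg.Agent.LieClassical.QuadForms.polar_plusForm_nondeg 4 x
    intro y
    have h1 := hx y
    rw [BP_apply, coe_quadPlus, ← Cfsg.Agent.LieClassical.QuadForms.coe_plusForm] at h1
    have h2 : ∀ a : F₃, 2 * a = 0 → a = 0 := by decide
    exact h2 _ h1
  exact ⟨h, fun x hx => h x fun y => by rw [← BP_symm.eq]; exact hx y⟩

/-- the isotropic half -/
def XP : Submodule F₃ (Fin 4 ⊕ Fin 4 → F₃) := LinearMap.ker (LinearMap.funLeft F₃ F₃ Sum.inr)

theorem finrank_XP : Module.finrank F₃ XP = 4 := by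
  have h1 := LinearMap.finrank_range_add_finrank_ker
    (LinearMap.funLeft F₃ F₃ (Sum.inr : Fin 4 → Fin 4 ⊕ Fin 4))
  have h2 : LinearMap.range (LinearMap.funLeft F₃ F₃ (Sum.inr : Fin 4 → Fin 4 ⊕ Fin 4)) = ⊤ :=
    LinearMap.range_eq_top.2 (LinearMap.funLeft_surjective_of_injective F₃ F₃ _ Sum.inr_injective)
  rw [h2, finrank_top, Module.finrank_fintype_fun_eq_card, Module.finrank_fintype_fun_eq_card,
    Fintype.card_sum, Fintype.card_fin] at h1
  show Module.finrank F₃ (LinearMap.ker (LinearMap.funLeft F₃ F₃ Sum.inr)) = 4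
  omega

theorem XP_isotropic : ∀ x ∈ XP, ∀ y ∈ XP, BP x y = 0 := by
  intro x hx y hy
  have h1 : ∀ i, x (.inr i) = 0 := fun i => congrFun (LinearMap.mem_ker.1 hx) i
  have h2 : ∀ i, y (.inr i) = 0 := fun i => congrFun (LinearMap.mem_ker.1 hy) i
  rw [BP_apply, polar_plus, Finset.sum_eq_zero, mul_zero]
  intro i _
  rw [h1, h2]
  ring

/-- both forms have an orthonormal basis -/
theorem exists_isometry (B : BilinForm F₃ (Fin 8 → F₃)) (hS : B.IsSymm) (hB : B.Nondegenerate)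
    (hd : gdet B = 1) :
    ∃ g : (Fin 4 ⊕ Fin 4 → F₃) ≃ₗ[F₃] (Fin 8 → F₃), ∀ x, QB B (g x) = quadPlus 4 F₃ x := by
  have h2 : (2 : F₃) ≠ 0 := by decide
  obtain ⟨v, hv⟩ := Cfsg.Agent.ClassicalGeometry.Discriminant.exists_basis_diag h2 B hS hB
    (Pi.basisFun F₃ (Fin 8)) (fun _ : Fin 8 => 1) (by simp) (fun _ => one_ne_zero) 1 (by
      rw [Finset.prod_const_one]
      show gdet B = _
      rw [hd]; ring)
  obtain ⟨s, hs⟩ := Cfsg.Agent.ClassicalGeometry.Discriminant.det_of_isotropic_half BP BP_symm 4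
    (by rw [Module.finrank_fintype_fun_eq_card]; rfl) (Pi.basisFun F₃ (Fin 4 ⊕ Fin 4)) XP
    finrank_XP XP_isotropic
  obtain ⟨w, hw⟩ := Cfsg.Agent.ClassicalGeometry.Discriminant.exists_basis_diag h2 BP BP_symm
    BP_nondeg (Pi.basisFun F₃ (Fin 4 ⊕ Fin 4)) (fun _ : Fin 8 => 1)
    (by rw [Module.finrank_fintype_fun_eq_card]; rfl) (fun _ => one_ne_zero) s (by
      rw [hs, Finset.prod_const_one]; ring)
  let g := w.equiv v (Equiv.refl _)
  have hg : ∀ x, B (g x) (g x) = BP x x := by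
    have h3 : (B.comp g.toLinearMap g.toLinearMap) = BP := by
      apply LinearMap.BilinForm.ext_basis w
      intro i j
      show B (g (w i)) (g (w j)) = BP (w i) (w j)
      rw [Module.Basis.equiv_apply, Module.Basis.equiv_apply, hw]
      exact hv i j
    intro x
    rw [← h3]
    rfl
  refine ⟨g, fun x => ?_⟩
  rw [QB_apply, hg, BP_self]

/-- **The projective group.** -/
theorem pomega_plus (B : BilinForm F₃ (Fin 8 → F₃)) (hS : B.IsSymm) (hB : B.Nondegenerate)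
    (hd : gdet B = 1) :
    Nonempty (POmega F₃ (⇑(QB B)) ≃* POmega F₃ (quadFormPlus 4 F₃)) := by
  obtain ⟨g, hg⟩ := exists_isometry B hS hB hd
  let e : Fin 4 ⊕ Fin 4 ≃ Fin 8 := Fintype.equivFinOfCardEq rfl
  let Q₁ : QuadraticForm F₃ (Fin 8 → F₃) := reindexForm e (quadPlus 4 F₃)
  let g' : (Fin 8 → F₃) ≃ₗ[F₃] (Fin 8 → F₃) := (LinearEquiv.funCongrLeft F₃ F₃ e).trans g
  have hg' : ∀ x, QB B (g' x) = Q₁ x := fun x => hg _
  let P : Matrix.GeneralLinearGroup (Fin 8) F₃ :=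
    (Cfsg.Agent.LieClassical.OrthCount.glEquiv (Fin 8) F₃).symm g'
  have hP : ∀ v, (P : Matrix (Fin 8) (Fin 8) F₃) *ᵥ v = g' v := by
    intro v
    rw [← Cfsg.Agent.LieClassical.OrthCount.glEquiv_apply]
    show (Cfsg.Agent.LieClassical.OrthCount.glEquiv (Fin 8) F₃)
      ((Cfsg.Agent.LieClassical.OrthCount.glEquiv (Fin 8) F₃).symm g') v = g' v
    rw [MulEquiv.apply_symm_apply]
  obtain ⟨e1⟩ := Cfsg.Agent.ClassicalGeometry.OddInvolutions.pomega_congr (⇑(QB B)) P
  have hfun : (fun v => QB B ((P : Matrix (Fin 8) (Fin 8) F₃) *ᵥ v)) = fun v => Q₁ v := by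
    funext v
    rw [hP, hg']
  rw [hfun] at e1
  obtain ⟨e3⟩ := Cfsg.Agent.ClassicalGeometry.OddInvolutions.commutator_quot_center_congr
    (isometryGroupReindex e (⇑(quadPlus 4 F₃)) (⇑Q₁) (fun v => rfl))
  rw [← coe_quadPlus]
  exact ⟨e1.symm.trans e3.symm⟩

end Cfsg.Agent.H805.PlusEight
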