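import Mathlib
import Cfsg.Agent.H805.CompT
import Cfsg.Agent.H805.PlusEight
import Cfsg.Agent.S5352
import Cfsg.Agent.S5353
import Cfsg.Agent.Fischer160.Inherit

set_option autoImplicit false

/-!
# S5368: the three components
-/

namespace Cfsg.Agent.H805.Tri

open Cfsg Cfsg.Agent.SporadicStructure.FischerSpace
open Cfsg.Agent.ThreeTransPolar.Basic
open Cfsg.Agent.TSp.Basic (TSet)
open Cfsg.Agent.Fischer480.Defs
open Cfsg.Agent.Fischer160.Inherit (prods mul_mem_prods prods_normal mem_prods_or)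
open Cfsg.Agent.H805.Sub Cfsg.Agent.H805.Comb Cfsg.Agent.H805.CompT

universe u

/-! ### The symmetric group of degree three -/

section SymThree

variable {Q : Type u} [Group Q] [Finite Q] {E : Set Q}

theorem sym_three (h : FData E) (h3 : E.ncard = 3) {a b : Q} (ha : a ∈ E) (hb : b ∈ E)
    (hab : ¬ Commute a b) : Nonempty (Q ≃* Equiv.Perm (Fin 3)) := by
  have hc : a * b * a ∈ E := h.conj' ha hb
  have sa := h.sq a ha
  have sb := h.sq b hb
  have hbr := h.braid a ha b hb hab
  have hab1 : a * b ≠ 1 := by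
    intro h1
    apply hab
    have h2 : a = b⁻¹ := eq_inv_of_mul_eq_one_left h1
    rw [h2]
    exact (Commute.refl b).inv_left
  have hab3 : (a * b) ^ 3 = 1 := by
    calc (a * b) ^ 3 = (a * b * a) * (b * a * b) := by rw [pow_succ, pow_two]; group
      _ = (a * b * a) * (a * b * a) := by rw [hbr]
      _ = a * b * (a * a) * b * a := by group
      _ = 1 := by rw [sa, mul_one, mul_assoc a b b, sb, mul_one, sa]
  have n1 : a ≠ b := fun h1 => hab (by rw [h1])
  have n2 : a ≠ a * b * a := by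
    intro h2
    apply hab1
    have h3 : 1 * a = (a * b) * a := by rw [one_mul]; exact h2
    exact (mul_right_cancel h3).symm
  have n3 : b ≠ a * b * a := fun h3 => hab ((h.commute_iff ha b).2 h3.symm)
  have hE : E = {a, b, a * b * a} := by
    have h4 : ({a, b, a * b * a} : Set Q).ncard = 3 :=
      Set.ncard_eq_three.2 ⟨a, b, a * b * a, n1, n2, n3, rfl⟩
    refine (Set.eq_of_subset_of_ncard_le ?_ (by rw [h3, h4]) (Set.toFinite E)).symm
    rintro x (rfl | rfl | rfl)
    · exact ha
    · exact hb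
    · exact hc
  -- the products
  set c := a * b with hcdef
  have hcinv : c⁻¹ = b * a := by
    rw [hcdef, mul_inv_rev, h.inv_eq ha, h.inv_eq hb]
  have hpr : prods E ≤ Subgroup.zpowers c := by
    rw [prods, Subgroup.closure_le]
    have m1 : (1 : Q) ∈ Subgroup.zpowers c := one_mem _
    have m2 : c ∈ Subgroup.zpowers c := Subgroup.mem_zpowers c
    have m3 : b * a ∈ Subgroup.zpowers c := by rw [← hcinv]; exact inv_mem m2
    have e1 : a * (c * a) = b * a := by
      rw [hcdef]
      calc a * (a * b * a) = (a * a) * b * a := by group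
        _ = b * a := by rw [sa, one_mul]
    have e2 : b * (c * a) = c := by
      rw [hcdef, hbr]
      calc b * (b * a * b) = (b * b) * (a * b) := by group
        _ = a * b := by rw [sb, one_mul]
    have e3 : (c * a) * a = c := by rw [mul_assoc, sa, mul_one]
    have e4 : (c * a) * b = b * a := by
      rw [hcdef, hbr]
      calc b * a * b * b = b * a * (b * b) := by group
        _ = b * a := by rw [sb, mul_one]
    have e5 : (c * a) * (c * a) = 1 := by
      have := h.sq _ hc
      exact this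
    rintro _ ⟨x, hx, y, hy, rfl⟩
    rw [hE] at hx hy
    rcases hx with h5 | h5 | h5 <;> rcases hy with h6 | h6 | h6 <;>
      rw [SetLike.mem_coe, h5, h6]
    · rw [sa]; exact m1
    · exact m2
    · rw [e1]; exact m3
    · exact m3
    · rw [sb]; exact m1
    · rw [e2]; exact m2
    · rw [e3]; exact m2
    · rw [e4]; exact m3
    · rw [e5]; exact m1
  have hco : orderOf c = 3 := orderOf_eq_prime hab3 hab1
  -- at most six elements
  have hle : Nat.card Q ≤ 6 := by
    have h5 : (Set.univ : Set Q) ⊆ (Subgroup.zpowers c : Set Q) ∪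
        (fun x => x * a) '' (Subgroup.zpowers c : Set Q) := by
      intro m _
      rcases mem_prods_or h.conj h.sq h.gen ha m with h6 | h6
      · exact Or.inl (hpr h6)
      · right
        refine ⟨m * a, hpr h6, ?_⟩
        show m * a * a = m
        rw [mul_assoc, sa, mul_one]
    have h6 : (Subgroup.zpowers c : Set Q).ncard = 3 := by
      rw [← Nat.card_coe_set_eq]
      show Nat.card (Subgroup.zpowers c) = 3
      rw [Nat.card_zpowers, hco]
    calc Nat.card Q = (Set.univ : Set Q).ncard := (Set.ncard_univ Q).symm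
      _ ≤ _ := Set.ncard_le_ncard h5 (Set.toFinite _)
      _ ≤ _ := Set.ncard_union_le _ _
      _ ≤ 3 + 3 := Nat.add_le_add h6.le ((Set.ncard_image_le (Set.toFinite _)).trans h6.le)
  let π : Q →* Equiv.Perm ↥E := Cfsg.Agent.Fischer920.RackIso.conjPerm h.conj
  have hcardE : Nat.card ↥E = 3 := by rw [Nat.card_coe_set_eq]; exact h3
  have hP : Nat.card (Equiv.Perm ↥E) = 6 := by
    haveI : Fintype ↥E := Fintype.ofFinite _
    rw [Nat.card_perm, hcardE]; rfl
  have hsur : Function.Surjective π := by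
    rw [← MonoidHom.range_eq_top]
    apply Subgroup.eq_top_of_card_eq
    have hpa : π a ≠ 1 := by
      intro h7
      have h8 := congrArg (fun σ : Equiv.Perm ↥E => ((σ ⟨b, hb⟩ : ↥E) : Q)) h7
      have h9 : a * b * a⁻¹ = b := h8
      rw [mul_inv_eq_iff_eq_mul] at h9
      exact hab h9
    have hpc : π c ≠ 1 := by
      intro h7
      have h8 := congrArg (fun σ : Equiv.Perm ↥E => ((σ ⟨a, ha⟩ : ↥E) : Q)) h7
      have h9 : c * a * c⁻¹ = a := h8
      rw [mul_inv_eq_iff_eq_mul, hcdef] at h9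
      apply hab
      have h10 : a * (b * a) = a * (a * b) := by rw [← mul_assoc]; exact h9
      exact (mul_left_cancel h10).symm
    have d2 : 2 ∣ Nat.card π.range := by
      have : orderOf (⟨π a, a, rfl⟩ : π.range) = 2 := by
        apply orderOf_eq_prime
        · apply Subtype.ext
          show (π a) ^ 2 = 1
          rw [← map_pow, pow_two, sa, map_one]
        · intro h7
          exact hpa (congrArg Subtype.val h7)
      rw [← this]
      exact orderOf_dvd_natCard _
    have d3 : 3 ∣ Nat.card π.range := by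
      have : orderOf (⟨π c, c, rfl⟩ : π.range) = 3 := by
        apply orderOf_eq_prime
        · apply Subtype.ext
          show (π c) ^ 3 = 1
          rw [← map_pow, hab3, map_one]
        · intro h7
          exact hpc (congrArg Subtype.val h7)
      rw [← this]
      exact orderOf_dvd_natCard _
    have d6 : 6 ∣ Nat.card π.range :=
      (show Nat.Coprime 2 3 by decide).mul_dvd_of_dvd_of_dvd d2 d3
    have hle' : Nat.card π.range ≤ Nat.card (Equiv.Perm ↥E) := Subgroup.card_le_card_group _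
    have := Nat.le_of_dvd Nat.card_pos d6
    omega
  have hbij : Function.Bijective π :=
    (Nat.bijective_iff_surjective_and_card π).2 ⟨hsur, by
      have := Nat.card_le_card_of_surjective π hsur
      omega⟩
  let f : ↥E ≃ Fin 3 := Finite.equivFinOfCardEq hcardE
  exact ⟨(MulEquiv.ofBijective π hbij).trans f.permCongrHom⟩

end SymThree

/-! ### The three components -/

section Three

variable {K : Type u} [Group K] {T : Set K} [Finite K]

theorem quasi_simple {N : Subgroup K} (hq : Cfsg.IsQuasisimple N) (hc : Subgroup.center N = ⊥) :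
    IsSimpleGroup N ∧ (∃ x y : N, x * y ≠ y * x) ∧ commutator N = ⊤ := by
  obtain ⟨hp, hs⟩ := hq
  have e : (N ⧸ Subgroup.center N) ≃* N :=
    (QuotientGroup.quotientMulEquivOfEq hc).trans QuotientGroup.quotientBot
  have hs' : IsSimpleGroup N := e.symm.isSimpleGroup
  have hcomm : commutator N = ⊤ := hp.commutator_eq_top
  refine ⟨hs', ?_, hcomm⟩
  by_contra hcon
  push Not at hcon
  have h1 : commutator N = ⊥ := by
    rw [commutator_def, eq_bot_iff, Subgroup.commutator_le]
    intro x _ y _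
    rw [Subgroup.mem_bot, commutatorElement_eq_one_iff_mul_comm]
    exact hcon x y
  rw [h1] at hcomm
  exact (bot_ne_top hcomm)

/-- the data of the three components -/
structure TD (T : Set K) (N : Subgroup K) (a₁ a₂ : K) : Prop where
  nor : N.Normal
  simple : IsSimpleGroup N
  nab : ∃ x y : N, x * y ≠ y * x
  cen : Subgroup.center N = ⊥
  m₁ : a₁ ∈ T
  m₂ : a₂ ∈ T
  nc : ¬ Commute (a₁ : K ⧸ N) (a₂ : K ⧸ N)
  fib : ∀ a ∈ T, ∀ b ∈ Cp T a, (a : K ⧸ N) = b
  all : ∀ b ∈ T, b ∈ Cp T a₁ ∨ b ∈ Cp T a₂ ∨ b ∈ Cp T (a₁ * a₂ * a₁)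
  num : (Cp T a₁).ncard = 1080

theorem exists_td (h : H8 T) : ∃ N a₁ a₂, TD T N a₁ a₂ := by
  have hcls := class_of_fdata h.fd
  have h2 : ∃ a ∈ T, ∃ b ∈ T, a ≠ b ∧ Commute a b := by
    obtain ⟨a, ha⟩ := h.fd.nonempty
    obtain ⟨u, hu, v, hv, h1⟩ := cp_pair h ha
    exact ⟨u, cp_subset ha hu, v, cp_subset ha hv, h1⟩
  have h2' : ∃ a ∈ T, ∃ b ∈ T, a ≠ b := by
    obtain ⟨a, ha, b, hb, hab, -⟩ := h2
    exact ⟨a, ha, b, hb, hab⟩
  have k2 := pCore_two_le h.fd h2' h.red
  have k3 := pCore_three_le h.fd h2' h.wred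
  obtain ⟨N, hN, hq, hFst, hor⟩ := Cfsg.Agent.S5352.result hcls h2' k2 k3
  haveI := hN
  have hcen : Subgroup.center N = ⊥ := by
    have h3 : (Subgroup.center N).map N.subtype ≤ Subgroup.center K := by
      apply Base.solvable_le_center hcls k2 k3
      · exact inferInstance
      · have : Group.IsSolvable (Subgroup.center N) :=
          Group.isSolvable_of_comm fun a b => Subtype.ext ((Subgroup.mem_center_iff.1 b.2) a)
        exact Group.isSolvable_of_surjective
          (f := (Subgroup.equivMapOfInjective (Subgroup.center N) N.subtype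
            N.subtype_injective).toMonoidHom) (MulEquiv.surjective _)
    rw [h.cen, le_bot_iff] at h3
    exact (Subgroup.map_eq_bot_iff_of_injective _ N.subtype_injective).1 h3
  obtain ⟨hs, hna, -⟩ := quasi_simple hq hcen
  have hind : ¬ N.index ≤ 2 := by
    intro hle
    have hprim := (Cfsg.Agent.S5353.result hcls h2' k2 k3 N hq hFst).1 hle
    have hconn := ((Cfsg.Agent.S5361.result hcls h.cen h2).2.1 hprim).2.2
    apply not_conn h
    intro a ha b hb
    have hr := hconn.preconnected ⟨a, ha⟩ ⟨b, hb⟩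
    obtain ⟨p⟩ := hr
    have key : ∀ (u v : T) (p : (Cfsg.commutingGraph T).Walk u v),
        Relation.ReflTransGen (Adj T) (u : K) v := by
      intro u v p
      induction p with
      | nil => exact Relation.ReflTransGen.refl
      | cons h1 _ ih =>
        rename_i u v w _
        refine Relation.ReflTransGen.head ⟨v.2, ?_⟩ ih
        rw [Cfsg.commutingGraph, SimpleGraph.fromRel_adj] at h1
        rcases h1.2 with h3 | h3
        · exact h3
        · exact h3.symm
    exact key _ _ p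
  have hntop : N ≠ ⊤ := by
    rintro rfl
    apply hind
    rw [Subgroup.index_top]
    norm_num
  have hcom := hor.resolve_left hntop
  have hcomq : ∀ a ∈ T, ∀ b ∈ T, Commute (a : K ⧸ N) (b : K ⧸ N) → (a : K ⧸ N) = b := by
    intro a ha b hb hab
    rw [QuotientGroup.eq]
    apply hcom a ha b hb
    rw [← QuotientGroup.eq_one_iff, QuotientGroup.mk_mul, QuotientGroup.mk_mul,
      QuotientGroup.mk_mul, QuotientGroup.mk_inv, QuotientGroup.mk_inv, hab.eq]
    group
  have hfib : ∀ a ∈ T, ∀ b ∈ Cp T a, (a : K ⧸ N) = b := by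
    intro a ha b hb
    have key : ∀ b, Relation.ReflTransGen (Adj T) a b → b ∈ T ∧ (a : K ⧸ N) = b := by
      intro b hb
      induction hb with
      | refl => exact ⟨ha, rfl⟩
      | tail _ hbc ih =>
        refine ⟨hbc.1, ih.2.trans (hcomq _ ih.1 _ hbc.1 ?_)⟩
        show (_ : K ⧸ N) * _ = _ * _
        rw [← QuotientGroup.mk_mul, hbc.2.eq]
        rfl
    exact (key b hb).2
  obtain ⟨a₁, ha₁⟩ := h.fd.nonempty
  -- a second image
  have hex : ∃ a₂ ∈ T, (a₁ : K ⧸ N) ≠ a₂ := by
    by_contra hcon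
    push Not at hcon
    apply hind
    have h5 : ∀ q : K ⧸ N, q ∈ Subgroup.zpowers (a₁ : K ⧸ N) := by
      intro q
      obtain ⟨g, rfl⟩ := QuotientGroup.mk_surjective q
      have hg : g ∈ Subgroup.closure T := by rw [h.fd.gen]; trivial
      induction hg using Subgroup.closure_induction with
      | mem x hx => rw [← hcon x hx]; exact Subgroup.mem_zpowers _
      | one => exact one_mem _
      | mul x y _ _ hx hy => exact mul_mem hx hy
      | inv x _ hx => exact inv_mem hx
    have h6 : Subgroup.zpowers (a₁ : K ⧸ N) = ⊤ := by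
      rw [Subgroup.eq_top_iff']
      exact h5
    have h7 : Nat.card (K ⧸ N) = orderOf (a₁ : K ⧸ N) := by
      rw [← Nat.card_zpowers, h6]
      exact (Nat.card_congr Subgroup.topEquiv.toEquiv).symm
    show Nat.card (K ⧸ N) ≤ 2
    rw [h7]
    apply Nat.le_of_dvd (by norm_num)
    apply orderOf_dvd_of_pow_eq_one
    rw [pow_two, ← QuotientGroup.mk_mul, h.fd.sq a₁ ha₁]
    rfl
  obtain ⟨a₂, ha₂, hne⟩ := hex
  have hnc : ¬ Commute (a₁ : K ⧸ N) (a₂ : K ⧸ N) := fun h5 => hne (hcomq a₁ ha₁ a₂ ha₂ h5)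
  have ha₃ : a₁ * a₂ * a₁ ∈ T := h.fd.conj' ha₁ ha₂
  have q3 : ((a₁ * a₂ * a₁ : K) : K ⧸ N) = (a₁ : K ⧸ N) * a₂ * a₁ := rfl
  have s1 : (a₁ : K ⧸ N) * a₁ = 1 := by
    rw [← QuotientGroup.mk_mul, h.fd.sq a₁ ha₁]; rfl
  have n13 : (a₁ : K ⧸ N) ≠ ((a₁ * a₂ * a₁ : K) : K ⧸ N) := by
    rw [q3]
    intro h5
    apply hne
    have h6 : (a₁ : K ⧸ N) * 1 = a₁ * (a₂ * a₁) := by rw [mul_one, ← mul_assoc]; exact h5
    have h7 := mul_left_cancel h6
    have h8 : (a₁ : K ⧸ N) * a₁ = a₂ * a₁ := by rw [s1]; exact h7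
    exact mul_right_cancel h8
  have n23 : (a₂ : K ⧸ N) ≠ ((a₁ * a₂ * a₁ : K) : K ⧸ N) := by
    rw [q3]
    intro h5
    apply hnc
    show (a₁ : K ⧸ N) * a₂ = a₂ * a₁
    nth_rewrite 2 [h5]
    rw [mul_assoc, mul_assoc, s1, mul_one]
  -- the counting
  have d12 : Disjoint (Cp T a₁) (Cp T a₂) := by
    rw [Set.disjoint_left]
    intro x h5 h6
    exact hne ((hfib a₁ ha₁ x h5).trans (hfib a₂ ha₂ x h6).symm)
  have d13 : Disjoint (Cp T a₁) (Cp T (a₁ * a₂ * a₁)) := by
    rw [Set.disjoint_left]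
    intro x h5 h6
    exact n13 ((hfib a₁ ha₁ x h5).trans (hfib _ ha₃ x h6).symm)
  have d23 : Disjoint (Cp T a₂) (Cp T (a₁ * a₂ * a₁)) := by
    rw [Set.disjoint_left]
    intro x h5 h6
    exact n23 ((hfib a₂ ha₂ x h5).trans (hfib _ ha₃ x h6).symm)
  have c1 := cp_card h ha₁
  have c2 := cp_card h ha₂
  have c3 := cp_card h ha₃
  have hsub : Cp T a₁ ∪ Cp T a₂ ∪ Cp T (a₁ * a₂ * a₁) ⊆ T :=
    Set.union_subset (Set.union_subset (cp_subset ha₁) (cp_subset ha₂)) (cp_subset ha₃)
  have hU : (Cp T a₁ ∪ Cp T a₂ ∪ Cp T (a₁ * a₂ * a₁)).ncard =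
      (Cp T a₁).ncard + (Cp T a₂).ncard + (Cp T (a₁ * a₂ * a₁)).ncard := by
    rw [Set.ncard_union_eq (Set.disjoint_union_left.2 ⟨d13, d23⟩) (Set.toFinite _)
      (Set.toFinite _), Set.ncard_union_eq d12 (Set.toFinite _) (Set.toFinite _)]
  have hle := Set.ncard_le_ncard hsub (Set.toFinite T)
  rw [hU, h.reg.card] at hle
  have hTeq : Cp T a₁ ∪ Cp T a₂ ∪ Cp T (a₁ * a₂ * a₁) = T :=
    Set.eq_of_subset_of_ncard_le hsub (by rw [hU, h.reg.card]; omega) (Set.toFinite T)
  refine ⟨N, a₁, a₂, ⟨hN, hs, hna, hcen, ha₁, ha₂, hnc, hfib, ?_, by omega⟩⟩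
  intro b hb
  rw [← hTeq] at hb
  rcases hb with (hb | hb) | hb
  · exact Or.inl hb
  · exact Or.inr (Or.inl hb)
  · exact Or.inr (Or.inr hb)

end Three

end Cfsg.Agent.H805.Tri
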