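import Mathlib
import Cfsg.Agent.H805.TriN

set_option autoImplicit false

/-!
# S5368: the type `T8` is the type M(24)
-/

namespace Cfsg.Agent.H805.MTwentyFour

open Cfsg Cfsg.Agent.SporadicStructure.FischerSpace
open Cfsg.Agent.ThreeTransPolar.Basic Cfsg.Agent.ThreeTransPolar.Lines
open Cfsg.Agent.TSp.Basic (TSet)
open Cfsg.Agent.TSp.Perp
open Cfsg.Agent.Fischer480.Defs hiding FGroup
open Cfsg.Agent.Fischer160.Inherit
open Cfsg.Agent.H805.Sub Cfsg.Agent.H805.Comb Cfsg.Agent.H805.ComT Cfsg.Agent.H805.CountR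
open Cfsg.Agent.H805.CompT Cfsg.Agent.H805.MTypes

universe u v

variable {G : Type u} [Group G]

/-- transport of the numbers -/
theorem reg_transport {H : Type v} [Group H] {S : Set G} {E : Set H} (hiso : CIso S E)
    {a b c : ℕ} (h : Reg S a b c) : Reg E a b c := by
  have h0 := Cfsg.Agent.Fischer480.Transport.ncard_eq hiso
  obtain ⟨ψ, hψ, hc⟩ := Cfsg.Agent.Fischer480.Transport.CIso.symm hiso
  refine ⟨h0.symm.trans h.card, ?_, ?_⟩
  · intro z hz
    rw [Cfsg.Agent.Fischer480.Transport.ncard_eq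
      (Cfsg.Agent.Fischer480.Transport.loc_cIso hψ hc hz)]
    exact h.deg _ (hψ.mapsTo hz)
  · intro z hz x hx
    obtain ⟨φ, hφ, hc'⟩ := Cfsg.Agent.Fischer480.Transport.loc_cIso hψ hc hz
    rw [Cfsg.Agent.Fischer480.Transport.ncard_eq
      (Cfsg.Agent.Fischer480.Transport.loc_cIso hφ hc' hx)]
    exact h.lam _ (hψ.mapsTo hz) _ (hφ.mapsTo hx)

/-- the nonadjacency condition -/
def NCon (S : Set G) : Prop :=
  ∀ a ∈ S, ∀ b ∈ S, Commute a b → ∃ c ∈ S, ¬ Commute c a ∧ ¬ Commute c b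

theorem ncon_transport {H : Type v} [Group H] {S : Set G} {E : Set H} (hiso : CIso S E)
    (h : NCon S) : NCon E := by
  obtain ⟨ψ, hψ, hc⟩ := Cfsg.Agent.Fischer480.Transport.CIso.symm hiso
  intro a ha b hb hab
  obtain ⟨c, hcS, h1, h2⟩ := h _ (hψ.mapsTo ha) _ (hψ.mapsTo hb) ((hc a ha b hb).1 hab)
  obtain ⟨d, hd, rfl⟩ := hψ.surjOn hcS
  exact ⟨d, hd, fun h3 => h1 ((hc d hd a ha).1 h3), fun h3 => h2 ((hc d hd b hb).1 h3)⟩

theorem loc_ncon_transport {H : Type v} [Group H] {S : Set G} {E : Set H} (hiso : CIso S E)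
    (h : ∀ z ∈ S, NCon (Loc S z)) : ∀ z ∈ E, NCon (Loc E z) := by
  obtain ⟨ψ, hψ, hc⟩ := Cfsg.Agent.Fischer480.Transport.CIso.symm hiso
  intro z hz
  exact ncon_transport (Cfsg.Agent.Fischer480.Transport.CIso.symm
    (Cfsg.Agent.Fischer480.Transport.loc_cIso hψ hc hz)) (h _ (hψ.mapsTo hz))

theorem perpSub_seven [Finite G] {E : Set G} (h : IsT7 E) :
    Cfsg.Agent.TSp.Orders.PerpSub E := by
  apply Cfsg.Agent.TSp.Orders.perpSub_of_loc
  intro y hy z hz
  have h6 := h.2.1 y hy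
  by_contra hcon
  push Not at hcon
  have h1 : Loc E y ⊆ insert z (Loc (Loc E y) z) := by
    intro w hw
    by_cases hwz : w = z
    · exact Or.inl hwz
    · exact Or.inr ⟨hw, hwz, (hcon w hw).symm⟩
  have h2 := Set.ncard_le_ncard h1 (Set.toFinite _)
  have h3 := Set.ncard_insert_le z (Loc (Loc E y) z)
  have h4 := (Cfsg.Agent.TSp.UCount.numbers_six (h6.2.1 z hz)).1
  have h5 := h6.1
  omega

theorem thin_eight [Finite G] {D : Set G} (h : IsT8 D) : ThinLines D :=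
  Cfsg.Agent.TSp.Orders.thinLines_of_loc fun y hy => perpSub_seven (h.2.1 y hy)

/-- the hypotheses of the three components -/
theorem h8_of_isT8 [Finite G] {E : Set G} (hE : TSet E) (h : IsT8 E) {x y : G} (hx : x ∈ E)
    (hy : y ∈ E) (hxy : ¬ Commute x y) : H8 (ES (Com E x y)) := by
  have hg := good_eight hE h hx hy hxy
  have hiso := cIso_ES hg
  refine ⟨fdata_ES hg, center_KS hg, red_of_cIso hg.red hiso,
    wRed_of_cIso (wRed_eight hE h hx hy hxy) hiso, reg_transport hiso (reg_eight hE h hx hy hxy),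
    loc_isR hiso (loc_isR_seven hE h hx hy hxy), ?_⟩
  apply loc_ncon_transport hiso
  intro z hz
  rw [loc_com]
  exact (good_seven (loc_tset hE z) (h.2.1 z hz.1) (mem_loc_left hx hxy hz)
    (mem_loc_right hy hxy hz) hxy).ncon

theorem tri_transfer {S T : Set G} (h : S = T)
    (hT : ∃ (N : Subgroup (KS T)) (_ : N.Normal),
      Nonempty (N ≃* POmega (ZMod 3) (quadFormPlus 4 (ZMod 3))) ∧
        Nonempty (KS T ⧸ N ≃* Equiv.Perm (Fin 3))) :
    ∃ (N : Subgroup (↥(Subgroup.closure S) ⧸ Subgroup.center ↥(Subgroup.closure S)))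
      (_ : N.Normal),
      Nonempty (N ≃* POmega (ZMod 3) (quadFormPlus 4 (ZMod 3))) ∧
        Nonempty ((↥(Subgroup.closure S) ⧸ Subgroup.center ↥(Subgroup.closure S)) ⧸ N ≃*
          Equiv.Perm (Fin 3)) := by
  subst h
  exact hT

/-- **Type `T8` is type M(24).** -/
theorem m24_of_isT8 [Finite G] {D : Set G} (F : FGroup D) (h : IsT8 D) : IsOfTypeM24 G D := by
  have R := rk_of_FGroup F
  obtain ⟨d, hd⟩ := F.fd.nonempty
  obtain ⟨c, hc, hdc⟩ := R.exCol d hd
  have ht := thin_eight h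
  refine ⟨center_of_sol F, d, hd, c, hc, hdc, ?_, ?_⟩
  · have hI := inherit F ht hd (Cfsg.Agent.TSp.Orders.odd_central F (by rw [h.1]; norm_num) hd)
    have hiso := Cfsg.Agent.TSp.Orders.cIso_Eb F.fd ht hd
    exact m23_of_isT7 hI (Cfsg.Agent.Fischer480.Transport.isT7
      (Cfsg.Agent.Fischer480.Transport.CIso.symm hiso) (h.2.1 d hd))
  · have hT := Cfsg.Agent.TSp.Basic.tset_of_fdata F.fd
    exact tri_transfer (inter_eq hdc) (TriN.main (h8_of_isT8 hT h hd hc hdc))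

end Cfsg.Agent.H805.MTwentyFour
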