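import Mathlib
import Cfsg.Prelude.Def_FischerSpaces
import Cfsg.Prelude.Def_Local
import Cfsg.Agent.SporadicB.ThreeTrans
import Cfsg.Agent.Lib.Cores
import Cfsg.Agent.Lib.HallTriple
import Cfsg.Agent.SignalizersComponents.Components
import Cfsg.Agent.SignalizersComponents.ComponentExists
import Cfsg.Agent.ThreeTrans375.Basic
import Cfsg.Agent.ThreeTrans375.Blocks

/-!
Basic facts on classes of 3-transpositions and normal subgroups (cores, layer).
-/

set_option autoImplicit false

namespace Cfsg.Agent.H805.Base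

open Cfsg Cfsg.Agent.SporadicB.ThreeTrans Cfsg.Agent.ThreeTrans375.Basic

variable {G : Type*} [Group G] {D : Set G}

/-- an element commuting with all members of `D` is central -/
theorem mem_center_of_commute (hgen : Subgroup.closure D = ⊤) {x : G}
    (h : ∀ d ∈ D, Commute x d) : x ∈ Subgroup.center G := by
  have h1 : D ⊆ (Subgroup.centralizer ({x} : Set G) : Set G) := by
    intro d hd
    rw [SetLike.mem_coe, Subgroup.mem_centralizer_iff]
    rintro _ rfl
    exact h d hd
  rw [← Subgroup.closure_le, hgen] at h1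
  rw [Subgroup.mem_center_iff]
  intro g
  exact ((Subgroup.mem_centralizer_iff.1 (h1 (Subgroup.mem_top g))) x rfl).symm

/-- a subgroup centralised by all members of `D` is central -/
theorem le_center_of_commute (hgen : Subgroup.closure D = ⊤) {N : Subgroup G}
    (h : ∀ d ∈ D, ∀ x ∈ N, Commute x d) : N ≤ Subgroup.center G :=
  fun x hx => mem_center_of_commute hgen (fun d hd => h d hd x hx)

/-- in a class with at least two members every member has a noncommuting partner -/
theorem exists_noncomm (hD : IsThreeTranspositionClass D) (hD2 : ∃ a ∈ D, ∃ b ∈ D, a ≠ b) {a : G}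
    (ha : a ∈ D) : ∃ c ∈ D, ¬ Commute a c := by
  by_contra h
  push Not at h
  have hc := mem_center_of_commute hD.2.2 h
  obtain ⟨x, hx, y, hy, hxy⟩ := hD2
  apply hxy
  obtain ⟨g, hg⟩ := exists_conj_of_class hD ha hx
  obtain ⟨g', hg'⟩ := exists_conj_of_class hD ha hy
  rw [Subgroup.mem_center_iff] at hc
  rw [← hg, ← hg', hc g, hc g']
  group

/-- two members which agree modulo the centre are equal -/
theorem eq_of_mul_mem_center (hD : IsThreeTranspositionClass D) (hD2 : ∃ a ∈ D, ∃ b ∈ D, a ≠ b)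
    {a b : G} (ha : a ∈ D) (hb : b ∈ D) (h : a * b ∈ Subgroup.center G) : a = b := by
  have hE := hD.1
  obtain ⟨c, hc, hac⟩ := exists_noncomm hD hD2 ha
  set z : G := a * b with hz
  have hbz : b = a * z := by rw [hz, ← mul_assoc, mul_self hE ha, one_mul]
  have hcz : ∀ g : G, Commute z g := fun g => ((Subgroup.mem_center_iff.1 h) g).symm
  have hbc : ¬ Commute b c := by
    intro h1
    apply hac
    have : a = b * z⁻¹ := by rw [hbz]; group
    rw [this]
    exact h1.mul_left (hcz c).inv_left
  have h1 := braid hE ha hc hac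
  have h2 := braid hE hb hc hbc
  have h3 : b * c * b = z * z * (a * c * a) := by
    rw [hbz]
    calc a * z * c * (a * z) = (z * a) * c * (z * a) := by rw [(hcz a).eq]
      _ = z * (a * c * z) * a := by simp only [mul_assoc]
      _ = z * (z * (a * c)) * a := by rw [(hcz (a * c)).eq]
      _ = z * z * (a * c * a) := by simp only [mul_assoc]
  have h4 : c * b * c = z * (c * a * c) := by
    rw [hbz]
    calc c * (a * z) * c = c * (z * a) * c := by rw [(hcz a).eq]
      _ = (c * z) * a * c := by simp only [mul_assoc]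
      _ = (z * c) * a * c := by rw [(hcz c).eq]
      _ = z * (c * a * c) := by simp only [mul_assoc]
  rw [h3, h4, h1, mul_assoc] at h2
  have h5 := mul_left_cancel h2
  have h6 : z = 1 := by
    have : z * (c * a * c) = 1 * (c * a * c) := by rw [h5, one_mul]
    exact mul_right_cancel this
  rw [hbz, h6, mul_one]

theorem eq_one_of_pow {p : ℕ} {N : Subgroup G} (hN : IsPGroup p N) {x : G}
    (hx : x ∈ N) {k : ℕ} (hk : Nat.Coprime k p) (h : x ^ k = 1) : x = 1 := by
  obtain ⟨n, hn⟩ := hN ⟨x, hx⟩
  have h1 : x ^ p ^ n = 1 := congrArg Subtype.val hn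
  have h2 : orderOf x ∣ k := orderOf_dvd_of_pow_eq_one h
  have h3 : orderOf x ∣ p ^ n := orderOf_dvd_of_pow_eq_one h1
  have h4 : orderOf x ∣ 1 := by
    have : Nat.Coprime k (p ^ n) := Nat.Coprime.pow_right n hk
    rw [Nat.Coprime] at this
    rw [← this]
    exact Nat.dvd_gcd h2 h3
  exact orderOf_eq_one_iff.1 (Nat.dvd_one.1 h4)

/-- `d` times its conjugate by `x ∈ N` lies in `N` -/
theorem mul_conj_mem (hE : IsThreeTranspositionSet D) {N : Subgroup G} (hN : N.Normal) {d x : G}
    (hd : d ∈ D) (hx : x ∈ N) : d * (x * d * x⁻¹) ∈ N := by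
  have h1 := hN.conj_mem x hx d
  rw [inv_eq hE hd] at h1
  have : d * (x * d * x⁻¹) = (d * x * d) * x⁻¹ := by simp only [mul_assoc]
  rw [this]
  exact N.mul_mem h1 (N.inv_mem hx)

theorem eq_of_mul_eq_one (hE : IsThreeTranspositionSet D) {d f : G} (hd : d ∈ D)
    (h : d * f = 1) : f = d := by
  calc f = (d * d) * f := by rw [mul_self hE hd, one_mul]
    _ = d * (d * f) := mul_assoc _ _ _
    _ = d := by rw [h, mul_one]

/-- A 3-transposition centralises the normal `p`-subgroups for `p > 3`. -/
theorem commute_of_normal (hE : IsThreeTranspositionSet D) (hN : ConjClosed D) {p : ℕ}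
    [hp : Fact p.Prime] (h3 : 3 < p) {N : Subgroup G} (hNn : N.Normal) (hNp : IsPGroup p N)
    {d x : G} (hd : d ∈ D) (hx : x ∈ N) : Commute x d := by
  have h1 := mul_conj_mem hE hNn hd hx
  have h4 : d * (x * d * x⁻¹) = 1 := by
    rcases hE.2 d hd _ (hN x d hd) with h | h
    · refine eq_one_of_pow hNp h1 ?_ h
      rw [Nat.coprime_primes Nat.prime_two hp.out]
      omega
    · refine eq_one_of_pow hNp h1 ?_ h
      rw [Nat.coprime_primes Nat.prime_three hp.out]
      omega
  exact conj_eq_self_iff.1 (eq_of_mul_eq_one hE hd h4)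

/-- Members whose product lies in a 2-subgroup commute. -/
theorem commute_of_two (hE : IsThreeTranspositionSet D) {N : Subgroup G} (hNp : IsPGroup 2 N)
    {d f : G} (hd : d ∈ D) (hf : f ∈ D) (h : d * f ∈ N) : Commute d f := by
  have : Fact (Nat.Prime 2) := ⟨Nat.prime_two⟩
  rcases commute_or_braid hE hd hf with h1 | h1
  · exact h1
  · rcases hE.2 d hd f hf with h2 | h2
    · have h3 : d * f * (d * f) = 1 := by rw [← pow_two]; exact h2
      have h4 : d * f = (d * f)⁻¹ := eq_inv_of_mul_eq_one_left h3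
      show d * f = f * d
      rw [h4, mul_inv_rev, inv_eq hE hd, inv_eq hE hf]
    · have h3 := eq_one_of_pow hNp h (by norm_num) h2
      rw [eq_of_mul_eq_one hE hd h3]

/-- Members which commute and whose product lies in a 3-subgroup are equal. -/
theorem eq_of_three (hE : IsThreeTranspositionSet D) {N : Subgroup G} (hNp : IsPGroup 3 N)
    {d f : G} (hd : d ∈ D) (hf : f ∈ D) (h : d * f ∈ N) (hc : Commute d f) : f = d := by
  have : Fact (Nat.Prime 3) := ⟨Nat.prime_three⟩
  have h1 : (d * f) ^ 2 = 1 := by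
    rw [pow_two, hc.eq]
    calc f * d * (f * d) = f * d * (d * f) := by rw [hc.eq]
      _ = f * (d * d) * f := by simp only [mul_assoc]
      _ = 1 := by rw [mul_self hE hd, mul_one, mul_self hE hf]
  have h2 := eq_one_of_pow hNp h (by norm_num) h1
  exact eq_of_mul_eq_one hE hd h2

theorem mul_pow_two_mem (hE : IsThreeTranspositionSet D) {N : Subgroup G} (hNn : N.Normal)
    {d f e : G} (hd : d ∈ D) (he : e ∈ D) (h : d * f ∈ N) (hc : Commute e d) :
    (e * f) ^ 2 ∈ N := by
  have h0 : e * f = (e * d) * (d * f) := by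
    calc e * f = e * (d * d) * f := by rw [mul_self hE hd, mul_one]
      _ = (e * d) * (d * f) := by simp only [mul_assoc]
  have h1 : (e * d)⁻¹ = e * d := by
    rw [mul_inv_rev, inv_eq hE hd, inv_eq hE he, hc.eq]
  have h2 := hNn.conj_mem _ h (e * d)
  rw [h1] at h2
  rw [pow_two, h0]
  have : e * d * (d * f) * (e * d * (d * f)) = (e * d * (d * f) * (e * d)) * (d * f) := by
    simp only [mul_assoc]
  rw [this]
  exact N.mul_mem h2 h

/-- If `d`, `f` agree modulo a normal 2-subgroup, then they commute with the same members. -/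
theorem commute_two (hE : IsThreeTranspositionSet D) {N : Subgroup G} (hNn : N.Normal)
    (hNp : IsPGroup 2 N) {d f e : G} (hd : d ∈ D) (hf : f ∈ D) (he : e ∈ D) (h : d * f ∈ N)
    (hc : Commute e d) : Commute e f := by
  have : Fact (Nat.Prime 2) := ⟨Nat.prime_two⟩
  rcases hE.2 e he f hf with h2 | h2
  · have h3 : e * f * (e * f) = 1 := by rw [← pow_two]; exact h2
    have h4 : e * f = (e * f)⁻¹ := eq_inv_of_mul_eq_one_left h3
    show e * f = f * e
    rw [h4, mul_inv_rev, inv_eq hE he, inv_eq hE hf]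
  · have h3 := mul_pow_two_mem hE hNn hd he h hc
    have h4 : e * f ∈ N := by
      have h5 : e * f = ((e * f) ^ 2)⁻¹ := by
        rw [eq_comm, inv_eq_iff_mul_eq_one, ← pow_succ]; exact h2
      rw [h5]; exact N.inv_mem h3
    have h5 := eq_one_of_pow hNp h4 (by norm_num) h2
    rw [eq_of_mul_eq_one hE he h5]

/-- If `d`, `f` agree modulo a normal 3-subgroup and `e ≠ d` commutes with `d`, then it commutes
with `f`. -/
theorem commute_three (hE : IsThreeTranspositionSet D) {N : Subgroup G} (hNn : N.Normal)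
    (hNp : IsPGroup 3 N) {d f e : G} (hd : d ∈ D) (hf : f ∈ D) (he : e ∈ D) (h : d * f ∈ N)
    (hed : e ≠ d) (hc : Commute e d) : Commute e f := by
  have : Fact (Nat.Prime 3) := ⟨Nat.prime_three⟩
  rcases hE.2 e he f hf with h2 | h2
  · have h3 : e * f * (e * f) = 1 := by rw [← pow_two]; exact h2
    have h4 : e * f = (e * f)⁻¹ := eq_inv_of_mul_eq_one_left h3
    show e * f = f * e
    rw [h4, mul_inv_rev, inv_eq hE he, inv_eq hE hf]
  · exfalso
    have h3 := mul_pow_two_mem hE hNn hd he h hc
    have h4 : e * f ∈ N := by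
      have h5 : e * f = ((e * f) ^ 2)⁻¹ := by
        rw [eq_comm, inv_eq_iff_mul_eq_one, ← pow_succ]; exact h2
      rw [h5]; exact N.inv_mem h3
    -- `e d ∈ N`
    have h6 : e * d ∈ N := by
      have h7 : e * d = (e * f) * (d * f)⁻¹ := by
        rw [mul_inv_rev, inv_eq hE hf, inv_eq hE hd]
        calc e * d = e * (f * f) * d := by rw [mul_self hE hf, mul_one]
          _ = e * f * (f * d) := by simp only [mul_assoc]
      rw [h7]; exact N.mul_mem h4 (N.inv_mem h)
    exact hed (eq_of_three hE hNp he hd h6 hc).symm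

section Perfect

/-- the property of a subgroup used below: perfect, and commuting with the solvable subgroups it
normalises (components and the layer have it) -/
structure Good (L : Subgroup G) : Prop where
  perfect : Group.IsPerfect L
  comm : ∀ H : Subgroup G, L ≤ Subgroup.normalizer (H : Set G) → Group.IsSolvable H → ⁅L, H⁆ = ⊥

theorem good_component {K : Subgroup G} (hK : IsComponent K) : Good K :=
  ⟨hK.2.1, fun _ hn hs =>
    SignalizersComponents.Components.component_commutator_solvable hK hn hs⟩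

theorem good_layer : Good (layer G) :=
  ⟨SignalizersComponents.Components.layer_isPerfect G, fun _ hn hs =>
    SignalizersComponents.Components.layer_commutator_solvable hn hs⟩

/-- If the conjugates of the involution `d` under `L` commute with `d`, then `d` centralises `L`. -/
theorem commute_of_all_commute {L : Subgroup G} (hL : Good L) {d : G}
    (h : ∀ x ∈ L, Commute d (x * d * x⁻¹)) : ∀ x ∈ L, Commute x d := by
  set T : Set G := {t | ∃ x ∈ L, t = x * d * x⁻¹} with hT
  have hcomm : ∀ a ∈ T, ∀ b ∈ T, a * b = b * a := by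
    rintro _ ⟨x, hx, rfl⟩ _ ⟨y, hy, rfl⟩
    have h1 := h (x⁻¹ * y) (L.mul_mem (L.inv_mem hx) hy)
    have h2 := (commute_conj_iff x).2 h1
    have e : x * (x⁻¹ * y * d * (x⁻¹ * y)⁻¹) * x⁻¹ = y * d * y⁻¹ := by group
    rw [e] at h2
    exact h2
  set P : Subgroup G := Subgroup.closure T with hP
  have hPs : Group.IsSolvable P := by
    have : IsMulCommutative P := Subgroup.isMulCommutative_closure hcomm
    apply Group.isSolvable_of_comm
    exact fun a b => mul_comm' a b
  have hn : L ≤ Subgroup.normalizer (P : Set G) := by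
    rw [hP, Subgroup.le_normalizer_closure_iff]
    rintro g hg _ ⟨x, hx, rfl⟩
    exact Subgroup.subset_closure ⟨g * x, L.mul_mem hg hx, by group⟩
  have h1 := hL.comm P hn hPs
  rw [Subgroup.commutator_eq_bot_iff_le_centralizer] at h1
  have hd : d ∈ P := Subgroup.subset_closure ⟨1, L.one_mem, by simp⟩
  intro x hx
  exact ((Subgroup.mem_centralizer_iff.1 (h1 hx)) d hd).symm

/-- If the products of the involution `d` with its conjugates under `L` have order dividing 3, and
`d` normalises `L`, then `d` centralises `L`. -/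
theorem commute_of_all_cube [Finite G] {L : Subgroup G} (hL : Good L) {d : G} (hd2 : d * d = 1)
    (hn : ∀ x ∈ L, d * x * d⁻¹ ∈ L)
    (h : ∀ x ∈ L, (d * (x * d * x⁻¹)) ^ 3 = 1) : ∀ x ∈ L, Commute x d := by
  have hdi : d⁻¹ = d := inv_eq_of_mul_eq_one_left hd2
  set T : Set G := {t | ∃ x ∈ L, t = x * d * x⁻¹} with hT
  have hinv : ∀ a ∈ T, a * a = 1 := by
    rintro _ ⟨x, hx, rfl⟩
    have : x * d * x⁻¹ * (x * d * x⁻¹) = x * (d * d) * x⁻¹ := by group
    rw [this, hd2]; group
  have hHall : Lib.HallTriple.IsHallSet T := by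
    refine ⟨hinv, ?_, ?_⟩
    · rintro _ ⟨x, hx, rfl⟩ _ ⟨y, hy, rfl⟩
      -- `(x d x⁻¹) y d y⁻¹ (x d x⁻¹)`
      refine ⟨x * (d * (x⁻¹ * y) * d⁻¹), L.mul_mem hx (hn _ (L.mul_mem (L.inv_mem hx) hy)), ?_⟩
      rw [hdi]
      have e1 : (x * (d * (x⁻¹ * y) * d))⁻¹ = d⁻¹ * (y⁻¹ * x) * d⁻¹ * x⁻¹ := by group
      rw [e1, hdi]
      calc x * d * x⁻¹ * (y * d * y⁻¹) * (x * d * x⁻¹)
          = x * (d * (x⁻¹ * y) * 1) * d * 1 * (y⁻¹ * x) * d * x⁻¹ := by group
        _ = x * (d * (x⁻¹ * y) * (d * d)) * d * 1 * (y⁻¹ * x) * d * x⁻¹ := by rw [hd2]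
        _ = x * (d * (x⁻¹ * y) * d) * (d * d) * 1 * (y⁻¹ * x) * d * x⁻¹ := by
            simp only [mul_assoc]
        _ = x * (d * (x⁻¹ * y) * d) * (d * (d * (y⁻¹ * x) * d * x⁻¹)) := by
            simp only [mul_assoc, one_mul]
        _ = x * (d * (x⁻¹ * y) * d) * d * (d * (y⁻¹ * x) * d * x⁻¹) := by
            simp only [mul_assoc]
    · rintro _ ⟨x, hx, rfl⟩ _ ⟨y, hy, rfl⟩
      have h1 := h (x⁻¹ * y) (L.mul_mem (L.inv_mem hx) hy)
      have e : x * d * x⁻¹ * (y * d * y⁻¹) = x * (d * (x⁻¹ * y * d * (x⁻¹ * y)⁻¹)) * x⁻¹ := by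
        group
      rw [e, conj_pow, h1]; group
  have hP := Lib.HallTriple.isPGroup_closure_mul hHall
  set P : Subgroup G := Subgroup.closure {x : G | ∃ a ∈ T, ∃ b ∈ T, x = a * b} with hPd
  have hPs : Group.IsSolvable P := by
    have : Fact (Nat.Prime 3) := ⟨Nat.prime_three⟩
    have : Group.IsNilpotent P := hP.isNilpotent
    infer_instance
  have hn' : L ≤ Subgroup.normalizer (P : Set G) := by
    rw [hPd, Subgroup.le_normalizer_closure_iff]
    rintro g hg _ ⟨_, ⟨x, hx, rfl⟩, _, ⟨y, hy, rfl⟩, rfl⟩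
    exact Subgroup.subset_closure ⟨_, ⟨g * x, L.mul_mem hg hx, rfl⟩, _,
      ⟨g * y, L.mul_mem hg hy, rfl⟩, by group⟩
  have h1 := hL.comm P hn' hPs
  have hmem : ∀ x ∈ L, d * (x * d * x⁻¹) ∈ P := fun x hx =>
    Subgroup.subset_closure ⟨d, ⟨1, L.one_mem, by simp⟩, _, ⟨x, hx, rfl⟩, rfl⟩
  have h2 : ⁅Subgroup.zpowers d, L⁆ ≤ P := by
    rw [Subgroup.commutator_le]
    intro g hg x hx
    rw [Subgroup.mem_zpowers_iff] at hg
    obtain ⟨k, rfl⟩ := hg
    rcases Int.even_or_odd' k with ⟨m, rfl | rfl⟩
    · have : d ^ (2 * m) = 1 := by rw [zpow_mul]; rw [zpow_two, hd2, one_zpow]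
      rw [this, commutatorElement_one_left]
      exact P.one_mem
    · have : d ^ (2 * m + 1) = d := by
        rw [zpow_add, zpow_mul, zpow_two, hd2, one_zpow, one_mul, zpow_one]
      rw [this, commutatorElement_def, hdi]
      have := hmem x hx
      have e : d * x * d * x⁻¹ = d * (x * d * x⁻¹) := by simp only [mul_assoc]
      rwa [e]
  have h3 : ⁅⁅Subgroup.zpowers d, L⁆, L⁆ = ⊥ := by
    rw [eq_bot_iff]
    refine (Subgroup.commutator_mono h2 le_rfl).trans ?_
    rw [Subgroup.commutator_comm, h1]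
  have h4 := SignalizersComponents.Components.commutator_eq_bot_of_commutator_commutator_eq_bot
    hL.perfect h3
  rw [Subgroup.commutator_eq_bot_iff_le_centralizer] at h4
  intro x hx
  exact (Subgroup.mem_centralizer_iff.1 (h4 (Subgroup.mem_zpowers d))) x hx

/-- a perfect central subgroup is trivial -/
theorem eq_bot_of_perfect_of_le_center {L : Subgroup G} (hL : Group.IsPerfect L)
    (h : L ≤ Subgroup.center G) : L = ⊥ := by
  rw [← Subgroup.commutator_eq_self (H := L), Subgroup.commutator_eq_bot_iff_le_centralizer]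
  exact h.trans (Subgroup.center_le_centralizer _)

end Perfect

theorem pCore_le_center_of_lt [Finite G] (hD : IsThreeTranspositionClass D) {p : ℕ} (hp : p.Prime)
    (h : 3 < p) : pCore p G ≤ Subgroup.center G := by
  have : Fact p.Prime := ⟨hp⟩
  exact le_center_of_commute hD.2.2 fun d hd x hx =>
    commute_of_normal hD.1 (conjClosed_of_class hD) h (Lib.Cores.pCore_normal p)
      (Lib.Cores.pCore_isPGroup p) hd hx

/-- The Fitting subgroup is central if `O₂(G)` and `O₃(G)` are. -/
theorem fitting_le_center [Finite G] (hD : IsThreeTranspositionClass D)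
    (h2 : pCore 2 G ≤ Subgroup.center G) (h3 : pCore 3 G ≤ Subgroup.center G) :
    fittingSubgroup G ≤ Subgroup.center G := by
  rw [Lib.Cores.fittingSubgroup_eq_iSup_pCore]
  refine iSup_le fun p => ?_
  obtain ⟨p, hp⟩ := p
  show pCore p G ≤ _
  by_cases h : 3 < p
  · exact pCore_le_center_of_lt hD hp h
  · have h4 := hp.two_le
    interval_cases p
    · exact h2
    · exact h3

/-- A normal solvable subgroup is central if `O₂(G)` and `O₃(G)` are. -/
theorem solvable_le_center [Finite G] (hD : IsThreeTranspositionClass D)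
    (h2 : pCore 2 G ≤ Subgroup.center G) (h3 : pCore 3 G ≤ Subgroup.center G)
    {N : Subgroup G} (hN : N.Normal) (hs : Group.IsSolvable N) : N ≤ Subgroup.center G := by
  have hF := fitting_le_center hD h2 h3
  refine le_trans ?_ hF
  refine SignalizersComponents.ComponentExists.le_fitting_of_normal_of_isSolvable hN hs ?_
  intro x _
  rw [Subgroup.mem_centralizer_iff]
  intro y hy
  exact ((Subgroup.mem_center_iff.1 (hF hy)) x).symm

theorem subnormal_solvable_le_center [Finite G] (hD : IsThreeTranspositionClass D)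
    (h2 : pCore 2 G ≤ Subgroup.center G) (h3 : pCore 3 G ≤ Subgroup.center G)
    {N : Subgroup G} (hN : N.IsSubnormal) (hs : Group.IsSolvable N) : N ≤ Subgroup.center G := by
  obtain ⟨M, hM1, hM2, hM3⟩ :=
    SignalizersComponents.ComponentExists.exists_normal_isSolvable_of_isSubnormal hN hs
  exact hM3.trans (solvable_le_center hD h2 h3 hM1 hM2)

/-- If `O₂(G)` and `O₃(G)` are central then there is a component. -/
theorem exists_component [Finite G] (hD : IsThreeTranspositionClass D)
    (hD2 : ∃ a ∈ D, ∃ b ∈ D, a ≠ b)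
    (h2 : pCore 2 G ≤ Subgroup.center G) (h3 : pCore 3 G ≤ Subgroup.center G) :
    layer G ≠ ⊥ := by
  intro h
  have h4 := SignalizersComponents.ComponentExists.centralizer_fitting_le_of_layer_eq_bot h
  have hF := fitting_le_center hD h2 h3
  obtain ⟨a, ha, _⟩ := id hD2
  obtain ⟨c, hc, hac⟩ := exists_noncomm hD hD2 ha
  apply hac
  have h5 : a ∈ Subgroup.center G := by
    apply hF
    apply h4
    rw [Subgroup.mem_centralizer_iff]
    intro y hy
    exact ((Subgroup.mem_center_iff.1 (hF hy)) a).symm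
  exact ((Subgroup.mem_center_iff.1 h5) c).symm

/-- a noncentral normal subgroup `N` moves each member of `D` -/
theorem exists_move (hD : IsThreeTranspositionClass D) {N : Subgroup G} (hN : N.Normal)
    (h : ¬ N ≤ Subgroup.center G) {d : G} (hd : d ∈ D) :
    ∃ f ∈ D, f ≠ d ∧ ∃ x ∈ N, f = x * d * x⁻¹ := by
  have hC := conjClosed_of_class hD
  by_contra hcon
  push Not at hcon
  apply h
  refine le_center_of_commute hD.2.2 fun e he x hx => ?_
  obtain ⟨g, hg⟩ := exists_conj_of_class hD hd he
  have hy : g⁻¹ * x * g ∈ N := by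
    have := hN.conj_mem x hx g⁻¹
    rwa [inv_inv] at this
  have h1 : (g⁻¹ * x * g) * d * (g⁻¹ * x * g)⁻¹ = d := by
    by_contra hne
    exact hcon _ (hC (g⁻¹ * x * g) d hd) hne _ hy rfl
  rw [← conj_eq_self_iff, ← hg]
  calc x * (g * d * g⁻¹) * x⁻¹ = g * ((g⁻¹ * x * g) * d * (g⁻¹ * x * g)⁻¹) * g⁻¹ := by group
    _ = g * d * g⁻¹ := by rw [h1]

/-- If `O₂(G)` is not central then the layer is trivial. -/
theorem layer_eq_bot_of_two [Finite G] (hD : IsThreeTranspositionClass D)
    (h : ¬ pCore 2 G ≤ Subgroup.center G) : layer G = ⊥ := by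
  have : Fact (Nat.Prime 2) := ⟨Nat.prime_two⟩
  have hE := hD.1
  have hC := conjClosed_of_class hD
  have hN : (pCore 2 G).Normal := Lib.Cores.pCore_normal 2
  have hNp : IsPGroup 2 (pCore 2 G) := Lib.Cores.pCore_isPGroup 2
  have hlN : (layer G).Normal := SignalizersComponents.Components.layer_normal G
  have hcl : ∀ g ∈ layer G, ∀ z ∈ pCore 2 G, Commute g z := by
    intro g hg z hz
    have h1 := SignalizersComponents.Components.layer_le_centralizer_fitting (G := G) hg
    exact ((Subgroup.mem_centralizer_iff.1 h1) z (Lib.Cores.pCore_le_fittingSubgroup 2 hz)).symm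
  refine eq_bot_of_perfect_of_le_center good_layer.perfect ?_
  refine le_center_of_commute hD.2.2 fun d hd => ?_
  refine commute_of_all_commute good_layer fun g hg => ?_
  obtain ⟨f, hf, hfd, x, hx, hfx⟩ := exists_move hD hN h hd
  have hz : d * f ∈ pCore 2 G := by rw [hfx]; exact mul_conj_mem hE hN hd hx
  have hdf : Commute d f := commute_of_two hE hNp hd hf hz
  set e := g * d * g⁻¹ with he
  set e' := g * f * g⁻¹ with he'
  have heD : e ∈ D := hC g d hd
  have hee' : Commute e e' := (commute_conj_iff g).2 hdf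
  have hprod : e * e' = d * f := by
    have h1 : g * (d * f) * g⁻¹ = d * f := conj_eq_self_iff.2 (hcl g hg _ hz)
    rw [he, he']
    calc g * d * g⁻¹ * (g * f * g⁻¹) = g * (d * f) * g⁻¹ := by group
      _ = d * f := h1
  have h3 : Commute e (d * f) := by
    rw [← hprod]
    exact (Commute.refl e).mul_right hee'
  exact ((commute_mul_iff hE hd hf heD hfd.symm hdf).1 h3).1.symm

/-- If `O₃(G)` is not central then the layer is trivial. -/
theorem layer_eq_bot_of_three [Finite G] (hD : IsThreeTranspositionClass D)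
    (h : ¬ pCore 3 G ≤ Subgroup.center G) : layer G = ⊥ := by
  have : Fact (Nat.Prime 3) := ⟨Nat.prime_three⟩
  have hE := hD.1
  have hC := conjClosed_of_class hD
  have hN : (pCore 3 G).Normal := Lib.Cores.pCore_normal 3
  have hNp : IsPGroup 3 (pCore 3 G) := Lib.Cores.pCore_isPGroup 3
  have hlN : (layer G).Normal := SignalizersComponents.Components.layer_normal G
  have hcl : ∀ g ∈ layer G, ∀ z ∈ pCore 3 G, Commute g z := by
    intro g hg z hz
    have h1 := SignalizersComponents.Components.layer_le_centralizer_fitting (G := G) hg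
    exact ((Subgroup.mem_centralizer_iff.1 h1) z (Lib.Cores.pCore_le_fittingSubgroup 3 hz)).symm
  refine eq_bot_of_perfect_of_le_center good_layer.perfect ?_
  refine le_center_of_commute hD.2.2 fun d hd => ?_
  refine commute_of_all_cube good_layer (mul_self hE hd) (fun x hx => hlN.conj_mem x hx d)
    fun g hg => ?_
  obtain ⟨f, hf, hfd, x, hx, hfx⟩ := exists_move hD hN h hd
  have hz : d * f ∈ pCore 3 G := by rw [hfx]; exact mul_conj_mem hE hN hd hx
  set e := g * d * g⁻¹ with he
  set e' := g * f * g⁻¹ with he'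
  have heD : e ∈ D := hC g d hd
  have hprod : e * e' = d * f := by
    have h1 : g * (d * f) * g⁻¹ = d * f := conj_eq_self_iff.2 (hcl g hg _ hz)
    rw [he, he']
    calc g * d * g⁻¹ * (g * f * g⁻¹) = g * (d * f) * g⁻¹ := by group
      _ = d * f := h1
  rcases hE.2 d hd e heD with h2 | h2
  swap
  · exact h2
  by_cases hed : e = d
  · rw [hed, mul_self hE hd, one_pow]
  exfalso
  have hde : Commute e d := by
    have h3 : d * e * (d * e) = 1 := by rw [← pow_two]; exact h2
    have h4 : d * e = (d * e)⁻¹ := eq_inv_of_mul_eq_one_left h3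
    show e * d = d * e
    rw [h4, mul_inv_rev, inv_eq hE hd, inv_eq hE heD]
  have hef : Commute e f := commute_three hE hN hNp hd hf heD hz hed hde
  have h3 : Commute e (e * e') := by rw [hprod]; exact hde.mul_right hef
  have h4 : Commute e e' := by
    have h5 : e' = e * (e * e') := by rw [← mul_assoc, mul_self hE heD, one_mul]
    rw [h5]
    exact (Commute.refl e).mul_right h3
  have h5 : Commute d f := (commute_conj_iff g).1 h4
  exact hfd (eq_of_three hE hNp hd hf hz h5)

/-- Not both `O₂(G)` and `O₃(G)` are noncentral. -/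
theorem two_or_three [Finite G] (hD : IsThreeTranspositionClass D) :
    pCore 2 G ≤ Subgroup.center G ∨ pCore 3 G ≤ Subgroup.center G := by
  by_contra hcon
  push Not at hcon
  obtain ⟨h2, h3⟩ := hcon
  have : Fact (Nat.Prime 3) := ⟨Nat.prime_three⟩
  have : Fact (Nat.Prime 2) := ⟨Nat.prime_two⟩
  have hE := hD.1
  have hN3 : (pCore 3 G).Normal := Lib.Cores.pCore_normal 3
  have hN3p : IsPGroup 3 (pCore 3 G) := Lib.Cores.pCore_isPGroup 3
  have hN2 : (pCore 2 G).Normal := Lib.Cores.pCore_normal 2
  have hN2p : IsPGroup 2 (pCore 2 G) := Lib.Cores.pCore_isPGroup 2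
  obtain ⟨d, hd, _⟩ := hD.2.1
  obtain ⟨f, hf, hfd, x, hx, hfx⟩ := exists_move hD hN2 h2 hd
  obtain ⟨g, hg, hgd, y, hy, hgy⟩ := exists_move hD hN3 h3 hd
  have hz : d * f ∈ pCore 2 G := by rw [hfx]; exact mul_conj_mem hE hN2 hd hx
  have hw : d * g ∈ pCore 3 G := by rw [hgy]; exact mul_conj_mem hE hN3 hd hy
  have hdf : Commute d f := commute_of_two hE hN2p hd hf hz
  have h1 : Commute f g := commute_three hE hN3 hN3p hd hg hf hw hfd hdf.symm
  have hz' : f * d ∈ pCore 2 G := by rw [← hdf.eq]; exact hz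
  have h4 : Commute g d := commute_two hE hN2 hN2p hf hd hg hz' h1.symm
  exact hgd (eq_of_three hE hN3p hd hg hw h4.symm)

end Cfsg.Agent.H805.Base
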