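import Cfsg.Agent.H805.Index
import Cfsg.Agent.Lib.ThreeTransRank

/-!
Primitive 3-transposition groups: class, cores, connectedness, maximal D-subgroups.
-/

set_option autoImplicit false

namespace Cfsg.Agent.H805.Maxl

open Cfsg Cfsg.Agent.SporadicB.ThreeTrans Cfsg.Agent.ThreeTrans375.Basic Cfsg.Agent.H805.Base
  Cfsg.Agent.H805.Comp Cfsg.Agent.H805.Prim Cfsg.Agent.H805.Index

variable {G : Type*} [Group G] {D : Set G}

theorem isClass (hD : IsThreeTranspositionGroup D) (hp : IsPrimitiveUnderConj D) :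
    IsThreeTranspositionClass D := by
  obtain ⟨a, ha, _⟩ := hp.2.1
  refine ⟨hD.1, ⟨a, ha, ?_⟩, hD.2.2⟩
  ext b
  constructor
  · intro hb
    exact isConj_iff.2 (hp.1 a ha b hb)
  · intro hb
    obtain ⟨g, rfl⟩ := isConj_iff.1 hb
    exact hD.2.1 g a ha

/-- primitivity in terms of invariant relations -/
theorem isPrim (hC : ConjClosed D) (hp : IsPrimitiveUnderConj D) :
    Lib.ThreeTransRank.IsPrim D := by
  intro R hr hs ht hc ⟨x, hx, y, hy, hxy, hR⟩
  have hB := hp.2.2 {z | z ∈ D ∧ R x z} (fun z hz => hz.1) (by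
    intro g
    have himg : (fun x => g * x * g⁻¹) '' {z | z ∈ D ∧ R x z} = {z | z ∈ D ∧ R (g * x * g⁻¹) z} := by
      ext z
      constructor
      · rintro ⟨w, ⟨hw, hw2⟩, rfl⟩
        exact ⟨hC g w hw, hc g x hx w hw hw2⟩
      · rintro ⟨hz, hz2⟩
        have h1 := hc g⁻¹ _ (hC g x hx) z hz hz2
        have e : g⁻¹ * (g * x * g⁻¹) * g⁻¹⁻¹ = x := by group
        rw [e] at h1
        exact ⟨g⁻¹ * z * g⁻¹⁻¹, ⟨hC g⁻¹ z hz, h1⟩, by group⟩
    rw [himg]
    by_cases h : R x (g * x * g⁻¹)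
    · left
      ext z
      constructor
      · rintro ⟨hz, hz2⟩
        exact ⟨hz, ht x hx _ (hC g x hx) z hz h hz2⟩
      · rintro ⟨hz, hz2⟩
        exact ⟨hz, ht _ (hC g x hx) x hx z hz (hs x hx _ (hC g x hx) h) hz2⟩
    · right
      rw [Set.disjoint_left]
      rintro z ⟨hz, hz2⟩ ⟨_, hz3⟩
      exact h (ht x hx z hz _ (hC g x hx) hz3 (hs _ (hC g x hx) z hz hz2)))
  have hB' : {z | z ∈ D ∧ R x z} = D := by
    rcases hB with h | h
    · exact absurd (h ⟨hx, hr x hx⟩ ⟨hy, hR⟩) hxy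
    · exact h
  have hall : ∀ z ∈ D, R x z := fun z hz => by
    have : z ∈ {z | z ∈ D ∧ R x z} := by rw [hB']; exact hz
    exact this.2
  intro u hu v hv
  exact ht u hu x hx v hv (hs x hx u hu (hall u hu)) (hall v hv)

/-- a noncentral normal subgroup is transitive, so all products lie in it -/
theorem mul_mem_of_not_central (hD : IsThreeTranspositionClass D)
    (hp : Lib.ThreeTransRank.IsPrim D) {N : Subgroup G} (hN : N.Normal)
    (h : ¬ N ≤ Subgroup.center G) : ∀ x ∈ D, ∀ y ∈ D, x * y ∈ N := by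
  have hE := hD.1
  have hC := conjClosed_of_class hD
  obtain ⟨d, hd, _⟩ := hD.2.1
  obtain ⟨f, hf, hfd, n, hn, hfn⟩ := exists_move hD hN h hd
  have h1 := hp (fun x y => ∃ n ∈ N, n * x * n⁻¹ = y) (fun x _ => ⟨1, N.one_mem, by simp⟩)
    (by
      rintro x _ y _ ⟨n, hn, rfl⟩
      exact ⟨n⁻¹, N.inv_mem hn, by group⟩)
    (by
      rintro x _ y _ z _ ⟨n, hn, rfl⟩ ⟨m, hm, rfl⟩
      exact ⟨m * n, N.mul_mem hm hn, by group⟩)
    (by
      rintro g x _ y _ ⟨n, hn, rfl⟩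
      exact ⟨g * n * g⁻¹, hN.conj_mem n hn g, by group⟩)
    ⟨d, hd, f, hf, hfd.symm, n, hn, hfn.symm⟩
  intro x hx y hy
  obtain ⟨m, hm, rfl⟩ := h1 x hx y hy
  exact mul_conj_mem hE hN hx hm

theorem two_central [Finite G] (hD : IsThreeTranspositionClass D)
    (hD2 : ∃ a ∈ D, ∃ b ∈ D, a ≠ b) (hp : Lib.ThreeTransRank.IsPrim D) :
    pCore 2 G ≤ Subgroup.center G := by
  by_contra h
  have h1 := mul_mem_of_not_central hD hp (Lib.Cores.pCore_normal 2) h
  obtain ⟨a, ha, _⟩ := id hD2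
  obtain ⟨c, hc, hac⟩ := exists_noncomm hD hD2 ha
  exact hac (commute_of_two hD.1 (Lib.Cores.pCore_isPGroup 2) ha hc (h1 a ha c hc))

theorem three_central [Finite G] (hD : IsThreeTranspositionClass D)
    (hw : ∃ a ∈ D, ∃ b ∈ D, a ≠ b ∧ Commute a b) (hp : Lib.ThreeTransRank.IsPrim D) :
    pCore 3 G ≤ Subgroup.center G := by
  by_contra h
  have h1 := mul_mem_of_not_central hD hp (Lib.Cores.pCore_normal 3) h
  obtain ⟨a, ha, b, hb, hab, hc⟩ := hw
  exact hab (eq_of_three hD.1 (Lib.Cores.pCore_isPGroup 3) ha hb (h1 a ha b hb) hc).symm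

/-- connectedness -/
theorem connected (hD : IsThreeTranspositionClass D)
    (hw : ∃ a ∈ D, ∃ b ∈ D, a ≠ b ∧ Commute a b) (hp : Lib.ThreeTransRank.IsPrim D) :
    (commutingGraph D).Connected := by
  have hC := conjClosed_of_class hD
  obtain ⟨a, ha, b, hb, hab, hc⟩ := hw
  let R : G → G → Prop := fun x y => Relation.ReflTransGen (fun u v => u ∈ D ∧ v ∈ D ∧ Commute u v) x y
  have h1 : ∀ x ∈ D, ∀ y ∈ D, R x y := by
    refine hp R (fun x _ => Relation.ReflTransGen.refl) ?_ (fun x _ y _ z _ h h' => h.trans h') ?_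
      ⟨a, ha, b, hb, hab, Relation.ReflTransGen.single ⟨ha, hb, hc⟩⟩
    · intro x _ y _ h
      have hsymm : Std.Symm (fun u v : G => u ∈ D ∧ v ∈ D ∧ Commute u v) :=
        ⟨fun u v h => ⟨h.2.1, h.1, h.2.2.symm⟩⟩
      exact (Relation.ReflTransGen.stdSymm (r := fun u v : G => u ∈ D ∧ v ∈ D ∧ Commute u v)).symm _ _ h
    · intro g x _ y hyD h
      clear hyD
      induction h with
      | refl => exact Relation.ReflTransGen.refl
      | tail _ hc ih =>
        exact Relation.ReflTransGen.tail ih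
          ⟨hC g _ hc.1, hC g _ hc.2.1, (commute_conj_iff g).2 hc.2.2⟩
  have hne : Nonempty D := ⟨⟨a, ha⟩⟩
  rw [SimpleGraph.connected_iff]
  refine ⟨?_, hne⟩
  rintro ⟨x, hx⟩ ⟨y, hy⟩
  have h2 := h1 x hx y hy
  have key : ∀ z, R x z → ∀ hz : z ∈ D, (commutingGraph D).Reachable ⟨x, hx⟩ ⟨z, hz⟩ := by
    intro z hz
    induction hz with
    | refl => intro _; exact SimpleGraph.Reachable.refl _
    | @tail u v _ hc ih =>
      intro hv
      refine (ih hc.1).trans ?_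
      by_cases huv : u = v
      · subst huv; exact SimpleGraph.Reachable.refl _
      · exact (adj_of_commute (by intro h; exact huv (congrArg Subtype.val h)) hc.2.2).reachable
  exact key y h2 hy

/-- `⟨C_D(d)⟩` is a proper subgroup. -/
theorem closure_ne_top (hD : IsThreeTranspositionClass D) (hD2 : ∃ a ∈ D, ∃ b ∈ D, a ≠ b)
    {d : G} (hd : d ∈ D) : Subgroup.closure {y : G | y ∈ D ∧ Commute d y} ≠ ⊤ := by
  intro h
  obtain ⟨c, hc, hdc⟩ := exists_noncomm hD hD2 hd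
  apply hdc
  have h1 : Subgroup.closure {y : G | y ∈ D ∧ Commute d y} ≤ Subgroup.centralizer ({d} : Set G) := by
    rw [Subgroup.closure_le]
    rintro y ⟨_, hy⟩
    rw [SetLike.mem_coe, Subgroup.mem_centralizer_iff]
    rintro _ rfl
    exact hy
  have h2 : c ∈ Subgroup.centralizer ({d} : Set G) := h1 (by rw [h]; exact Subgroup.mem_top c)
  exact (Subgroup.mem_centralizer_iff.1 h2) d rfl

/-- `⟨C_D(d)⟩` is a maximal `D`-subgroup. -/
theorem maximal [Finite G] (hD : IsThreeTranspositionClass D)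
    (hw : ∃ a ∈ D, ∃ b ∈ D, a ≠ b ∧ Commute a b) (hp : Lib.ThreeTransRank.IsPrim D)
    {d : G} (hd : d ∈ D) (H : Subgroup G) (hH : IsDSubgroup D H)
    (hM : Subgroup.closure {y : G | y ∈ D ∧ Commute d y} ≤ H) :
    H = Subgroup.closure {y : G | y ∈ D ∧ Commute d y} ∨ H = ⊤ := by
  have hE := hD.1
  have hC := conjClosed_of_class hD
  have hcon := connected hD hw hp
  by_contra hcon'
  push Not at hcon'
  obtain ⟨hne, htop⟩ := hcon'
  have hCd : ∀ y ∈ D, Commute d y → y ∈ H := fun y hy hc =>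
    hM (Subgroup.subset_closure ⟨hy, hc⟩)
  have hdH : d ∈ H := hCd d hd (Commute.refl d)
  -- a member of `H` not commuting with `d`
  obtain ⟨a, haD, haH, hda⟩ : ∃ a ∈ D, a ∈ H ∧ ¬ Commute d a := by
    by_contra h
    push Not at h
    apply hne
    apply le_antisymm _ hM
    rw [← hH, Subgroup.closure_le]
    rintro y ⟨hy, hyH⟩
    exact Subgroup.subset_closure ⟨hy, h y hy hyH⟩
  -- conjugates of `d` in `H`
  set Δ : Set G := {x | ∃ h ∈ H, x = h * d * h⁻¹} with hΔ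
  have hΔD : ∀ x ∈ Δ, x ∈ D := by rintro _ ⟨h, _, rfl⟩; exact hC h d hd
  have hΔH : ∀ x ∈ Δ, x ∈ H := by
    rintro _ ⟨h, hh, rfl⟩; exact H.mul_mem (H.mul_mem hh hdH) (H.inv_mem hh)
  have hΔC : ∀ x ∈ Δ, ∀ y ∈ D, Commute x y → y ∈ H := by
    rintro _ ⟨h, hh, rfl⟩ y hy hc
    have h1 : Commute d (h⁻¹ * y * h⁻¹⁻¹) := by
      have := (commute_conj_iff h⁻¹).2 hc
      have e : h⁻¹ * (h * d * h⁻¹) * h⁻¹⁻¹ = d := by group
      rwa [e] at this
    have h2 := hCd _ (hC h⁻¹ y hy) h1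
    have e : y = h * (h⁻¹ * y * h⁻¹⁻¹) * h⁻¹ := by group
    rw [e]
    exact H.mul_mem (H.mul_mem hh h2) (H.inv_mem hh)
  have hdΔ : d ∈ Δ := ⟨1, H.one_mem, by simp⟩
  have hΔconj : ∀ h ∈ H, ∀ x ∈ Δ, h * x * h⁻¹ ∈ Δ := by
    rintro h hh _ ⟨k, hk, rfl⟩
    exact ⟨h * k, H.mul_mem hh hk, by group⟩
  -- elements outside `Δ` commute with `Δ`
  have hB : ∀ x ∈ D, x ∈ H → x ∉ Δ → ∀ y ∈ Δ, Commute x y := by
    intro x hx hxH hxΔ y hy
    by_contra hxy
    apply hxΔ
    have h1 := conj_of_not_commute hE (hΔD y hy) hx (fun h => hxy h.symm)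
    rw [← h1]
    exact hΔconj _ (H.mul_mem (hΔH y hy) hxH) y hy
  by_cases hΓ : ∃ γ ∈ D, γ ∈ H ∧ γ ∉ Δ
  · obtain ⟨γ, hγD, hγH, hγΔ⟩ := hΓ
    have hγd : Commute γ d := hB γ hγD hγH hγΔ d hdΔ
    have hγne : γ ≠ d := by rintro rfl; exact hγΔ hdΔ
    have hnc : ∃ x ∈ D, ∃ y ∈ D, ¬ Commute x y := ⟨d, hd, a, haD, hda⟩
    -- `D_d ⊆ Γ`
    have hDd : ∀ y ∈ D, y ≠ d → Commute d y → y ∉ Δ := by
      intro y hy hyd hc hyΔ
      obtain ⟨g, hg, hg2⟩ := Lib.ThreeTransRank.conj_commuting hD hp hnc hd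
        (a := y) (b := γ) ⟨hy, hyd, hc⟩ ⟨hγD, hγne, hγd.symm⟩
      have hgH : g ∈ H := by
        have h1 : Subgroup.closure (Lib.ThreeTransRank.Dc D d) ≤ H := by
          rw [Subgroup.closure_le]
          rintro z ⟨hz, _, hz2⟩
          exact hCd z hz hz2
        exact h1 hg
      exact hγΔ (hg2 ▸ hΔconj g hgH y hyΔ)
    have hDdΓ : ∀ y, (y ∈ D ∧ y ≠ d ∧ Commute d y) ↔ (y ∈ D ∧ y ∈ H ∧ y ∉ Δ) := by
      intro y
      constructor
      · rintro ⟨hy, hyd, hc⟩
        exact ⟨hy, hCd y hy hc, hDd y hy hyd hc⟩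
      · rintro ⟨hy, hyH, hyΔ⟩
        exact ⟨hy, by rintro rfl; exact hyΔ hdΔ, (hB y hy hyH hyΔ d hdΔ).symm⟩
    have haΔ : a ∈ Δ := by
      by_contra h
      exact hda (hB a haD haH h d hdΔ).symm
    obtain ⟨h, hh, hah⟩ := haΔ
    have hDa : ∀ y, (y ∈ D ∧ y ≠ a ∧ Commute a y) ↔ (y ∈ D ∧ y ∈ H ∧ y ∉ Δ) := by
      intro y
      have h1 := hDdΓ (h⁻¹ * y * h)
      constructor
      · rintro ⟨hy, hya, hc⟩
        have h2 : h⁻¹ * y * h ∈ D := by have := hC h⁻¹ y hy; rwa [inv_inv] at this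
        have h3 := h1.1 ⟨h2, by
          intro h4; apply hya; rw [hah, ← h4]; group, by
          have := (commute_conj_iff h⁻¹).2 hc
          rw [hah] at this
          have e : h⁻¹ * (h * d * h⁻¹) * h⁻¹⁻¹ = d := by group
          rwa [e, inv_inv] at this⟩
        refine ⟨hy, ?_, ?_⟩
        · have e : y = h * (h⁻¹ * y * h) * h⁻¹ := by group
          rw [e]; exact H.mul_mem (H.mul_mem hh h3.2.1) (H.inv_mem hh)
        · intro hyΔ
          apply h3.2.2
          have := hΔconj h⁻¹ (H.inv_mem hh) y hyΔ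
          rwa [inv_inv] at this
      · rintro ⟨hy, hyH, hyΔ⟩
        have haΔ : a ∈ Δ := ⟨h, hh, hah⟩
        exact ⟨hy, by rintro rfl; exact hyΔ haΔ, (hB y hy hyH hyΔ a haΔ).symm⟩
    -- the relation `D_x = D_y` is nontrivial
    have hR := hp (fun x y => Dc D x = Dc D y) (fun _ _ => rfl) (fun _ _ _ _ h => h.symm)
      (fun _ _ _ _ _ _ h h' => h.trans h')
      (by
        intro g x _ y _ h
        have key : ∀ c : G, Dc D (g * c * g⁻¹) = (fun x => g * x * g⁻¹) '' Dc D c := by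
          intro c
          ext x
          constructor
          · rintro ⟨hxD, hxc, hxcomm⟩
            refine ⟨g⁻¹ * x * g⁻¹⁻¹, ⟨hC g⁻¹ x hxD, ?_, ?_⟩, by group⟩
            · intro h; apply hxc; rw [← h]; group
            · have := (commute_conj_iff g⁻¹).2 hxcomm
              have e : g⁻¹ * (g * c * g⁻¹) * g⁻¹⁻¹ = c := by group
              rwa [e] at this
          · rintro ⟨y, ⟨hyD, hyc, hycomm⟩, rfl⟩
            refine ⟨hC g y hyD, ?_, (commute_conj_iff g).2 hycomm⟩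
            intro h; exact hyc (mul_left_cancel (mul_right_cancel h))
        show Dc D (g * x * g⁻¹) = Dc D (g * y * g⁻¹)
        rw [key, key, h])
      ⟨d, hd, a, haD, by rintro rfl; exact hda (Commute.refl _), by
        show Dc D d = Dc D a
        ext y
        rw [mem_Dc, mem_Dc, hDdΓ, hDa]⟩
    have h5 : Dc D d = Dc D γ := hR d hd γ hγD
    have h6 : γ ∈ Dc D d := ⟨hγD, hγne, hγd.symm⟩
    rw [h5] at h6
    exact h6.2.1 rfl
  · push Not at hΓ
    -- `D ∩ H = Δ`; no member outside commutes with a member inside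
    apply htop
    rw [← top_le_iff, ← hD.2.2, Subgroup.closure_le]
    have key : ∀ x y : D, (commutingGraph D).Reachable x y → (x : G) ∈ H → (y : G) ∈ H := by
      rintro x y ⟨w⟩
      induction w with
      | nil => exact id
      | cons h _ ih =>
        rename_i u v w _
        intro hu
        exact ih (hΔC u (hΓ u u.2 hu) v v.2 (commute_of_adj h))
    intro y hy
    exact key ⟨d, hd⟩ ⟨y, hy⟩ (hcon.preconnected _ _) hdH

end Cfsg.Agent.H805.Maxl
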