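import Cfsg.Agent.H301.SY.Spor
import Cfsg.Agent.H561.AAB
import Cfsg.Agent.H547.PP.FarBaby

/-!
# The Baby Monster for S3846 (helper805, task 1949)

`noE_b` : the subgroups `HN`, `Th`, `Fi₂₃` contain Sylow `p`-subgroups for the primes `p ≠ 47`; Theorem O for `p = 47`.
-/

set_option autoImplicit false

namespace Cfsg.Agent.H805.NoESpor

open Cfsg Subgroup Cfsg.Agent.H301.SY Cfsg.Agent.H459.Rad Cfsg.Agent.SignalizersComponents.ComponentExists

/-- the radical of a simple subgroup -/
theorem card_radIn_simple {K : Type*} [Group K] [Finite K] {H : Subgroup K} (hs : IsSimpleGroup ↥H)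
    (hn : ¬ Group.IsSolvable ↥H) : Nat.card ↥(radIn H) = 1 := by
  have h2 : Nat.card ↥(radIn H) = Nat.card ↥(solvableRadical ↥H) :=
    Subgroup.card_map_of_injective H.subtype_injective
  rw [h2, rad_eq_bot_of_simple hn, card_bot]

/-- a simple subgroup of index prime to `p` -/
theorem noE_of_simple_index {K : Type*} [Group K] [Finite K] {p : ℕ} [hp : Fact p.Prime] {H : Subgroup K} {n m : ℕ}
    (hK : Nat.card K = n * m) (hH : Nat.card ↥H = n) (hs : IsSimpleGroup ↥H) (hn : ¬ n.Prime)
    (hm : ¬ p ∣ m) (hm1 : m ≠ 1) : NoE p K := by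
  have h1 := H.card_mul_index
  rw [hH, hK] at h1
  have hn0 : 0 < n := by rw [← hH]; exact Nat.card_pos
  have hi : H.index = m := Nat.eq_of_mul_eq_mul_left hn0 h1
  have hsol : ¬ Group.IsSolvable ↥H := by
    intro h
    exact H561.AATool.not_comm_of_card (G := ↥H) (by rw [hH]; exact hn)
      ⟨⟨IsSimpleGroup.comm_iff_isSolvable.2 h⟩⟩
  obtain ⟨Q⟩ : Nonempty (Sylow p ↥H) := inferInstance
  have hidx : ¬ p ∣ ((Q : Subgroup ↥H).map H.subtype).index := by
    have h2 : ((Q : Subgroup ↥H).map H.subtype).index = (Q : Subgroup ↥H).index * H.index := by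
      have h3 := ((Q : Subgroup ↥H).map H.subtype).card_mul_index
      rw [card_map_of_injective H.subtype_injective, ← H.card_mul_index, ← (Q : Subgroup ↥H).card_mul_index,
        mul_assoc] at h3
      exact Nat.eq_of_mul_eq_mul_left Nat.card_pos h3
    rw [h2, hi]
    intro h
    rcases hp.out.dvd_mul.1 h with h | h
    · exact Q.not_dvd_index h
    · exact hm h
  refine NoE.of_sylow (L := H) ?_ ((Q.isPGroup'.map H.subtype).toSylow hidx) ?_ ?_
  · intro ht
    rw [ht, index_top] at hi
    exact hm1 hi.symm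
  · exact map_subtype_le _
  · rw [card_radIn_simple hs hsol]
    intro h
    exact hp.out.one_lt.ne' (Nat.dvd_one.1 h)

open Cfsg.Agent.BabyM in
/-- **The Baby Monster.** -/
theorem noE_b {K : Type*} [Group K] [Finite K] [IsSimpleGroup K] (h : Cfsg.Spor.IsoB K) {p : ℕ} [Fact p.Prime]
    (hp : 5 ≤ p) (hb : Cfsg.Agent.H301.SY.Blk p K) (hO : Cfsg.Agent.H301.SY.ThO p K) : Cfsg.Agent.H301.SY.NoE p K := by
  obtain ⟨e⟩ := Cfsg.Agent.KFacts.Baby.RowB.exists_iso h
  have hfin : Finite Inst.M.G := Instance.all.finite_G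
  have hc : Nat.card Inst.M.G = 4154781481226426191177580544000000 := Instance.isB.2
  have hcK : Nat.card K = 4154781481226426191177580544000000 := by rw [← Nat.card_congr e.toEquiv, hc]
  obtain ⟨K1, hK1, -⟩ := WordsTh.exists_th Instance.all Instance.ok Cfsg.Agent.S1700.result
  obtain ⟨K2, hK2⟩ := HNB.main Instance.all Instance.ok Cfsg.Agent.S1701.result
  obtain ⟨K3, hK3⟩ := Fi23B.main Instance.all Instance.ok Cfsg.Agent.S1697.result
  by_cases hpd : p ∣ Nat.card K
  swap
  · intro x hx
    exact absurd (hx ▸ orderOf_dvd_natCard x) hpd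
  have hpl : p = 5 ∨ p = 7 ∨ p = 11 ∨ p = 13 ∨ p = 17 ∨ p = 19 ∨ p = 23 ∨ p = 31 ∨ p = 47 := by
    have hpp : p.Prime := Fact.out
    rw [hcK, show 4154781481226426191177580544000000 = 2 ^ 41 * (3 ^ 13 * (5 ^ 6 * (7 ^ 2 * (11 * (13 * (17 * (19 *
      (23 * (31 * 47))))))))) by norm_num] at hpd
    have hdvd : ∀ q : ℕ, q.Prime → p ∣ q → p = q := fun q hq h => (Nat.prime_dvd_prime_iff_eq hpp hq).1 h
    simp only [hpp.dvd_mul] at hpd
    rcases hpd with h | h | h | h | h | h | h | h | h | h | h
    · have := hdvd 2 (by norm_num) (hpp.dvd_of_dvd_pow h); omega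
    · have := hdvd 3 (by norm_num) (hpp.dvd_of_dvd_pow h); omega
    · have := hdvd 5 (by norm_num) (hpp.dvd_of_dvd_pow h); omega
    · have := hdvd 7 (by norm_num) (hpp.dvd_of_dvd_pow h); omega
    · have := hdvd 11 (by norm_num) h; omega
    · have := hdvd 13 (by norm_num) h; omega
    · have := hdvd 17 (by norm_num) h; omega
    · have := hdvd 19 (by norm_num) h; omega
    · have := hdvd 23 (by norm_num) h; omega
    · have := hdvd 31 (by norm_num) h; omega
    · have := hdvd 47 (by norm_num) h; omega
  have fromTh : ¬ p ∣ 45784762417152000 → NoE p K := fun hm => NoE.congr e.symm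
    (noE_of_simple_index (m := 45784762417152000) (by rw [hc]) hK1.2 hK1.1 (by norm_num) hm (by norm_num))
  have fromHN : ¬ p ∣ 15217256723027853312 → NoE p K := fun hm => NoE.congr e.symm
    (noE_of_simple_index (m := 15217256723027853312) (by rw [hc]) hK2.2 hK2.1 (by norm_num) hm (by norm_num))
  have fromFi : ¬ p ∣ 1015970529280000 → NoE p K := fun hm => NoE.congr e.symm
    (noE_of_simple_index (m := 1015970529280000) (by rw [hc]) hK3.2 hK3.1 (by norm_num) hm (by norm_num))
  rcases hpl with rfl | rfl | rfl | rfl | rfl | rfl | rfl | rfl | rfl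
  · exact fromHN (by norm_num)
  · exact fromTh (by norm_num)
  · exact fromHN (by norm_num)
  · exact fromTh (by norm_num)
  · exact fromFi (by norm_num)
  · exact fromHN (by norm_num)
  · exact fromFi (by norm_num)
  · exact fromTh (by norm_num)
  · have hcyc : ∀ P : Sylow 47 K, IsCyclic (P : Subgroup K) := cyclic_of_card (by rw [hcK]; norm_num)
    have hna : ¬ IsMulCommutative K := H561.AATool.not_comm_of_card (by rw [hcK]; norm_num)
    have hNA : H393.Iso.NA 47 K := by
      obtain ⟨e'⟩ := h
      exact (H547.PP.FarBaby.na_b (by norm_num) (by norm_num) (by norm_num) (by norm_num)).of_equiv e'.symm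
    refine NoE.of_m0 hna hcyc fun x hx hR hY => m0_num hcyc hb hO hx hR hY fun t ht ht47 htd => ?_
    have ht2 : t = 2 ∨ t = 23 := by
      have h1 : t ∣ 2 * 23 := htd
      rcases ht.dvd_mul.1 h1 with h2 | h2
      · left; exact (Nat.prime_dvd_prime_iff_eq ht Nat.prime_two).1 h2
      · right; exact (Nat.prime_dvd_prime_iff_eq ht (by norm_num)).1 h2
    rcases ht2 with rfl | rfl
    · right
      refine ⟨?_, default, ?_⟩
      · intro h2
        have f2 : Fact (Nat.Prime 2) := ⟨Nat.prime_two⟩
        obtain ⟨u, hu⟩ := exists_prime_orderOf_dvd_card' 2 h2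
        exact hNA x u hx (by rw [Subgroup.orderOf_coe]; exact hu) (mem_centralizer_singleton_iff.1 u.2).symm
      · rintro a j n hT ha hj - - - -
        have f2 : Fact (Nat.Prime 2) := ⟨Nat.prime_two⟩
        have h41 : Nat.card ↥((default : Sylow 2 K) : Subgroup K) = 2 ^ 41 := by
          refine (Sylow.card_eq_multiplicity (default : Sylow 2 K)).trans ?_
          congr 1
          rw [hcK]
          rw [show 4154781481226426191177580544000000 = 2 ^ 41 * 1889375872099856765625 by norm_num,
            Nat.factorization_mul (by norm_num) (by norm_num), Nat.Prime.factorization_pow Nat.prime_two]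
          simp [Nat.factorization_eq_zero_of_not_dvd]
        have h1 : a + j = 41 := Nat.pow_right_injective le_rfl (hT.symm.trans h41)
        have hj1 : j ≤ 1 := by
          by_contra h2
          push Not at h2
          have h3 : 2 ^ 2 ∣ 46 := (pow_dvd_pow 2 h2).trans hj
          norm_num at h3
        have ha' : a = 40 ∨ a = 41 := by omega
        rcases ha' with rfl | rfl <;> norm_num at ha
    · left
      intro i hi hd
      have hi1 : i ≤ 1 := by
        by_contra h2
        push Not at h2
        have h3 : 23 ^ 2 ∣ 4154781481226426191177580544000000 := by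
          rw [← hcK]
          exact (pow_dvd_pow 23 h2).trans hd
        norm_num at h3
      have : i = 1 := by omega
      subst this
      decide

end Cfsg.Agent.H805.NoESpor
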