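import Cfsg.Agent.CpAutCo3.MTw

/-!
# `M₁₂` has an element of order three whose centralizer has order prime to 27
-/

set_option autoImplicit false

namespace Cfsg.Agent.H805.CThree12

open Subgroup Cfsg Cfsg.Agent.CpAutCo3.MTw
open Cfsg.Agent.CoThreeStd.MTwelve (act act_spec wd wd_append enc_lt dec_enc wd_eq wd_ne wd_nil)
open scoped Pointwise

/-- the word of the element without fixed points -/
abbrev w : List ℕ := Cfsg.Agent.CpAutCo3.MTw.wB

theorem chk_center : ∀ n : Fin 27, (∀ x : Fin 24, act (el n.1 ++ wa) x.1 = act (wa ++ el n.1) x.1) →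
    (∀ x : Fin 24, act (el n.1 ++ wb) x.1 = act (wb ++ el n.1) x.1) →
    ∃ x : Fin 24, act (el n.1) x.1 = x.1 := by decide +kernel

theorem chk_B0 : ∀ x : Fin 24, act w x.1 ≠ x.1 := by decide +kernel

theorem B0_fpf (p : GolayPt) : (B0 : Equiv.Perm GolayPt) p ≠ p := by
  intro h
  have h1 := (act_spec w _ (enc_lt p)).1
  rw [dec_enc] at h1
  have h2 : SporadicStructure.M11InvPerms.enc ((wd w).1 p) = SporadicStructure.M11InvPerms.enc p :=
    congrArg _ h
  rw [h1] at h2
  exact chk_B0 ⟨_, enc_lt p⟩ h2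

/-- there is a Sylow 3-subgroup consisting of the 27 words and containing the words -/
theorem exists_syl' : ∃ Q : Sylow 3 Spor.M12, (∀ x ∈ Q, ∃ n : Fin 27, wd (el n.1) = x) ∧
    wd wa ∈ Q ∧ wd wb ∈ Q := by
  obtain ⟨Q, hQ⟩ := isP_ABC.exists_le_sylow
  refine ⟨Q, ?_, hQ ((le_sup_right : AC ≤ ABC) a_mem),
    hQ ((le_sup_left : zpowers (wd wb) ≤ ABC) (mem_zpowers _))⟩
  let f : Fin 27 → Q := fun n => ⟨wd (el n.1), hQ (el_mem n.1)⟩
  have hf : Function.Injective f := fun m n h => el_inj (congrArg Subtype.val h)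
  have hb : Function.Bijective f := by
    rw [Nat.bijective_iff_injective_and_card]
    refine ⟨hf, ?_⟩
    rw [Nat.card_eq_fintype_card, Fintype.card_fin]
    exact (card_syl Q).symm
  intro x hx
  obtain ⟨n, hn⟩ := hb.2 ⟨x, hx⟩
  exact ⟨n, congrArg Subtype.val hn⟩

theorem comm_act {n : ℕ} {l : List ℕ} (h : wd l * wd (el n) = wd (el n) * wd l) (x : Fin 24) :
    act (el n ++ l) x.1 = act (l ++ el n) x.1 := by
  rw [← (act_spec (el n ++ l) x.1 x.2).1, ← (act_spec (l ++ el n) x.1 x.2).1, wd_append, wd_append, h]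

theorem B0_order : orderOf B0 = 3 := by
  have : Fact (Nat.Prime 3) := ⟨by norm_num⟩
  apply orderOf_eq_prime
  · rw [B0, ← wd_wp]; exact wd_eq (l' := []) (by decide +kernel)
  · intro h
    exact B0_fpf none (by rw [h]; rfl)

/-- **The class 3B of `M₁₂`.** -/
theorem m12 : ∃ x : Spor.M12, orderOf x = 3 ∧ ¬ 27 ∣ Nat.card (Subgroup.centralizer {x}) := by
  refine ⟨B0, B0_order, fun h27 => ?_⟩
  have : Fact (Nat.Prime 3) := ⟨by norm_num⟩
  obtain ⟨R, hR⟩ := Sylow.exists_subgroup_card_pow_prime (G := centralizer ({B0} : Set Spor.M12)) 3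
    (n := 3) (by norm_num; exact h27)
  -- the image of `R` in `M12`
  set R' : Subgroup Spor.M12 := R.map (centralizer ({B0} : Set Spor.M12)).subtype with hR'
  have hcR : Nat.card R' = 27 := by
    rw [hR', card_map_of_injective (subtype_injective _), hR]; norm_num
  have hpR : IsPGroup 3 R' := IsPGroup.of_card (n := 3) (by rw [hcR]; norm_num)
  obtain ⟨S, hS⟩ := hpR.exists_le_sylow
  have hSR : R' = (S : Subgroup Spor.M12) := by
    apply eq_of_le_of_card_ge hS
    rw [card_syl S, hcR]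
  have hcomm : ∀ y ∈ R', y * B0 = B0 * y := by
    rintro _ ⟨y, -, rfl⟩
    exact mem_centralizer_singleton_iff.1 y.2
  -- `B0` lies in `S`
  have hB0S : B0 ∈ (S : Subgroup Spor.M12) := by
    have hn : S ≤ normalizer (zpowers B0 : Set Spor.M12) := by
      intro y hy
      rw [← hSR] at hy
      have h1 : Commute y B0 := hcomm y hy
      rw [mem_normalizer_iff]
      intro z
      constructor
      · intro hz
        obtain ⟨k, rfl⟩ := mem_zpowers_iff.1 hz
        have h2 : Commute y (B0 ^ k) := h1.zpow_right k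
        rw [h2.eq, mul_inv_cancel_right]
        exact zpow_mem (mem_zpowers _) k
      · intro hz
        obtain ⟨k, hk⟩ := mem_zpowers_iff.1 hz
        have h2 : Commute y (B0 ^ k) := h1.zpow_right k
        have h3 : z = y⁻¹ * (y * z * y⁻¹) * y := by group
        rw [h3, ← hk, mul_assoc, ← h2.eq, inv_mul_cancel_left]
        exact zpow_mem (mem_zpowers _) k
    have hp : IsPGroup 3 ((S : Subgroup Spor.M12) ⊔ zpowers B0 : Subgroup Spor.M12) := by
      apply IsPGroup.to_sup_of_normal_right' S.2 _ hn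
      exact isP_zpowers (by rw [← B0_order]; exact pow_orderOf_eq_one _)
    have h4 := S.3 hp le_sup_left
    rw [← h4]
    exact (le_sup_right : zpowers B0 ≤ (S : Subgroup Spor.M12) ⊔ zpowers B0) (mem_zpowers _)
  obtain ⟨Q, hQ, hQa, hQb⟩ := exists_syl'
  obtain ⟨c, hc⟩ := MulAction.exists_smul_eq Spor.M12 S Q
  have hmem : ∀ y ∈ (S : Subgroup Spor.M12), c * y * c⁻¹ ∈ Q := by
    intro y hy
    rw [← hc]
    exact smul_mem_pointwise_smul y (MulAut.conj c) _ hy
  have hmem' : ∀ y ∈ Q, c⁻¹ * y * c ∈ (S : Subgroup Spor.M12) := by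
    intro y hy
    rw [← hc] at hy
    have h5 : y ∈ MulAut.conj c • (S : Subgroup Spor.M12) := hy
    rw [mem_pointwise_smul_iff_inv_smul_mem] at h5
    have h6 : (MulAut.conj c)⁻¹ • y = c⁻¹ * y * c := by
      rw [← map_inv, MulAut.smul_def, MulAut.conj_apply, inv_inv]
    rwa [h6] at h5
  obtain ⟨n, hn⟩ := hQ _ (hmem _ hB0S)
  have hcen : ∀ y ∈ Q, y * wd (el n.1) = wd (el n.1) * y := by
    intro y hy
    have h7 := hcomm (c⁻¹ * y * c) (by rw [hSR]; exact hmem' y hy)
    rw [hn]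
    calc y * (c * B0 * c⁻¹) = c * ((c⁻¹ * y * c) * B0) * c⁻¹ := by group
      _ = c * B0 * c⁻¹ * y := by rw [h7]; group
  obtain ⟨x, hx⟩ := chk_center n (comm_act (hcen _ hQa)) (comm_act (hcen _ hQb))
  have h8 := (act_spec (el n.1) x.1 x.2).1
  rw [hx, hn] at h8
  set p : GolayPt := SporadicStructure.M11InvPerms.dec x.1 with hp
  have h9 : ((c * B0 * c⁻¹ : Spor.M12) : Equiv.Perm GolayPt) p = p := by
    have h10 := congrArg SporadicStructure.M11InvPerms.dec h8
    rwa [dec_enc] at h10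
  apply B0_fpf ((c⁻¹ : Spor.M12).1 p)
  have h11 : (c : Equiv.Perm GolayPt) ((B0 : Equiv.Perm GolayPt) ((c⁻¹ : Spor.M12).1 p)) = p := h9
  have h12 : ((c⁻¹ * c : Spor.M12) : Equiv.Perm GolayPt) ((B0 : Equiv.Perm GolayPt) ((c⁻¹ : Spor.M12).1 p)) =
      (c⁻¹ : Spor.M12).1 p := congrArg ((c⁻¹ : Spor.M12).1) h11
  rw [inv_mul_cancel] at h12
  exact h12

end Cfsg.Agent.H805.CThree12
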