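import Mathlib

/-!
# Elements of order three without fixed points

If a finite group `G` with nonabelian Sylow 3-subgroups of order 27 acts on a finite set of order prime to 9 (more
precisely not divisible by 9), an element without fixed points has a centralizer of order not divisible by 27.
-/

set_option autoImplicit false

namespace Cfsg.Agent.H805.FpfCent

open Subgroup
open scoped Pointwise

/-- a group of order 27 acting on a set of order not divisible by 9 with a central element without fixed points is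
commutative -/
theorem comm_of_fpf {R X : Type*} [Group R] [Finite R] [MulAction R X] [Finite X]
    (hR : Nat.card R = 27) (hX : ¬ 9 ∣ Nat.card X) (x : R) (hxc : ∀ r : R, r * x = x * r)
    (hfpf : ∀ p : X, x • p ≠ p) : ∀ r s : R, r * s = s * r := by
  classical
  have : Fact (Nat.Prime 3) := ⟨by norm_num⟩
  -- a point with stabilizer of order divisible by 9
  obtain ⟨p, hp⟩ : ∃ p : X, 9 ∣ Nat.card (MulAction.stabilizer R p) := by
    by_contra hcon
    push Not at hcon
    apply hX
    have : Fintype X := Fintype.ofFinite X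
    have : Fintype R := Fintype.ofFinite R
    have h1 := Nat.card_congr (MulAction.selfEquivSigmaOrbits R X)
    rw [h1]
    have : Fintype (Quotient (MulAction.orbitRel R X)) := Fintype.ofFinite _
    rw [Nat.card_sigma]
    apply Finset.dvd_sum
    intro ω _
    have h2 : Nat.card (MulAction.orbit R ω.out) * Nat.card (MulAction.stabilizer R ω.out) = 27 := by
      rw [← hR, ← Nat.card_prod]
      exact Nat.card_congr (MulAction.orbitProdStabilizerEquivGroup R ω.out)
    have h3 := hcon ω.out
    have h4 : Nat.card (MulAction.stabilizer R ω.out) ∣ 27 := Dvd.intro_left _ h2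
    have h5 : Nat.card (MulAction.stabilizer R ω.out) = 1 ∨ Nat.card (MulAction.stabilizer R ω.out) = 3 := by
      have h6 : (27 : ℕ) = 3 ^ 3 := by norm_num
      rw [h6, Nat.dvd_prime_pow (by norm_num)] at h4
      obtain ⟨k, hk, h7⟩ := h4
      interval_cases k
      · left; rw [h7]; norm_num
      · right; rw [h7]; norm_num
      · exfalso; apply h3; rw [h7]
        norm_num
      · exfalso; apply h3; rw [h7]; norm_num
    have h8 : Nat.card (MulAction.orbit R ω.out) = 27 ∨ Nat.card (MulAction.orbit R ω.out) = 9 := by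
      rcases h5 with h5 | h5
      · left; rw [h5] at h2; omega
      · right; rw [h5] at h2; omega
    rcases h8 with h | h <;> rw [h] <;> norm_num
  set K := MulAction.stabilizer R p with hK
  have hxK : x ∉ K := fun h => hfpf p h
  have hKdvd : Nat.card K ∣ 27 := hR ▸ Subgroup.card_subgroup_dvd_card K
  have hKne : Nat.card K ≠ 27 := by
    intro h
    apply hxK
    have : K = ⊤ := Subgroup.eq_top_of_card_eq K (by rw [h, hR])
    rw [this]; trivial
  have hK9 : Nat.card K = 9 := by
    obtain ⟨m, hm⟩ := hp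
    rw [hm] at hKdvd hKne ⊢
    have h1 : m ∣ 3 := by
      have : 9 * m ∣ 9 * 3 := by simpa using hKdvd
      exact Nat.dvd_of_mul_dvd_mul_left (by norm_num) this
    have h2 := Nat.le_of_dvd (by norm_num) h1
    interval_cases m <;> omega
  have hKcomm : ∀ a ∈ K, ∀ b ∈ K, a * b = b * a := by
    have h1 := IsPGroup.isMulCommutative_of_card_eq_prime_sq (p := 3) (G := K) (by rw [hK9]; norm_num)
    intro a ha b hb
    exact congrArg Subtype.val (h1.is_comm.comm (⟨a, ha⟩ : K) ⟨b, hb⟩)
  have htop : K ⊔ zpowers x = ⊤ := by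
    apply Subgroup.eq_top_of_card_eq
    have h1 : Nat.card K ∣ Nat.card (K ⊔ zpowers x : Subgroup R) := card_dvd_of_le le_sup_left
    have h2 : Nat.card (K ⊔ zpowers x : Subgroup R) ∣ 27 := hR ▸ Subgroup.card_subgroup_dvd_card _
    have h3 : Nat.card (K ⊔ zpowers x : Subgroup R) ≠ 9 := by
      intro h
      apply hxK
      have h4 : K = K ⊔ zpowers x := Subgroup.eq_of_le_of_card_ge le_sup_left (by rw [h, hK9])
      rw [h4]
      exact (le_sup_right : zpowers x ≤ K ⊔ zpowers x) (mem_zpowers x)
    rw [hR]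
    rw [hK9] at h1
    obtain ⟨m, hm⟩ := h1
    rw [hm] at h2 h3 ⊢
    have h5 : m ∣ 3 := by
      have : 9 * m ∣ 9 * 3 := by simpa using h2
      exact Nat.dvd_of_mul_dvd_mul_left (by norm_num) this
    have h6 := Nat.le_of_dvd (by norm_num) h5
    interval_cases m <;> omega
  have hKcen : K ≤ center R := by
    intro a ha
    have h1 : K ⊔ zpowers x ≤ centralizer ({a} : Set R) := by
      refine sup_le ?_ ?_
      · intro b hb
        rw [mem_centralizer_singleton_iff]
        exact hKcomm b hb a ha
      · rw [zpowers_le, mem_centralizer_singleton_iff]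
        exact (hxc a).symm
    rw [htop] at h1
    rw [mem_center_iff]
    intro g
    exact mem_centralizer_singleton_iff.1 (h1 (mem_top g))
  have hcen : center R = ⊤ := by
    rw [eq_top_iff, ← htop]
    refine sup_le hKcen ?_
    rw [zpowers_le, mem_center_iff]
    exact hxc
  intro r s
  have h1 : s ∈ center R := by rw [hcen]; trivial
  exact mem_center_iff.1 h1 r

/-- the main criterion -/
theorem not_dvd {G X : Type*} [Group G] [Finite G] [MulAction G X] [Finite X]
    {m : ℕ} (hG : Nat.card G = 27 * m) (hm : ¬ 3 ∣ m) (hX : ¬ 9 ∣ Nat.card X) {x : G}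
    (hfpf : ∀ p : X, x • p ≠ p) (hx3 : x ^ 3 = 1) {P : Subgroup G} (hP : IsPGroup 3 P) {A B : G}
    (hA : A ∈ P) (hB : B ∈ P) (hAB : A * B ≠ B * A) :
    ¬ 27 ∣ Nat.card (centralizer ({x} : Set G)) := by
  classical
  intro h27
  have : Fact (Nat.Prime 3) := ⟨by norm_num⟩
  have hsyl : ∀ S : Sylow 3 G, Nat.card S = 27 := by
    intro S
    rw [S.card_eq_multiplicity, hG]
    have h3 : (27 : ℕ) = 3 ^ 3 := by norm_num
    have hm0 : m ≠ 0 := by rintro rfl; exact hm (dvd_zero _)
    rw [h3, Nat.factorization_mul (by norm_num) hm0, Finsupp.add_apply,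
      Nat.Prime.factorization_pow Nat.prime_three, Finsupp.single_eq_same,
      Nat.factorization_eq_zero_of_not_dvd hm]
  obtain ⟨R, hR⟩ := Sylow.exists_subgroup_card_pow_prime (G := centralizer ({x} : Set G)) 3
    (n := 3) (by norm_num; exact h27)
  set R' : Subgroup G := R.map (centralizer ({x} : Set G)).subtype with hR'
  have hcR : Nat.card R' = 27 := by
    rw [hR', card_map_of_injective (subtype_injective _), hR]; norm_num
  have hpR : IsPGroup 3 R' := IsPGroup.of_card (n := 3) (by rw [hcR]; norm_num)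
  obtain ⟨S, hS⟩ := hpR.exists_le_sylow
  have hSR : R' = (S : Subgroup G) := by
    apply eq_of_le_of_card_ge hS
    rw [hsyl S, hcR]
  have hcomm : ∀ y ∈ R', y * x = x * y := by
    rintro _ ⟨y, -, rfl⟩
    exact mem_centralizer_singleton_iff.1 y.2
  have hxS : x ∈ (S : Subgroup G) := by
    have hn : S ≤ normalizer (zpowers x : Set G) := by
      intro y hy
      rw [← hSR] at hy
      have h1 : Commute y x := hcomm y hy
      rw [mem_normalizer_iff]
      intro z
      constructor
      · intro hz
        obtain ⟨k, rfl⟩ := mem_zpowers_iff.1 hz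
        have h2 : Commute y (x ^ k) := h1.zpow_right k
        rw [h2.eq, mul_inv_cancel_right]
        exact zpow_mem (mem_zpowers _) k
      · intro hz
        obtain ⟨k, hk⟩ := mem_zpowers_iff.1 hz
        have h2 : Commute y (x ^ k) := h1.zpow_right k
        have h3 : z = y⁻¹ * (y * z * y⁻¹) * y := by group
        rw [h3, ← hk, mul_assoc, ← h2.eq, inv_mul_cancel_left]
        exact zpow_mem (mem_zpowers _) k
    have hp : IsPGroup 3 ((S : Subgroup G) ⊔ zpowers x : Subgroup G) := by
      apply IsPGroup.to_sup_of_normal_right' S.2 _ hn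
      apply IsPGroup.of_card (n := if x = 1 then 0 else 1)
      split_ifs with h
      · rw [h, Nat.card_zpowers, orderOf_one, pow_zero]
      · rw [Nat.card_zpowers, orderOf_eq_prime hx3 h, pow_one]
    have h4 := S.3 hp le_sup_left
    rw [← h4]
    exact (le_sup_right : zpowers x ≤ (S : Subgroup G) ⊔ zpowers x) (mem_zpowers _)
  -- `S` is commutative
  have hSc : ∀ r s : S, r * s = s * r := by
    refine comm_of_fpf (X := X) (hsyl S) hX ⟨x, hxS⟩ ?_ hfpf
    intro r
    apply Subtype.ext
    refine hcomm r.1 ?_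
    rw [hSR]
    exact r.2
  obtain ⟨T, hT⟩ := hP.exists_le_sylow
  obtain ⟨c, hc⟩ := MulAction.exists_smul_eq G S T
  have hmem' : ∀ y ∈ T, c⁻¹ * y * c ∈ (S : Subgroup G) := by
    intro y hy
    rw [← hc] at hy
    have h5 : y ∈ MulAut.conj c • (S : Subgroup G) := hy
    rw [mem_pointwise_smul_iff_inv_smul_mem] at h5
    have h6 : (MulAut.conj c)⁻¹ • y = c⁻¹ * y * c := by
      rw [← map_inv, MulAut.smul_def, MulAut.conj_apply, inv_inv]
    rwa [h6] at h5
  have h7 := congrArg Subtype.val (hSc ⟨_, hmem' A (hT hA)⟩ ⟨_, hmem' B (hT hB)⟩)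
  change c⁻¹ * A * c * (c⁻¹ * B * c) = c⁻¹ * B * c * (c⁻¹ * A * c) at h7
  apply hAB
  calc A * B = c * (c⁻¹ * A * c * (c⁻¹ * B * c)) * c⁻¹ := by group
    _ = c * (c⁻¹ * B * c * (c⁻¹ * A * c)) * c⁻¹ := by rw [h7]
    _ = B * A := by group

/-- two elements of order three generating an extraspecial group lie in a common 3-subgroup -/
theorem exists_pgroup {G : Type*} [Group G] {a b c : G} (ha : a ^ 3 = 1) (hb : b ^ 3 = 1) (hc : c ^ 3 = 1)
    (hac : a * c = c * a) (hbc : b * c = c * b) (hab : a * b = b * a * c) :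
    ∃ P : Subgroup G, IsPGroup 3 P ∧ a ∈ P ∧ b ∈ P := by
  have isP_zpowers : ∀ {x : G}, x ^ 3 = 1 → IsPGroup 3 (zpowers x) := by
    intro x h y
    obtain ⟨k, hk⟩ := mem_zpowers_iff.1 y.2
    refine ⟨1, Subtype.ext ?_⟩
    show (y : G) ^ (3 ^ 1) = 1
    rw [← hk, pow_one, ← zpow_natCast, ← zpow_mul, mul_comm, zpow_mul, zpow_natCast, h, one_zpow]
  set C : Subgroup G := zpowers b ⊔ zpowers c with hC
  have hbC : b ∈ C := (le_sup_left : zpowers b ≤ C) (mem_zpowers _)
  have hcC : c ∈ C := (le_sup_right : zpowers c ≤ C) (mem_zpowers _)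
  have hCp : IsPGroup 3 C := by
    apply IsPGroup.to_sup_of_normal_right' (isP_zpowers hb) (isP_zpowers hc)
    rw [zpowers_le, mem_normalizer_iff]
    intro x
    constructor
    · intro hx
      obtain ⟨k, rfl⟩ := mem_zpowers_iff.1 hx
      have h1 : Commute b (c ^ k) := Commute.zpow_right hbc k
      rw [h1.eq, mul_inv_cancel_right]
      exact zpow_mem (mem_zpowers _) k
    · intro hx
      obtain ⟨k, hk⟩ := mem_zpowers_iff.1 hx
      have h1 : Commute b (c ^ k) := Commute.zpow_right hbc k
      have h3 : x = b⁻¹ * (b * x * b⁻¹) * b := by group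
      rw [h3, ← hk, mul_assoc, ← h1.eq, inv_mul_cancel_left]
      exact zpow_mem (mem_zpowers _) k
  have conj_mem : ∀ {x : G}, x ∈ C → a * x * a⁻¹ ∈ C := by
    intro x hx
    have h : C ≤ C.comap (MulAut.conj a).toMonoidHom := by
      refine sup_le ?_ ?_
      · rw [zpowers_le]
        show a * b * a⁻¹ ∈ C
        have h1 : a * b * a⁻¹ = b * c := by
          rw [hab, mul_assoc b a c, hac, ← mul_assoc, mul_inv_cancel_right]
        rw [h1]
        exact mul_mem hbC hcC
      · rw [zpowers_le]
        show a * c * a⁻¹ ∈ C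
        rw [hac, mul_inv_cancel_right]
        exact hcC
    exact h hx
  have hn : a ∈ normalizer (C : Set G) := by
    rw [mem_normalizer_iff]
    intro x
    refine ⟨conj_mem, fun hx => ?_⟩
    have h1 := conj_mem (conj_mem hx)
    have h2 : a * (a * (a * x * a⁻¹) * a⁻¹) * a⁻¹ = a ^ 3 * x * (a ^ 3)⁻¹ := by
      rw [pow_succ, pow_two]; group
    rw [h2, ha, one_mul, inv_one, mul_one] at h1
    exact h1
  refine ⟨zpowers a ⊔ C, ?_, (le_sup_left : zpowers a ≤ _) (mem_zpowers _), (le_sup_right : C ≤ _) hbC⟩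
  apply IsPGroup.to_sup_of_normal_right' (isP_zpowers ha) hCp
  rw [zpowers_le]
  exact hn

end Cfsg.Agent.H805.FpfCent
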