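import Cfsg.Agent.KFacts.He.TwoACent
import Cfsg.Agent.H805.FpfCent

/-!
# Elements of order three in the Held group

* `he` : an element of order 3 whose centralizer has order prime to 27, and an elementary abelian group of order 9 with
  conjugate nonidentity elements centralised by the involution `a`.
-/

set_option autoImplicit false
set_option maxRecDepth 100000

namespace Cfsg.Agent.H805.HeThree

open Subgroup
open Cfsg.Spor Cfsg.Spor.He Cfsg.Agent.SporadicB.HePerm Cfsg.Agent.FixBN.HeStab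
open Cfsg.Agent.KFacts.He.Lv Cfsg.Agent.KFacts.He.TwoACent

/-! ### The element of class 3B -/

/-- the word of the element of class 3B -/
def wA : List Gen := [.c, .b, .d, .e, .g, .d, .c, .d, .f, .g, .d, .f, .c, .d, .e, .c, .d, .f, .d, .c, .b, .d, .c, .e, .d, .c, .d, .b, .c, .d, .c, .d, .b, .c, .d, .c]
/-- the word of an element of order 3 not commuting with it -/
def wB : List Gen := [.c, .b, .f, .d, .c, .e, .d, .c, .d, .g, .d, .e, .c, .d, .c, .d, .f, .b, .c]
/-- the word of their commutator -/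
def wC : List Gen := [.d, .e]

theorem A3 : (wd wA) ^ 3 = 1 := by
  have h := eq_of_chkB (v := wA ++ (wA ++ wA)) (w := []) (by decide +kernel)
  rw [wd_append, wd_append, wd_nil] at h
  rw [pow_three]; exact h

theorem B3 : (wd wB) ^ 3 = 1 := by
  have h := eq_of_chkB (v := wB ++ (wB ++ wB)) (w := []) (by decide +kernel)
  rw [wd_append, wd_append, wd_nil] at h
  rw [pow_three]; exact h

theorem C3 : (wd wC) ^ 3 = 1 := by
  have h := eq_of_chkB (v := wC ++ (wC ++ wC)) (w := []) (by decide +kernel)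
  rw [wd_append, wd_append, wd_nil] at h
  rw [pow_three]; exact h

theorem AC : wd wA * wd wC = wd wC * wd wA := by
  have h := eq_of_chkB (v := wA ++ wC) (w := wC ++ wA) (by decide +kernel)
  rwa [wd_append, wd_append] at h

theorem BC : wd wB * wd wC = wd wC * wd wB := by
  have h := eq_of_chkB (v := wB ++ wC) (w := wC ++ wB) (by decide +kernel)
  rwa [wd_append, wd_append] at h

theorem AB : wd wA * wd wB = wd wB * wd wA * wd wC := by
  have h := eq_of_chkB (v := wA ++ wB) (w := wB ++ wA ++ wC) (by decide +kernel)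
  rwa [wd_append, wd_append, wd_append] at h

theorem C_ne : wd wC ≠ 1 := by
  intro h
  have h1 := phi_wd_apply wC 32
  rw [h, map_one] at h1
  exact absurd h1 (by decide +kernel)

theorem fpf_chk : allBelow 2058 (fun i => !(Nat.beq (act wA i) i)) = true := by decide +kernel

theorem fpf (i : Fin 2058) : phi (wd wA) i ≠ i := by
  intro h
  have h1 := phi_wd_apply wA i
  rw [h] at h1
  have h2 := of_allBelow fpf_chk i.1 i.2
  rw [← h1] at h2
  simp at h2

theorem A_ne : wd wA ≠ 1 := by
  intro h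
  apply fpf 0
  rw [h, map_one]; rfl

theorem finite_he : Finite Cfsg.Spor.He := Nat.finite_of_card_ne_zero (by rw [card_he]; norm_num)

theorem not_dvd_A : ¬ 27 ∣ Nat.card (centralizer ({wd wA} : Set Cfsg.Spor.He)) := by
  have := finite_he
  let act : MulAction Cfsg.Spor.He (Fin 2058) := MulAction.compHom _ phi
  obtain ⟨P, hP, hA, hB⟩ := FpfCent.exists_pgroup A3 B3 C3 AC BC AB
  refine FpfCent.not_dvd (X := Fin 2058) (m := 149273600) (by rw [card_he]) (by norm_num) (by simp) fpf A3 hP hA hB ?_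
  intro h
  apply C_ne
  have h1 := AB
  rw [h] at h1
  exact (mul_eq_left.1 h1.symm)

/-! ### The group of order nine -/

/-- powers of words -/
def wp (l : List Gen) : ℕ → List Gen
  | 0 => []
  | n + 1 => l ++ wp l n

theorem wd_wp (l : List Gen) (n : ℕ) : wd (wp l n) = wd l ^ n := by
  induction n with
  | zero => rw [wp, pow_zero, wd_nil]
  | succ n ih => rw [wp, wd_append, ih, pow_succ']

theorem wd_reverse (w : List Gen) : wd w.reverse = (wd w)⁻¹ := by
  induction w with
  | nil => rw [List.reverse_nil, wd_nil, inv_one]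
  | cons x w ih => rw [List.reverse_cons, wd_append, wd_one, ih, wd_cons, mul_inv_rev, gn_inv]

/-- the words of the two generators -/
def wx : List Gen := [.d, .e]
def wy : List Gen := [.c, .f, .g, .d, .c, .f, .g]

/-- the nine elements -/
def el (n : ℕ) : List Gen := wp wx (n / 3) ++ wp wy (n % 3)

/-- conjugating words -/
def cw : List (List Gen) :=
  [[],
   [.f, .g, .c],
   [.g, .f, .c],
   [],
   [.g, .d, .f, .g, .d, .c, .d, .f, .g, .d, .c, .d, .g],
   [.f, .d, .g, .f, .d, .c, .d, .g, .f, .d, .c, .d, .f],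
   [.d],
   [.f, .d, .e, .c, .d, .c, .d, .g, .f, .d, .c, .d, .c],
   [.g, .d, .e, .c, .d, .c, .d, .f, .g, .d, .c, .d, .c]]

theorem chk_inj : ∀ m n : Fin 9, chkB (el m.1) (el n.1) = true → m = n := by decide +kernel

theorem chk_conj : ∀ n : Fin 9, n.1 = 0 ∨ chkB (cw.getD n.1 [] ++ (wx ++ (cw.getD n.1 []).reverse)) (el n.1) = true := by
  decide +kernel

theorem chkB_of_eq {v w : List Gen} (h : wd v = wd w) : chkB v w = true := by
  have h1 : ∀ i : Fin 2058, act v i = act w i := fun i => by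
    rw [← phi_wd_apply, ← phi_wd_apply, h]
  unfold chkB
  rw [Bool.and_eq_true, Bool.and_eq_true, Bool.and_eq_true]
  have e0 : act v 0 = act w 0 := h1 0
  have e1 : act v 1 = act w 1 := h1 1
  have e2 : act v 32 = act w 32 := h1 32
  have e3 : act v 8 = act w 8 := h1 8
  rw [e0, e1, e2, e3]
  exact ⟨⟨Nat.beq_refl _, Nat.beq_refl _⟩, Nat.beq_refl _, Nat.beq_refl _⟩

theorem xy : Commute (wd wx) (wd wy) := by
  have h := eq_of_chkB (v := wx ++ wy) (w := wy ++ wx) (by decide +kernel)
  rwa [wd_append, wd_append] at h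

theorem x3 : (wd wx) ^ 3 = 1 := C3

theorem y3 : (wd wy) ^ 3 = 1 := by
  have h := eq_of_chkB (v := wy ++ (wy ++ wy)) (w := []) (by decide +kernel)
  rw [wd_append, wd_append, wd_nil] at h
  rw [pow_three]; exact h

/-- the group of order nine -/
def E : Subgroup Cfsg.Spor.He where
  carrier := {g | ∃ i j : ℕ, g = wd wx ^ i * wd wy ^ j}
  one_mem' := ⟨0, 0, by simp⟩
  mul_mem' := by
    rintro _ _ ⟨i, j, rfl⟩ ⟨k, l, rfl⟩
    refine ⟨i + k, j + l, ?_⟩
    have h := (xy.pow_pow k j).eq
    rw [pow_add, pow_add, mul_assoc, ← mul_assoc (wd wy ^ j), ← h]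
    simp only [mul_assoc]
  inv_mem' := by
    rintro _ ⟨i, j, rfl⟩
    refine ⟨2 * i, 2 * j, ?_⟩
    rw [inv_eq_iff_mul_eq_one]
    have h := (xy.pow_pow (2 * i) j).eq
    rw [mul_assoc, ← mul_assoc (wd wy ^ j), ← h]
    calc wd wx ^ i * (wd wx ^ (2 * i) * wd wy ^ j * wd wy ^ (2 * j))
        = (wd wx ^ i * wd wx ^ (2 * i)) * (wd wy ^ j * wd wy ^ (2 * j)) := by simp only [mul_assoc]
      _ = 1 := by
        rw [← pow_add, ← pow_add, show i + 2 * i = 3 * i by ring, show j + 2 * j = 3 * j by ring, pow_mul, pow_mul,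
          x3, y3, one_pow, one_pow, one_mul]

theorem wd_el (n : ℕ) : wd (el n) = wd wx ^ (n / 3) * wd wy ^ (n % 3) := by
  rw [el, wd_append, wd_wp, wd_wp]

theorem exists_el {g : Cfsg.Spor.He} (hg : g ∈ E) : ∃ n : Fin 9, wd (el n.1) = g := by
  obtain ⟨i, j, rfl⟩ := hg
  have h1 : wd wx ^ i = wd wx ^ (i % 3) := pow_eq_pow_mod i x3
  have h2 : wd wy ^ j = wd wy ^ (j % 3) := pow_eq_pow_mod j y3
  refine ⟨⟨3 * (i % 3) + j % 3, by omega⟩, ?_⟩
  rw [wd_el, h1, h2]
  congr 2 <;> simp only <;> omega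

theorem card_E : Nat.card E = 9 := by
  let f : Fin 9 → E := fun n => ⟨wd (el n.1), n.1 / 3, n.1 % 3, wd_el n.1⟩
  have hf : Function.Bijective f := by
    constructor
    · intro m n h
      exact chk_inj m n (chkB_of_eq (congrArg Subtype.val h))
    · rintro ⟨g, hg⟩
      obtain ⟨n, hn⟩ := exists_el hg
      exact ⟨n, Subtype.ext hn⟩
  rw [← Nat.card_eq_of_bijective f hf]
  simp

theorem conj_x {g : Cfsg.Spor.He} (hg : g ∈ E) (h1 : g ≠ 1) : IsConj (wd wx) g := by
  obtain ⟨n, rfl⟩ := exists_el hg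
  rcases chk_conj n with h | h
  · exfalso
    apply h1
    have h2 : n = 0 := Fin.ext h
    rw [h2]
    exact eq_of_chkB (w := []) (by decide +kernel)
  · have h2 := eq_of_chkB h
    rw [wd_append, wd_append, wd_reverse] at h2
    rw [isConj_iff]
    exact ⟨wd (cw.getD n.1 []), by rw [mul_assoc]; exact h2⟩

theorem a_comm_x : wd wx * gn .a = gn .a * wd wx := by
  have h := eq_of_chkB (v := wx ++ [.a]) (w := .a :: wx) (by decide +kernel)
  rwa [wd_append, wd_one, wd_cons] at h

theorem a_comm_y : wd wy * gn .a = gn .a * wd wy := by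
  have h := eq_of_chkB (v := wy ++ [.a]) (w := .a :: wy) (by decide +kernel)
  rwa [wd_append, wd_one, wd_cons] at h

theorem a_ne : gn .a ≠ 1 := by
  intro h
  have h1 := phi_wd_apply [.a] 8
  rw [wd_one, h, map_one] at h1
  exact absurd h1 (by decide +kernel)

/-- **The facts on the elements of order three of the Held group.** -/
theorem he : (∃ x : Spor.He, orderOf x = 3 ∧ ¬ 27 ∣ Nat.card (Subgroup.centralizer {x})) ∧
    ∃ (E : Subgroup Spor.He) (t : Spor.He), Nat.card E = 9 ∧ t ≠ 1 ∧ ¬ 3 ∣ orderOf t ∧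
      t ∈ Subgroup.centralizer (E : Set Spor.He) ∧ ∀ x ∈ E, ∀ y ∈ E, x ≠ 1 → y ≠ 1 → IsConj x y := by
  have : Fact (Nat.Prime 3) := ⟨by norm_num⟩
  have : Fact (Nat.Prime 2) := ⟨by norm_num⟩
  refine ⟨⟨wd wA, orderOf_eq_prime A3 A_ne, not_dvd_A⟩, E, gn .a, card_E, a_ne, ?_, ?_, ?_⟩
  · rw [orderOf_eq_prime (p := 2) (by rw [pow_two]; exact gn_mul_self .a) a_ne]
    norm_num
  · rw [mem_centralizer_iff]
    rintro _ ⟨i, j, rfl⟩
    have h1 : Commute (wd wx ^ i) (gn .a) := Commute.pow_left a_comm_x i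
    have h2 : Commute (wd wy ^ j) (gn .a) := Commute.pow_left a_comm_y j
    exact (h1.mul_left h2).eq
  · intro x hx y hy hx1 hy1
    exact (conj_x hx hx1).symm.trans (conj_x hy hy1)

end Cfsg.Agent.H805.HeThree
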