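import Cfsg.Agent.KFacts.MulSpor.NoDbl
import Cfsg.Agent.J4.Invol
import Cfsg.Agent.J4.Classes
import Cfsg.Agent.J4Type.ClosingJ4
import Cfsg.Agent.SporadicA.M24Trans

/-!
# `J₄` has an involution whose centralizer has order divisible by 27
-/

set_option autoImplicit false

namespace Cfsg.Agent.H805.J4Cent

open Subgroup Cfsg
open Cfsg.Agent.J4.Invol (EJ)

/-- A `3`-group `P` normalising the elementary abelian `2`-group `E` of order `2048` centralises a nonidentity
element of `E`. -/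
theorem exists_fix {G : Type*} [Group G] [Finite G] (E P : Subgroup G) (hP : IsPGroup 3 P)
    (hE : Nat.card E = 2 ^ 11) (hn : P ≤ normalizer (E : Set G)) :
    ∃ t ∈ E, t ≠ 1 ∧ ∀ p ∈ P, p * t = t * p := by
  have : Fact (Nat.Prime 3) := ⟨by norm_num⟩
  let act : MulAction P E :=
    { smul := fun p e => ⟨p.1 * e.1 * p.1⁻¹, (mem_normalizer_iff.1 (hn p.2) e.1).1 e.2⟩
      one_smul := fun e => Subtype.ext (by
        change (1 : G) * e.1 * (1 : G)⁻¹ = e.1
        group)
      mul_smul := fun p q e => Subtype.ext (by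
        change (p.1 * q.1) * e.1 * (p.1 * q.1)⁻¹ = p.1 * (q.1 * e.1 * q.1⁻¹) * p.1⁻¹
        group) }
  have hsm : ∀ (p : P) (e : E), ((p • e : E) : G) = p.1 * e.1 * p.1⁻¹ := fun p e => rfl
  have h1 := hP.card_modEq_card_fixedPoints E
  rw [hE] at h1
  by_contra hcon
  push Not at hcon
  let e0 : MulAction.fixedPoints P E := ⟨1, fun p => Subtype.ext (by
      rw [hsm]; change p.1 * 1 * p.1⁻¹ = 1; group)⟩
  have h2 : ∀ e : MulAction.fixedPoints P E, e = e0 := by
    intro e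
    apply Subtype.ext
    by_contra hne
    have hne' : (e.1 : G) ≠ 1 := fun h => hne (Subtype.ext h)
    obtain ⟨p, hp, hpe⟩ := hcon e.1 e.1.2 hne'
    apply hpe
    have h3 := congrArg Subtype.val (e.2 ⟨p, hp⟩)
    rw [hsm] at h3
    calc p * (e.1 : G) = (p * (e.1 : G) * p⁻¹) * p := by group
      _ = (e.1 : G) * p := by
        have h4 : p * (e.1 : G) * p⁻¹ = (e.1 : G) := h3
        rw [h4]
  have h5 : Nat.card (MulAction.fixedPoints P E) = 1 := by
    rw [Nat.card_eq_one_iff_unique]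
    exact ⟨⟨fun a b => (h2 a).trans (h2 b).symm⟩, ⟨e0⟩⟩
  rw [h5] at h1
  exact absurd h1 (by decide)

theorem j4 : ∃ t : Spor.J4, t ≠ 1 ∧ ¬ 3 ∣ orderOf t ∧ 27 ∣ Nat.card (Subgroup.centralizer {t}) := by
  have : Fact (Nat.Prime 3) := ⟨by norm_num⟩
  have inj := Cfsg.Agent.J4.Final.rho_injective
  have : Finite Spor.J4 := Nat.finite_of_card_ne_zero (by
    rw [Cfsg.Agent.J4.Final.card_J4]; norm_num)
  have hφ : Function.Injective Cfsg.Agent.J4.Pres.phi := by
    intro a b h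
    apply Cfsg.Agent.J4.Classes.psi_injective
    show Cfsg.Agent.J4.Rep112.rho (Cfsg.Agent.J4.Pres.phi a) = Cfsg.Agent.J4.Rep112.rho (Cfsg.Agent.J4.Pres.phi b)
    rw [h]
  obtain ⟨R, hR⟩ := Sylow.exists_subgroup_card_pow_prime (G := M24) 3 (n := 3) (by
    rw [Cfsg.Agent.SporadicA.M24Trans.card_M24]; norm_num)
  set P : Subgroup Spor.J4 := R.map Cfsg.Agent.J4.Pres.phi with hP
  have hcP : Nat.card P = 3 ^ 3 := by
    rw [hP, card_map_of_injective hφ, hR]
  have hpP : IsPGroup 3 P := IsPGroup.of_card hcP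
  have hn : P ≤ normalizer (EJ : Set Spor.J4) := by
    rintro _ ⟨m, -, rfl⟩
    exact Cfsg.Agent.J4Type.ClosingJ4.phi_mem_normalizer m
  obtain ⟨t, htE, ht1, htP⟩ := exists_fix EJ P hpP (Cfsg.Agent.J4.Invol.card_EJ inj) hn
  have ht2 : t * t = 1 := Cfsg.Agent.J4.Invol.EJ_sq inj t htE
  have : Fact (Nat.Prime 2) := ⟨by norm_num⟩
  have ho : orderOf t = 2 := orderOf_eq_prime (by rw [pow_two]; exact ht2) ht1
  refine ⟨t, ht1, by rw [ho]; norm_num, ?_⟩
  have hle : P ≤ centralizer ({t} : Set Spor.J4) := by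
    intro p hp
    rw [mem_centralizer_singleton_iff]
    exact htP p hp
  have h6 := card_dvd_of_le hle
  rw [hcP] at h6
  exact h6

end Cfsg.Agent.H805.J4Cent
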