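import Cfsg.Agent.BpSpor.JFourThree
import Cfsg.Agent.SporadicStructure.M24IndexMain
import Cfsg.Agent.S0366
import Cfsg.Agent.SporadicA.M24Trans
import Cfsg.Agent.H399.Defs

/-!
# The configuration `3²:GL₂(3)` does not occur in `M₂₄`
-/

set_option autoImplicit false

namespace Cfsg.Agent.H805.M24Conf

open Subgroup Cfsg
open Cfsg.Agent.BpSpor.MathieuB (fx mem_fx octad_of_five fixed_le)
open Cfsg.Agent.SporadicA.GolayPerm (mem_smul_iff smul_mem_octads)
open scoped Pointwise

theorem card24 : Fintype.card GolayPt = 24 := by simp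

/-- the fixed points of `Q` cannot form a nonempty set of at most six points -/
theorem case_fixed {A Q : Subgroup M24} (hmax : IsCoatom A) (hA : Nat.card A = 432)
    (hn : normalizer (Q : Set M24) = A) (F : Finset GolayPt)
    (hF : ∀ p, p ∈ F ↔ ∀ x ∈ Q, x.1 p = p) (hne : F.Nonempty) (h6 : F.card ≤ 6) : False := by
  classical
  have hfin : Finite M24 := inferInstance
  have hle : A ≤ MulAction.stabilizer M24 F := by
    intro a ha
    rw [MulAction.mem_stabilizer_iff]
    apply Finset.eq_of_subset_of_card_le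
    · intro q hq
      obtain ⟨p, hp, rfl⟩ := Finset.mem_smul_finset.1 hq
      rw [hF] at hp ⊢
      intro x hx
      have h1 : a⁻¹ * x * a ∈ Q := by
        rw [← hn] at ha
        have h2 := (mem_normalizer_iff.1 (inv_mem ha) x).1 hx
        rwa [inv_inv] at h2
      have h3 := hp _ h1
      have h4 : (a * (a⁻¹ * x * a)).1 p = (a : M24).1 p := by
        change a.1 ((a⁻¹ * x * a).1 p) = a.1 p
        rw [h3]
      have h5 : a * (a⁻¹ * x * a) = x * a := by group
      rw [h5] at h4
      exact h4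
    · rw [Finset.card_smul_finset]
  have hne' : MulAction.stabilizer M24 F ≠ ⊤ := by
    intro htop
    obtain ⟨p, hp⟩ := hne
    obtain ⟨q, hq⟩ : ∃ q, q ∉ F := by
      by_contra hcon
      push Not at hcon
      have h1 : F = Finset.univ := Finset.eq_univ_iff_forall.2 hcon
      rw [h1, Finset.card_univ, card24] at h6
      omega
    obtain ⟨g, hg⟩ := Cfsg.Agent.SporadicStructure.M24IndexMain.exists_smul_eq_finset
      Cfsg.Agent.S0366.result (n := 1) (by norm_num) (s := {p}) (t := {q}) (by simp) (by simp)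
    have h2 : g • p = q := by
      rw [Finset.smul_finset_singleton, Finset.singleton_inj] at hg
      exact hg
    have h3 : g ∈ MulAction.stabilizer M24 F := by rw [htop]; trivial
    rw [MulAction.mem_stabilizer_iff] at h3
    apply hq
    rw [← h3, ← h2]
    exact Finset.smul_mem_smul_finset hp
  have heq : MulAction.stabilizer M24 F = A := by
    rcases hmax.le_iff.1 hle with h | h
    · exact absurd h hne'
    · exact h
  have h1 := Subgroup.card_mul_index A
  rw [hA, Cfsg.Agent.SporadicA.M24Trans.card_M24] at h1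
  have h2 : A.index = 566720 := by omega
  rw [← heq, MulAction.index_stabilizer] at h2
  have h3 : MulAction.orbit M24 F ⊆ ((Finset.powersetCard F.card Finset.univ : Finset (Finset GolayPt)) :
      Set (Finset GolayPt)) := by
    rintro _ ⟨g, rfl⟩
    rw [Finset.mem_coe, Finset.mem_powersetCard]
    exact ⟨Finset.subset_univ _, Finset.card_smul_finset _ _⟩
  have h4 := Set.ncard_le_ncard h3
  rw [Set.ncard_coe_finset, Finset.card_powersetCard, Finset.card_univ, card24, h2] at h4
  generalize F.card = f at *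
  interval_cases f <;> revert h4 <;> decide

/-- counting: if the nonidentity elements of `Q` have the same number of fixed points and `Q` has none, every
point is fixed by three elements and the nonidentity elements fix six points -/
theorem count {Q : Subgroup M24} (hcQ : Nat.card Q = 9) (hexp : ∀ x ∈ Q, x ^ 3 = 1) (c : ℕ)
    (hc : ∀ x ∈ Q, x ≠ 1 → (fx x.1).card = c) (hemp : ∀ p : GolayPt, ∃ x ∈ Q, x.1 p ≠ p) :
    c = 6 ∧ ∀ p : GolayPt, ∃ x ∈ Q, x ≠ 1 ∧ x.1 p = p := by
  classical
  have : Fintype Q := Fintype.ofFinite Q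
  have hcQ' : Fintype.card Q = 9 := by rw [← Nat.card_eq_fintype_card, hcQ]
  -- the sum of the numbers of fixed points
  have hsum : ∑ x : Q, (fx x.1.1).card = 24 + 8 * c := by
    rw [← Finset.add_sum_erase _ _ (Finset.mem_univ (1 : Q))]
    have h1 : (fx ((1 : Q) : M24).1).card = 24 := by
      have : fx ((1 : Q) : M24).1 = Finset.univ := by
        ext p
        simp [fx]
      rw [this, Finset.card_univ, card24]
    rw [h1, Finset.sum_congr rfl (g := fun _ => c), Finset.sum_const, Finset.card_erase_of_mem (Finset.mem_univ _),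
      Finset.card_univ, hcQ']
    · simp
    · intro x hx
      exact hc x.1 x.2 (fun h => (Finset.mem_erase.1 hx).1 (Subtype.ext h))
  -- Burnside
  have hb := MulAction.sum_card_fixedBy_eq_card_orbits_mul_card_group Q GolayPt
  have hb1 : ∑ x : Q, Fintype.card (MulAction.fixedBy GolayPt x) = ∑ x : Q, (fx x.1.1).card := by
    apply Finset.sum_congr rfl
    intro x _
    rw [← Fintype.card_coe]
    refine Fintype.card_congr ⟨fun p => ⟨p.1, mem_fx.2 p.2⟩, fun p => ⟨p.1, mem_fx.1 p.2⟩,
      fun _ => rfl, fun _ => rfl⟩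
  rw [hb1, hsum, hcQ'] at hb
  have hx0 : ∃ x ∈ Q, x ≠ 1 := by
    by_contra hcon
    push Not at hcon
    have : Q = ⊥ := (eq_bot_iff_forall _).2 hcon
    rw [this, Subgroup.card_bot] at hcQ
    omega
  obtain ⟨x, hx, hx1⟩ := hx0
  have hx3 : (x.1 : Equiv.Perm GolayPt) ^ 3 = 1 := congrArg Subtype.val (hexp x hx)
  have hx1' : (x.1 : Equiv.Perm GolayPt) ≠ 1 := fun h => hx1 (Subtype.ext h)
  have hle : c ≤ 6 := by
    rw [← hc x hx hx1]
    exact fixed_le x.2 hx3 hx1'
  have hmod := Cfsg.Agent.BpSpor.MathieuB.card_modEq hx3 Finset.univ (fun _ _ => Finset.mem_univ _)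
  rw [Finset.univ_inter, hc x hx hx1, Finset.card_univ, card24] at hmod
  have hc6 : c = 6 := by
    unfold Nat.ModEq at hmod
    omega
  refine ⟨hc6, ?_⟩
  -- the stabilizers
  have hst : ∀ p : GolayPt, (Finset.univ.filter fun x : Q => x.1.1 p = p).card ≤ 3 := by
    intro p
    have h1 : Nat.card (MulAction.stabilizer Q p) = (Finset.univ.filter fun x : Q => x.1.1 p = p).card := by
      rw [Nat.card_eq_fintype_card, ← Fintype.card_coe]
      refine Fintype.card_congr ⟨fun x => ⟨x.1, Finset.mem_filter.2 ⟨Finset.mem_univ _, x.2⟩⟩,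
        fun x => ⟨x.1, (Finset.mem_filter.1 x.2).2⟩, fun _ => rfl, fun _ => rfl⟩
    rw [← h1]
    have h2 : Nat.card (MulAction.stabilizer Q p) ∣ 9 := hcQ ▸ Subgroup.card_subgroup_dvd_card _
    have h3 : Nat.card (MulAction.stabilizer Q p) ≠ 9 := by
      intro h
      obtain ⟨y, hy, hyp⟩ := hemp p
      have h4 : MulAction.stabilizer Q p = ⊤ := by
        apply Subgroup.eq_top_of_card_eq
        rw [h, hcQ]
      apply hyp
      have h5 : (⟨y, hy⟩ : Q) ∈ MulAction.stabilizer Q p := by rw [h4]; trivial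
      exact h5
    have h6 := Nat.le_of_dvd (by norm_num) h2
    interval_cases h : Nat.card (MulAction.stabilizer Q p) <;> omega
  have hdc : ∑ p : GolayPt, (Finset.univ.filter fun x : Q => x.1.1 p = p).card = ∑ p : GolayPt, 3 := by
    have h1 : ∑ p : GolayPt, (Finset.univ.filter fun x : Q => x.1.1 p = p).card = ∑ x : Q, (fx x.1.1).card := by
      simp only [Finset.card_filter, fx]
      exact Finset.sum_comm
    rw [h1, hsum, hc6, Finset.sum_const, Finset.card_univ, card24]
    rfl
  have heq := (Finset.sum_eq_sum_iff_of_le (fun p _ => hst p)).1 hdc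
  intro p
  have h1 := heq p (Finset.mem_univ p)
  obtain ⟨y, hy, hy1⟩ : ∃ y ∈ (Finset.univ.filter fun x : Q => x.1.1 p = p), y ≠ 1 :=
    Finset.exists_mem_ne (by rw [h1]; norm_num) 1
  exact ⟨y.1, y.2, fun h => hy1 (Subtype.ext h), (Finset.mem_filter.1 hy).2⟩

/-- `Q` has a fixed point -/
theorem case_empty {Q : Subgroup M24} (hcQ : Nat.card Q = 9) (hcomm : ∀ x ∈ Q, ∀ y ∈ Q, x * y = y * x)
    (hexp : ∀ x ∈ Q, x ^ 3 = 1) (c : ℕ)
    (hc : ∀ x ∈ Q, x ≠ 1 → (fx x.1).card = c) (hemp : ∀ p : GolayPt, ∃ x ∈ Q, x.1 p ≠ p) : False := by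
  classical
  obtain ⟨rfl, hfixp⟩ := count hcQ hexp c hc hemp
  obtain ⟨z, hz, hz1, hzp⟩ := hfixp none
  set p : GolayPt := none with hp
  have hz3 : (z.1 : Equiv.Perm GolayPt) ^ 3 = 1 := congrArg Subtype.val (hexp z hz)
  have hz1' : (z.1 : Equiv.Perm GolayPt) ≠ 1 := fun h => hz1 (Subtype.ext h)
  have hpz : p ∈ fx z.1 := mem_fx.2 hzp
  have h5 : ((fx z.1).erase p).card = 5 := by
    rw [Finset.card_erase_of_mem hpz, hc z hz hz1]
  obtain ⟨o, ho, hAo, hoi, hof⟩ := octad_of_five z.2 hz3 hz1' h5 (Finset.erase_subset _ _)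
  have ho8 : o.card = 8 := Cfsg.Agent.SporadicA.GolayBase.octad_card ho
  -- a point of the octad moved by `z`
  obtain ⟨r, hr⟩ : (o \ fx z.1).Nonempty := by
    rw [← Finset.card_pos]
    have h1 := Finset.card_sdiff_add_card_inter o (fx z.1)
    rw [hof, h5, ho8] at h1
    omega
  obtain ⟨hro, hrz⟩ := Finset.mem_sdiff.1 hr
  have hrz' : z.1 r ≠ r := fun h => hrz (mem_fx.2 h)
  obtain ⟨x, hx, hx1, hxr⟩ := hfixp r
  have hcom : ∀ q, x.1 (z.1 q) = z.1 (x.1 q) := by
    intro q
    exact congrArg (fun m : M24 => m.1 q) (hcomm x hx z hz)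
  have hz3' : ∀ q, z.1 (z.1 (z.1 q)) = q := by
    intro q
    have h1 := congrArg (fun m : Equiv.Perm GolayPt => m q) hz3
    simpa [pow_succ] using h1
  have hr1o : z.1 r ∈ o := hoi r hro
  have hr2o : z.1 (z.1 r) ∈ o := hoi _ hr1o
  have hxr1 : x.1 (z.1 r) = z.1 r := by rw [hcom, hxr]
  have hxr2 : x.1 (z.1 (z.1 r)) = z.1 (z.1 r) := by rw [hcom, hxr1]
  have hd1 : r ≠ z.1 r := fun h => hrz' h.symm
  have hd2 : z.1 r ≠ z.1 (z.1 r) := fun h => hrz' (z.1.injective h.symm)
  have hd3 : r ≠ z.1 (z.1 r) := by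
    intro h
    apply hrz'
    have h1 := congrArg z.1 h
    rw [hz3'] at h1
    exact h1
  have hnf : ∀ q, q = r ∨ q = z.1 r ∨ q = z.1 (z.1 r) → q ∉ fx z.1 := by
    rintro q (rfl | rfl | rfl) hq
    · exact hrz hq
    · exact hd2 (mem_fx.1 hq).symm
    · have h1 := mem_fx.1 hq
      rw [hz3'] at h1
      exact hd3 h1
  have hfxx : ∀ q, q ∈ fx z.1 → x.1 q ∈ fx z.1 := by
    intro q hq
    rw [mem_fx] at hq ⊢
    rw [← hcom, hq]
  -- the image octad
  have hxo : x.1 • o ∈ octads := (smul_mem_octads x.2).2 ho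
  have hsub : (((fx z.1).erase p).erase (x.1 p)) ∪ ({r, z.1 r, z.1 (z.1 r)} : Finset GolayPt) ⊆ o ∩ x.1 • o := by
    intro q hq
    rw [Finset.mem_inter]
    rcases Finset.mem_union.1 hq with hq | hq
    · obtain ⟨hq1, hq2⟩ := Finset.mem_erase.1 hq
      refine ⟨hAo hq2, ?_⟩
      obtain ⟨q', rfl⟩ := x.1.surjective q
      rw [mem_smul_iff]
      apply hAo
      rw [Finset.mem_erase]
      refine ⟨fun h => hq1 (by rw [h]), ?_⟩
      have h2 := mem_fx.1 (Finset.mem_erase.1 hq2).2
      rw [← hcom] at h2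
      exact mem_fx.2 (x.1.injective h2)
    · simp only [Finset.mem_insert, Finset.mem_singleton] at hq
      have h3 : x.1 q = q ∧ q ∈ o := by
        rcases hq with rfl | rfl | rfl
        exacts [⟨hxr, hro⟩, ⟨hxr1, hr1o⟩, ⟨hxr2, hr2o⟩]
      refine ⟨h3.2, ?_⟩
      have h4 := (mem_smul_iff x.1 o q).2 h3.2
      rwa [h3.1] at h4
  have hcard : 5 ≤ (o ∩ x.1 • o).card := by
    refine le_trans ?_ (Finset.card_le_card hsub)
    rw [Finset.card_union_of_disjoint]
    · have h1 : ({r, z.1 r, z.1 (z.1 r)} : Finset GolayPt).card = 3 := by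
        rw [Finset.card_insert_of_notMem, Finset.card_insert_of_notMem, Finset.card_singleton]
        · simpa using hd2
        · simp [hd1, hd3]
      have h2 := Finset.pred_card_le_card_erase (s := (fx z.1).erase p) (a := x.1 p)
      rw [h1]
      omega
    · rw [Finset.disjoint_left]
      intro q hq hq'
      simp only [Finset.mem_insert, Finset.mem_singleton] at hq'
      exact hnf q hq' (Finset.mem_erase.1 (Finset.mem_erase.1 hq).2).2
  have heq : o = x.1 • o := Cfsg.Agent.SporadicA.GolayBase.octad_unique ho hxo hcard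
  have hpo : p ∉ o := by
    intro h
    have h1 : p ∈ o ∩ fx z.1 := Finset.mem_inter.2 ⟨h, hpz⟩
    rw [hof] at h1
    exact (Finset.mem_erase.1 h1).1 rfl
  have hxp : x.1 p = p := by
    by_contra hne
    have h1 : x.1 p ∈ o := hAo (Finset.mem_erase.2 ⟨hne, hfxx p hpz⟩)
    rw [heq, mem_smul_iff] at h1
    exact hpo h1
  -- the stabilizer of `p` in `Q`
  set H : Subgroup M24 := Q ⊓ MulAction.stabilizer M24 p with hH
  have hzH : z ∈ H := ⟨hz, hzp⟩
  have hxH : x ∈ H := ⟨hx, hxp⟩
  have h9 : Nat.card H ∣ 9 := hcQ ▸ Subgroup.card_dvd_of_le inf_le_left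
  have : Fact (Nat.Prime 3) := ⟨by norm_num⟩
  have hoz : orderOf z = 3 := orderOf_eq_prime (hexp z hz) hz1
  have h3z : Nat.card (zpowers z) = 3 := by rw [Nat.card_zpowers, hoz]
  have hle : zpowers z ≤ H := zpowers_le.2 hzH
  have h3H : 3 ∣ Nat.card H := h3z ▸ Subgroup.card_dvd_of_le hle
  have hcH : Nat.card H = 3 ∨ Nat.card H = 9 := by
    have h6 := Nat.le_of_dvd (by norm_num) h9
    interval_cases h : Nat.card H <;> omega
  rcases hcH with h | h
  · have h1 : zpowers z = H := Subgroup.eq_of_le_of_card_ge hle (by rw [h, h3z])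
    rw [← h1] at hxH
    rw [mem_zpowers_iff_mem_range_orderOf, hoz] at hxH
    simp only [Finset.mem_image, Finset.mem_range] at hxH
    obtain ⟨k, hk, rfl⟩ := hxH
    interval_cases k
    · exact hx1 (pow_zero z)
    · apply hrz'
      rw [pow_one] at hxr
      exact hxr
    · apply hd3
      have h2 : (z ^ 2 : M24).1 r = z.1 (z.1 r) := by rw [pow_two]; rfl
      rw [h2] at hxr
      exact hxr.symm
  · have h1 : H = Q := Subgroup.eq_of_le_of_card_ge inf_le_left (by rw [h, hcQ])
    obtain ⟨y, hy, hyp⟩ := hemp p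
    rw [← h1] at hy
    exact hyp hy.2

/-- **The configuration `3²:GL₂(3)` does not occur in `M₂₄`.** -/
theorem m24 {A Q S : Subgroup ↥Cfsg.M24} {g : ↥Cfsg.M24} (h : Cfsg.Agent.H399.Conf432 A Q S g) : False := by
  classical
  obtain ⟨x₀, hx₀, hx₀1⟩ : ∃ x ∈ Q, x ≠ 1 := by
    by_contra hcon
    push Not at hcon
    have h1 : Q = ⊥ := (eq_bot_iff_forall _).2 hcon
    have h2 := h.cardQ
    rw [h1, Subgroup.card_bot] at h2
    omega
  have hexp : ∀ x ∈ Q, x ^ 3 = 1 := fun x hx => h.exp x (h.QS hx)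
  have hc : ∀ x ∈ Q, x ≠ 1 → (fx x.1).card = (fx x₀.1).card := by
    intro x hx hx1
    obtain ⟨a, -, ha⟩ := h.trans x₀ hx₀ x hx hx₀1 hx1
    have h1 : fx x.1 = (fx x₀.1).map (a.1 : Equiv.Perm GolayPt).toEmbedding := by
      ext q
      rw [Finset.mem_map, mem_fx]
      constructor
      · intro hq
        refine ⟨(a⁻¹).1 q, ?_, ?_⟩
        · rw [mem_fx]
          have h2 : x₀ = a⁻¹ * x * a := by rw [← ha]; group
          rw [h2]
          change (a⁻¹).1 (x.1 (a.1 ((a⁻¹).1 q))) = (a⁻¹).1 q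
          have h3 : a.1 ((a⁻¹).1 q) = q := by
            change (a * a⁻¹).1 q = q
            rw [mul_inv_cancel]; rfl
          rw [h3, hq]
        · change (a * a⁻¹).1 q = q
          rw [mul_inv_cancel]; rfl
      · rintro ⟨p, hp, rfl⟩
        rw [mem_fx] at hp
        rw [← ha]
        change a.1 (x₀.1 ((a⁻¹).1 (a.1 p))) = a.1 p
        have h3 : (a⁻¹).1 (a.1 p) = p := by
          change (a⁻¹ * a).1 p = p
          rw [inv_mul_cancel]; rfl
        rw [h3, hp]
    rw [h1, Finset.card_map]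
  set F : Finset GolayPt := Finset.univ.filter (fun p => ∀ x ∈ Q, x.1 p = p) with hF
  by_cases hne : F.Nonempty
  · refine case_fixed h.max h.cardA h.norm F (fun p => by rw [hF, Finset.mem_filter]; simp) hne ?_
    have hx3 : (x₀.1 : Equiv.Perm GolayPt) ^ 3 = 1 := congrArg Subtype.val (hexp x₀ hx₀)
    have hx1' : (x₀.1 : Equiv.Perm GolayPt) ≠ 1 := fun h => hx₀1 (Subtype.ext h)
    refine le_trans (Finset.card_le_card ?_) (fixed_le x₀.2 hx3 hx1')
    intro p hp
    rw [mem_fx]
    exact (Finset.mem_filter.1 hp).2 x₀ hx₀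
  · refine case_empty h.cardQ h.comm hexp _ hc ?_
    intro p
    by_contra hcon
    push Not at hcon
    exact hne ⟨p, Finset.mem_filter.2 ⟨Finset.mem_univ _, hcon⟩⟩

end Cfsg.Agent.H805.M24Conf
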