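import Cfsg.Agent.H805.NilSpB
import Cfsg.Agent.CpAutON.Seven
import Cfsg.Agent.H968.TwoON
import Cfsg.Agent.S0205

/-!
# Nilpotent subgroups of O'N (helper805, task 429 for S2242)

`small_ON` : `|N| ^ 2 < |G|` for nilpotent `N`.
-/

set_option autoImplicit false

namespace Cfsg.Agent.H805.NilSp

open Cfsg Subgroup Cfsg.Agent.H972 Cfsg.Agent.H972.NSm
open Cfsg.Spor (ON)
open Cfsg.Agent.SporadicB.ON45Word (on)
open Cfsg.Agent.KFacts.ON.Words (vv v)

universe u

namespace ON

theorem hcard : Nat.card ON = 460815505920 := Cfsg.Agent.KFacts.ON.OneClass.card_ON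

/-- the centralizers of the involutions of `O'N` -/
theorem cent_two {x : ON} (hx : orderOf x = 2) : Nat.card ↥(centralizer ({x} : Set ON)) = 161280 := by
  have hx2 : x * x = 1 := by rw [← pow_two, ← hx, pow_orderOf_eq_one]
  have hx1 : x ≠ 1 := by
    rintro rfl
    rw [orderOf_one] at hx
    omega
  rw [← card_cent_isConj (Cfsg.Agent.KFacts.ON.OneClass.one_class hx2 hx1), Cfsg.Agent.KFacts.ON.Cent.card_cent]

/-- an element of order 7 commuting with `f` commutes with `v` -/
theorem comm_v {y : ON} (hy : y ^ 7 = 1) (h : y * on .f = on .f * y) : y * v = v * y := by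
  have hK : y ∈ Cfsg.Agent.ONType.TupK.K0 := Cfsg.Agent.KFacts.ON.Struct.mem_K0.2 h
  have h1 : y ^ 2 * v * (y ^ 2)⁻¹ = v := by
    have e : y ^ 2 * v * (y ^ 2)⁻¹ = y * (y * v * y⁻¹) * y⁻¹ := by rw [pow_two]; group
    rw [e]
    rcases Cfsg.Agent.KFacts.ON.Struct.conj_v hK with h2 | h2
    · rw [h2, h2]
    · rw [h2]
      have e2 : y * v⁻¹ * y⁻¹ = (y * v * y⁻¹)⁻¹ := by group
      rw [e2, h2, inv_inv]
  have h2 : Commute (y ^ 2) v := mul_inv_eq_iff_eq_mul.1 h1
  have h3 : Commute ((y ^ 2) ^ 4) v := h2.pow_left 4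
  have h4 : (y ^ 2) ^ 4 = y := by
    rw [← pow_mul]
    show y ^ (7 + 1) = y
    rw [pow_succ, hy, one_mul]
  rw [h4] at h3
  exact h3

/-- an element of order 7 commuting with `f` commutes with no element of order 11, 19, 31 -/
theorem not_dvd_seven {y : ON} (hy : orderOf y = 7) (h : y * on .f = on .f * y) {r : ℕ} (hr : r.Prime)
    (hr4 : r % 4 = 3) (hrs : ¬ r * r ∣ 460815505920) (hrc : ¬ r ∣ 161280) :
    ¬ r ∣ Nat.card ↥(centralizer ({y} : Set ON)) := by
  intro hd
  have hfin := Cfsg.Agent.KFacts.ON.OneClass.finite_ON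
  have hy7 : y ^ 7 = 1 := by rw [← hy]; exact pow_orderOf_eq_one y
  have hy1 : y ≠ 1 := by rintro rfl; rw [orderOf_one] at hy; norm_num at hy
  have h4 := comm_v hy7 h
  have hs := Cfsg.Agent.CpAutON.Seven.solvable (fun K _ _ hK => Cfsg.Agent.S0205.result hK) hy
  have hdc : Nat.card (centralizer ({y} : Set ON)) ∣ 460815505920 := hcard ▸ card_subgroup_dvd_card _
  have hvm : v ∈ centralizer ({y} : Set ON) := mem_centralizer_singleton_iff.2 h4.symm
  have hv4 : (⟨v, hvm⟩ : centralizer ({y} : Set ON)) ^ 4 = 1 := Subtype.ext Cfsg.Agent.CpAutON.Codes.v_four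
  obtain ⟨z, hz, hzv⟩ := exists_comm_sq hs hr hr4 hd (fun h => hrs (h.trans hdc)) (fun R hR => by
    have h1 : IsPGroup 2 ↥(R.map (centralizer ({y} : Set ON)).subtype) := hR.map _
    have h2 := Cfsg.Agent.CpAutON.Seven.cyclic hy7 hy1 _ h1 (by
      rintro _ ⟨r, -, rfl⟩
      exact mem_centralizer_singleton_iff.1 r.2)
    exact isCyclic_of_injective (R.equivMapOfInjective _ (subtype_injective _)).toMonoidHom
      (MulEquiv.injective _)) hv4
  have h5 : (z : ON) * on .f = on .f * z := by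
    have h6 := congrArg (fun c : centralizer ({y} : Set ON) => (c : ON)) hzv
    simp only [Subgroup.coe_mul, SubmonoidClass.coe_pow] at h6
    rw [pow_two, vv] at h6
    exact h6
  have h6 : orderOf (⟨(z : ON), mem_centralizer_singleton_iff.2 h5⟩ : centralizer ({on .f} : Set ON)) = r := by
    rw [Subgroup.orderOf_mk, Subgroup.orderOf_coe]
    exact hz
  apply hrc
  rw [← Cfsg.Agent.KFacts.ON.Cent.card_cent, ← h6]
  exact orderOf_dvd_natCard _

theorem noDvd {r : ℕ} (hr : r.Prime) (hr4 : r % 4 = 3) (hrs : ¬ r * r ∣ 460815505920) (hrc : ¬ r ∣ 161280) :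
    NoDvd r 343 ON := by
  have hfin := Cfsg.Agent.KFacts.ON.OneClass.finite_ON
  have hx : orderOf Cfsg.Agent.CpAutON.Seven.x0 = 7 := by
    have : Fact (Nat.Prime 7) := ⟨by norm_num⟩
    exact orderOf_eq_prime Cfsg.Agent.CpAutON.Seven.x0_pow Cfsg.Agent.CpAutON.Seven.x0_ne
  have h := noDvd_of_full (G := ON) (p := 7) (k := 3) (r := r) (by norm_num) hr (by rw [hcard]; norm_num) hx
    (not_dvd_seven hx (Cfsg.Agent.KFacts.ON.Struct.mem_K0.1 Cfsg.Agent.CpAutON.Seven.x0_mem) hr hr4 hrs hrc)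
  norm_num at h
  exact h

theorem noTwo {r : ℕ} (hr : ¬ r ∣ 161280) : NoComm r 2 ON :=
  NoComm.symm (noComm_of_not_dvd fun t ht hpd => hr (by rwa [cent_two ht] at hpd))

/-- the centralizers of the elements of order 31 -/
theorem chk31' : ∀ q ∈ (List.range 1716).filter (fun q => q ∣ 29033235), ¬ 343 ∣ 29033235 / q →
    ∀ e ∈ [5, 10, 15, 30], 29033235 / q * e ∣ 14865016320 →
    14865016320 / (29033235 / q * e) % 31 = 1 → 29033235 / q ≤ 16929 := by
  decide +kernel

theorem chk31 {m e : ℕ} (hm : m ∣ 29033235) (h343 : ¬ 343 ∣ m) (he : e ∣ 30) (h5 : 5 ∣ e)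
    (hd : m * e ∣ 14865016320) (hmod : 14865016320 / (m * e) % 31 = 1) : m ≤ 16929 := by
  by_contra hlt
  push Not at hlt
  obtain ⟨q, hq⟩ := hm
  have hm0 : 0 < m := by omega
  have hq0 : 0 < q := by
    rcases Nat.eq_zero_or_pos q with h | h
    · rw [h] at hq; omega
    · exact h
  have hqm : 29033235 / q = m := by rw [hq]; exact Nat.mul_div_cancel _ hq0
  have hq1 : q < 1716 := by
    by_contra h
    push Not at h
    have : 16929 * 1716 ≤ m * q := Nat.mul_le_mul hlt.le h
    omega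
  have he4 : e ∈ [5, 10, 15, 30] := by
    obtain ⟨k, rfl⟩ := h5
    have hk : k ∣ 6 := Nat.dvd_of_mul_dvd_mul_left (by norm_num : 0 < 5) (by simpa using he)
    have hk6 : k ≤ 6 := Nat.le_of_dvd (by norm_num) hk
    interval_cases k <;> revert hk <;> decide
  have hqL : q ∈ (List.range 1716).filter (fun q => q ∣ 29033235) := by
    rw [List.mem_filter]
    exact ⟨List.mem_range.2 hq1, decide_eq_true (Dvd.intro_left m hq.symm)⟩
  have := chk31' q hqL (by rw [hqm]; exact h343) e he4 (by rw [hqm]; exact hd) (by rw [hqm]; exact hmod)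
  rw [hqm] at this
  omega

theorem card31 {x : ON} (hx : orderOf x = 31) : Nat.card ↥(centralizer ({x} : Set ON)) ≤ 524799 := by
  have hfin := Cfsg.Agent.KFacts.ON.OneClass.finite_ON
  obtain ⟨x', y, hx', hy⟩ := Cfsg.Agent.H968.TwoON.exists_xy
  have hsq : ¬ 31 * 31 ∣ Nat.card ON := by rw [hcard]; norm_num
  rw [card_cent_prime_eq (p := 31) (by norm_num) hsq hx' hx]
  obtain ⟨e, he, h5, hd, hmod⟩ := arithK (k := 5) (m := 2) (by norm_num) hx' hsq (by norm_num)
    (mul_inv_eq_iff_eq_mul.2 hy) (by norm_num) (by norm_num)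
  have h343 := noDvd (r := 31) (by norm_num) (by norm_num) (by norm_num) (by norm_num) x' hx'
  have h2 := not_dvd_of_noComm Nat.prime_two (noTwo (r := 31) (by norm_num)) hx'
  have h31 : 31 ∣ Nat.card ↥(centralizer ({x'} : Set ON)) := by
    have h6 : orderOf (⟨x', mem_centralizer_singleton_iff.2 rfl⟩ : centralizer ({x'} : Set ON)) = 31 := by
      rw [Subgroup.orderOf_mk]
      exact hx'
    rw [← h6]
    exact orderOf_dvd_natCard _
  obtain ⟨m, hm⟩ := h31
  rw [hm] at hd hmod h343 h2 ⊢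
  rw [hcard] at hd hmod
  have hm2 : ¬ 2 ∣ m := fun h => h2 (h.trans (dvd_mul_left _ _))
  have hm343 : ¬ 343 ∣ m := fun h => h343 (h.trans (dvd_mul_left _ _))
  have hd' : m * e ∣ 14865016320 := by
    have h7 : 31 * (m * e) ∣ 31 * 14865016320 := by rw [← mul_assoc]; exact hd
    exact Nat.dvd_of_mul_dvd_mul_left (by norm_num) h7
  have hmd : m ∣ 29033235 := by
    have h7 : m ∣ 2 ^ 9 * 29033235 := by
      refine (dvd_mul_right m e).trans (hd'.trans ?_)
      norm_num
    exact (((Nat.Prime.coprime_iff_not_dvd Nat.prime_two).2 hm2).symm.pow_right 9).dvd_of_dvd_mul_left h7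
  have hmod' : 14865016320 / (m * e) % 31 = 1 := by
    have h7 : 460815505920 / (31 * m * e) = 14865016320 / (m * e) := by
      rw [show 460815505920 = 31 * 14865016320 by norm_num, mul_assoc]
      exact Nat.mul_div_mul_left _ _ (by norm_num)
    rw [h7] at hmod
    exact hmod
  have := chk31 hmd hm343 he h5 hd' hmod'
  omega

end ON

theorem small_ON' : NSm.Small Spor.ON := by
  have hc := ON.hcard
  have hf := Cfsg.Agent.KFacts.ON.OneClass.finite_ON
  have hs : IsSimpleGroup Spor.ON := Cfsg.Agent.S1699.result.1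
  have h2 : SmallAt 2 Spor.ON := smallAt_of_le (b := 161280) Nat.prime_two (by rw [hc]; norm_num) fun x hx =>
    (ON.cent_two hx).le
  refine small_of_chk' 9 900030285 1326 (by rw [hc]; norm_num) (by norm_num) (by norm_num) [31]
    [11, 19] [(11, 343), (19, 343)] [1, 3, 5, 7, 9, 11, 15, 19, 21, 27, 31, 33, 35, 45, 49, 55, 57, 63, 77, 81, 93, 95, 99, 105, 133, 135, 147, 155, 165, 171, 189, 209, 217, 231, 245, 279, 285, 297, 315, 341, 343, 385, 399, 405, 441, 465, 495, 513, 539, 567, 589, 627, 651, 665, 693, 735, 837, 855, 891, 931, 945, 1023, 1029, 1045, 1085, 1155, 1197, 1323]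
    ?_ ?_ ?_ ?_ h2 (by decide +kernel)
  · decide +kernel
  · intro r hr
    rw [List.mem_singleton] at hr
    subst hr
    exact smallAt_of_le (b := 524799) (by norm_num) (by rw [hc]; norm_num) fun x hx => ON.card31 hx
  · intro r hr
    simp only [List.mem_cons, List.not_mem_nil, or_false] at hr
    rcases hr with rfl | rfl
    · exact ⟨by norm_num, by norm_num, by norm_num, ON.noTwo (by norm_num)⟩
    · exact ⟨by norm_num, by norm_num, by norm_num, ON.noTwo (by norm_num)⟩
  · intro p hp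
    simp only [List.mem_cons, List.not_mem_nil, or_false] at hp
    rcases hp with rfl | rfl
    · exact ⟨by norm_num, ON.noDvd (by norm_num) (by norm_num) (by norm_num) (by norm_num)⟩
    · exact ⟨by norm_num, ON.noDvd (by norm_num) (by norm_num) (by norm_num) (by norm_num)⟩

theorem small_ON {G : Type u} [Group G] [Finite G] (h : Cfsg.Spor.IsoON G)
    (_hI : ∀ (H : Type u) [Group H] [Finite H], IsSimpleGroup H → ¬ IsMulCommutative H → Nat.card H < Nat.card G →
      NSm.Small H) : NSm.Small G := by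
  obtain ⟨e⟩ := h
  exact small_ON'.congr e.symm

end Cfsg.Agent.H805.NilSp
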