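import Cfsg.Agent.H993.AbTool
import Cfsg.Agent.H805.NilON
import Cfsg.Agent.H981.SCON
import Cfsg.Agent.BpSpor.ONanThree

/-!
# Abelian subgroups of O'N (helper805, for S2501)

`ab3_ON` : `|A| ^ 3 < |G|` for abelian `A`.
-/

set_option autoImplicit false

namespace Cfsg.Agent.H805.Ab

open Cfsg Subgroup Cfsg.Agent.H498.Ab Cfsg.Agent.H993.AbTool Cfsg.Agent.OrdDiv

namespace ONR

theorem fin : Finite Spor.ON := KFacts.ON.Cent.finite_ON

theorem fb_343 : Fb 343 Spor.ON := by
  have := fin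
  have h7 : Fact (Nat.Prime 7) := ⟨by norm_num⟩
  intro A hA hd
  obtain ⟨Q, hQ⟩ := Sylow.exists_subgroup_card_pow_prime (G := A) 7 (n := 3) (by norm_num; exact hd)
  refine BpSpor.ONanThree.not_abelian (E := Q.map A.subtype) ?_ ?_
  · rw [card_map_of_injective (subtype_injective _), hQ]
  · rintro _ ⟨a, ha, rfl⟩ _ ⟨b, hb, rfl⟩
    exact comm_iff.1 hA _ a.2 _ b.2

theorem fb_48 : Fb 48 Spor.ON := by
  have := fin
  refine fb_of_cent Nat.prime_three (by norm_num) fun x hx hd => ?_
  exact CpAut.SporThree.ON.not_16 hx ((by norm_num : 16 ∣ 48).trans hd)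

end ONR

theorem ab3_ON' : Ab3 Spor.ON := by
  have := ONR.fin
  refine ab3_of_chk3 NilSp.ON.hcard [(2, 9), (3, 4), (5, 1), (7, 3), (11, 1), (19, 1), (31, 1)] (by decide +kernel)
    [(2, [161280]), (5, [180]), (11, [11]), (19, [19]), (31, [31]), (343, []), (48, [])] ?_ (by decide +kernel)
  intro d hd
  simp only [List.mem_cons, List.not_mem_nil, or_false] at hd
  rcases hd with rfl | rfl | rfl | rfl | rfl | rfl | rfl
  · exact ca_of_cent Nat.prime_two fun x hx => (NilSp.ON.cent_two hx).dvd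
  · exact ca_of_cent (by norm_num) fun x hx => (H474.ONC.card_cent_five hx).dvd
  · exact ca_of_cent (by norm_num) fun x hx => (H474.ONC.card_cent_eleven hx).dvd
  · exact ca_of_cent (by norm_num) fun x hx => (H981.SCON.card_cent_nineteen hx).dvd
  · exact ca_of_cent (by norm_num) fun x hx => (H981.SCON.sc_on x hx).dvd
  · exact ONR.fb_343.ca
  · exact ONR.fb_48.ca

/-- **The abelian subgroups of the O'Nan group.** -/
theorem ab3_ON {G : Type*} [Group G] [Finite G] [IsSimpleGroup G] (h : Cfsg.Spor.IsoON G) : Ab3 G := by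
  obtain ⟨e⟩ := h
  exact ab3_ON'.congr e.symm

end Cfsg.Agent.H805.Ab
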