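import Cfsg.Agent.H993.AbTool
import Cfsg.Agent.H805.NilRu
import Cfsg.Agent.H436.TwoRu
import Cfsg.Agent.H573.Spor.Ru
import Cfsg.Agent.H47.Meet3Ru

/-!
# Abelian subgroups of Ru (helper805, for S2501)

* `fb_of_sub` : `p ^ m` divides the order of no abelian subgroup, if some `p`-subgroup `V` with `|V| p ^ m > |G|_p`
  consists of elements whose centralizers are too small;
* `ab3_Ru` : `|A| ^ 3 < |G|` for abelian `A`.
-/

set_option autoImplicit false

namespace Cfsg.Agent.H805.Ab

open Cfsg Subgroup Cfsg.Agent.H498.Ab Cfsg.Agent.H993.AbTool Cfsg.Agent.OrdDiv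
open scoped Pointwise

/-- two subgroups with trivial intersection -/
theorem card_mul_le_of_inf {G : Type*} [Group G] [Finite G] {H K R : Subgroup G} (hH : H ≤ R) (hK : K ≤ R)
    (h : H ⊓ K = ⊥) : Nat.card H * Nat.card K ≤ Nat.card R := by
  rw [← Nat.card_prod]
  refine Nat.card_le_card_of_injective (fun g : H × K => (⟨g.1 * g.2, R.mul_mem (hH g.1.2) (hK g.2.2)⟩ : R)) ?_
  intro a b hab
  exact Subgroup.mul_injective_of_disjoint (disjoint_iff.2 h) (congrArg Subtype.val hab)

theorem fb_of_sub {G : Type*} [Group G] [Finite G] {p n m k : ℕ} (hp : p.Prime) (hn : ¬ p ^ (n + 1) ∣ Nat.card G)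
    {V : Subgroup G} (hV : Nat.card V = p ^ k) (hk : n < m + k)
    (h : ∀ v ∈ V, v ≠ 1 → ¬ p ^ m ∣ Nat.card ↥(centralizer ({v} : Set G))) : Fb (p ^ m) G := by
  have : Fact p.Prime := ⟨hp⟩
  intro A hA hd
  obtain ⟨Q, hQ⟩ := Sylow.exists_subgroup_card_pow_prime (G := A) p hd
  have h1 : Nat.card (Q.map A.subtype) = p ^ m := by
    rw [← hQ]
    exact Nat.card_congr (Subgroup.equivMapOfInjective Q A.subtype (Subgroup.subtype_injective _)).symm.toEquiv
  have hQp : IsPGroup p (Q.map A.subtype) := IsPGroup.of_card h1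
  obtain ⟨P, hP⟩ := hQp.exists_le_sylow
  have hVp : IsPGroup p V := IsPGroup.of_card hV
  obtain ⟨R, hR⟩ := hVp.exists_le_sylow
  obtain ⟨g, hg⟩ := MulAction.exists_smul_eq G P R
  have hRc : Nat.card R ≤ p ^ n := by
    obtain ⟨j, hj⟩ := IsPGroup.iff_card.1 R.2
    have h3 : j ≤ n := by
      by_contra hcon
      apply hn
      exact (pow_dvd_pow p (by omega)).trans (hj ▸ Subgroup.card_subgroup_dvd_card (R : Subgroup G))
    rw [hj]
    exact Nat.pow_le_pow_right hp.pos h3
  let B : Subgroup G := (Q.map A.subtype).map (MulAut.conj g).toMonoidHom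
  have hBR : B ≤ (R : Subgroup G) := by
    rw [← hg]
    exact Subgroup.map_mono hP
  have hBc : Nat.card B = p ^ m := by
    rw [← h1]
    exact Subgroup.card_map_of_injective (MulAut.conj g).injective
  have hB : IsMulCommutative B := comm_map _ (comm_of_le (Subgroup.map_subtype_le _) hA)
  by_cases hbot : B ⊓ V = ⊥
  · have h2 := (card_mul_le_of_inf hBR hR hbot).trans hRc
    rw [hBc, hV, ← pow_add] at h2
    have h3 : p ^ n < p ^ (m + k) := Nat.pow_lt_pow_right hp.one_lt hk
    omega
  · obtain ⟨v, hv1⟩ := Subgroup.ne_bot_iff_exists_ne_one.1 hbot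
    have hv1' : (v : G) ≠ 1 := fun h => hv1 (Subtype.ext h)
    refine h v v.2.2 hv1' ?_
    rw [← hBc]
    refine Subgroup.card_dvd_of_le fun b hb => ?_
    exact mem_centralizer_singleton_iff.2 (comm_iff.1 hB b hb _ v.2.1)

namespace RuR

open Cfsg.Agent.SporadicB Cfsg.Agent.SporadicB.RuOrder Cfsg.Agent.RuD.Letters Cfsg.Agent.RuD.Model
open Cfsg.Agent.SporRec.TCUpperCert

theorem hcard : Nat.card RuOrder.H = 145926144000 := RuOrder.card_H

theorem fin : Finite RuOrder.H := Nat.finite_of_card_ne_zero (by rw [hcard]; norm_num)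

theorem fb_8192 : Fb 8192 RuOrder.H := by
  have := fin
  obtain ⟨C, -⟩ := KFacts.Ru.exists_core H436.TwoRu.isoH
  let f : Multiplicative RuB.A4 →* RuOrder.H := MonoidHom.mk' (fun a => C.v a.toAdd) fun a b => C.v_add _ _
  have hf : Function.Injective f := fun a b hab => C.v_inj hab
  have hV : Nat.card f.range = 2 ^ 2 := by
    rw [← Nat.card_congr (MonoidHom.ofInjective hf).toEquiv]
    show Nat.card RuB.A4 = 4
    simp [RuB.A4, Nat.card_eq_fintype_card]
  have h := fb_of_sub (G := RuOrder.H) (n := 14) (m := 13) Nat.prime_two (by rw [hcard]; norm_num) hV (by norm_num)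
    (by
      rintro _ ⟨a, rfl⟩ ha
      have ha0 : a.toAdd ≠ 0 := by
        intro h0
        apply ha
        show C.v a.toAdd = 1
        rw [h0, C.v_zero]
      have h1 := RuB.Local.card_cent_v (C := C) ha0
      intro hd
      have h2 : 2 ^ 13 ∣ 4 * 29120 := h1 ▸ hd
      norm_num at h2)
  norm_num at h
  exact h

theorem fb_125 : Fb 125 RuOrder.H := by
  have := fin
  have h := fb_of_full (G := RuOrder.H) (p := 5) (e := 3) (by norm_num) (by rw [hcard]; norm_num)
    CpAutRuFive.orderB (fun h1 => by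
      have h2 : 3 ∣ Nat.card ↥(centralizer ({wprod ml CpAutRuFive.Cert.wB} : Set RuOrder.H)) := by
        have h3 : wprod ml [4] ∈ centralizer ({wprod ml CpAutRuFive.Cert.wB} : Set RuOrder.H) :=
          mem_centralizer_singleton_iff.2 H573.Spor.RuR.comm.symm
        have h4 := orderOf_dvd_natCard (⟨wprod ml [4], h3⟩ :
          centralizer ({wprod ml CpAutRuFive.Cert.wB} : Set RuOrder.H))
        rw [← Subgroup.orderOf_coe] at h4
        rw [← H573.Spor.RuR.order3]
        exact h4
      have h3 : 5 ^ 3 * 3 ∣ Nat.card ↥(centralizer ({wprod ml CpAutRuFive.Cert.wB} : Set RuOrder.H)) :=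
        Nat.Coprime.mul_dvd_of_dvd_of_dvd (by norm_num) h1 h2
      have h4 := Nat.le_of_dvd Nat.card_pos h3
      have h5 := CpAutRuFive.cardB
      omega)
  norm_num at h
  exact h

theorem fb_192 : Fb 192 RuOrder.H := by
  have := fin
  refine fb_of_cent Nat.prime_three (by norm_num) fun x hx hd => ?_
  exact H47.MeetS.RuThree.not_dvd H436.TwoRu.isoH hx ((by norm_num : 2 ^ 6 ∣ 192).trans hd)

theorem at3_thirteen : At3 13 RuOrder.H := by
  have := fin
  exact at3_of_card (b := 52) (by norm_num) (by rw [hcard]; norm_num) fun x hx =>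
    Nat.le_of_dvd (by norm_num) (H436.TwoRu.cent13 x hx)

theorem at3_29 : At3 29 RuOrder.H := by
  have := fin
  exact at3_of_card (b := 29) (by norm_num) (by rw [hcard]; norm_num) fun x hx =>
    Nat.le_of_dvd (by norm_num) (H436.TwoRu.cent29 x hx)

theorem at3_ten : At3 10 RuOrder.H := by
  have := fin
  intro A hA hd
  obtain ⟨x, hx, -, hle⟩ := exists_le_cent (by norm_num : Nat.Prime 5) hA ((by norm_num : 5 ∣ 10).trans hd)
  have h1 : Nat.card ↥(centralizer ({x} : Set RuOrder.H)) ≤ 1000 := by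
    rcases CpAutRuFive.card_cases hx with h | h
    · exfalso
      rw [← Nat.not_even_iff_odd, even_iff_two_dvd] at h
      exact h (((by norm_num : 2 ∣ 10).trans hd).trans (Subgroup.card_dvd_of_le hle))
    · exact h
  have h2 := (Nat.le_of_dvd Nat.card_pos (Subgroup.card_dvd_of_le hle)).trans h1
  rw [hcard]
  exact (Nat.pow_le_pow_left h2 3).trans_lt (by norm_num)

theorem at3_fourteen : At3 14 RuOrder.H := by
  have := fin
  intro A hA hd
  have h2d : 2 ∣ Nat.card A := (by norm_num : 2 ∣ 14).trans hd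
  have h7d : 7 ∣ Nat.card A := (by norm_num : 7 ∣ 14).trans hd
  by_cases h5 : 5 ∣ Nat.card A
  · exact at3_ten A hA (Nat.Coprime.mul_dvd_of_dvd_of_dvd (m := 2) (n := 5) (by norm_num) h2d h5)
  by_cases h13 : 13 ∣ Nat.card A
  · exact at3_thirteen A hA h13
  obtain ⟨t, ht, -, hle⟩ := exists_le_cent Nat.prime_two hA h2d
  have h1 : Nat.card A ∣ 65 * 1792 := by
    rcases NilSp.cent_two_Ru ht with h | h
    · have h3 := h7d.trans (Subgroup.card_dvd_of_le hle)
      rw [h] at h3
      norm_num at h3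
    · have h3 := Subgroup.card_dvd_of_le hle
      rwa [h] at h3
  have hc : Nat.Coprime (Nat.card A) 65 :=
    Nat.Coprime.mul_right (((Nat.Prime.coprime_iff_not_dvd (by norm_num : Nat.Prime 5)).2 h5).symm)
      (((Nat.Prime.coprime_iff_not_dvd (by norm_num : Nat.Prime 13)).2 h13).symm)
  have h2 := Nat.le_of_dvd (by norm_num) (hc.dvd_of_dvd_mul_left h1)
  rw [hcard]
  exact (Nat.pow_le_pow_left h2 3).trans_lt (by norm_num)

end RuR

theorem ab3_Ru' : Ab3 Cfsg.Agent.SporadicB.RuOrder.H := by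
  have := RuR.fin
  refine ab3_of_chk RuR.hcard [(2, 14), (3, 3), (5, 3), (7, 1), (13, 1), (29, 1)] (by decide +kernel)
    [10, 13, 29, 14] [192, 8192, 125] ?_ ?_ (by decide +kernel)
  · intro p hp
    simp only [List.mem_cons, List.not_mem_nil, or_false] at hp
    rcases hp with rfl | rfl | rfl | rfl
    · exact RuR.at3_ten
    · exact RuR.at3_thirteen
    · exact RuR.at3_29
    · exact RuR.at3_fourteen
  · intro m hm
    simp only [List.mem_cons, List.not_mem_nil, or_false] at hm
    rcases hm with rfl | rfl | rfl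
    · exact RuR.fb_192
    · exact RuR.fb_8192
    · exact RuR.fb_125

/-- **The abelian subgroups of the Rudvalis group.** -/
theorem ab3_Ru {G : Type*} [Group G] [Finite G] [IsSimpleGroup G] (h : Cfsg.Spor.IsoRu G) : Ab3 G := by
  obtain ⟨e⟩ := h
  exact ab3_Ru'.congr (e.trans RuLat.Main.equiv).symm

end Cfsg.Agent.H805.Ab
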