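import Cfsg.Agent.H993.AbTool
import Cfsg.Agent.H805.AbTitsChk
import Cfsg.Agent.TitsK.PairInst
import Cfsg.Agent.H20.FrobTitsInst

/-!
# Abelian subgroups of the Tits group (helper805, for S2501)

`ab3_Tits` : `|A| ^ 3 < |G|` for abelian `A` (`|C(3A)| = 108`, `|C(5A)| = 50`, `|C(13)| ≤ 26`; a Sylow 2-subgroup has an
element `w` of order 16 with `|C(w ^ 12)| = 128`, so it has no abelian subgroup of index 4).
-/

set_option autoImplicit false

universe u

namespace Cfsg.Agent.H805.Ab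

open Cfsg Subgroup Cfsg.Agent.H498.Ab Cfsg.Agent.H993.AbTool Cfsg.Agent.OrdDiv

/-- an abelian subgroup of index at most 4 contains `w ^ 12` -/
theorem pow_twelve_mem {G : Type*} [Group G] {B S : Subgroup G} (h0 : B.relIndex S ≠ 0) (h4 : B.relIndex S ≤ 4)
    {w : G} (hw : w ∈ S) : w ^ 12 ∈ B := by
  obtain ⟨n, hn0, hn, hm⟩ := Subgroup.exists_pow_mem_of_relIndex_ne_zero h0 hw
  have hn4 : n ≤ 4 := hn.trans h4
  have h1 : w ^ n ∈ B := hm.1
  have h2 : n ∣ 12 := by
    interval_cases n <;> norm_num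
  obtain ⟨k, hk⟩ := h2
  rw [hk, pow_mul]
  exact B.pow_mem h1 k

theorem card_mul_relIndex_aux {G : Type*} [Group G] {B S : Subgroup G} (h : B ≤ S) :
    Nat.card B * B.relIndex S = Nat.card S := by
  rw [Subgroup.relIndex, ← (B.subgroupOf S).card_mul_index,
    Nat.card_congr (Subgroup.subgroupOfEquivOfLe h).toEquiv]

theorem card_of_odd {G : Type*} [Group G] [Finite G] {T S : Subgroup G} (hST : S ≤ T) (hS : IsPGroup 2 S)
    (hi : ¬ 2 ∣ S.relIndex T) {a m : ℕ} (hm : ¬ 2 ∣ m) (hT : Nat.card T = 2 ^ a * m) : Nat.card S = 2 ^ a := by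
  have : Fact (Nat.Prime 2) := ⟨Nat.prime_two⟩
  obtain ⟨k, hk⟩ := IsPGroup.iff_card.1 hS
  have h1 := card_mul_relIndex_aux hST
  rw [hk, hT] at h1
  rw [hk]
  apply Nat.dvd_antisymm
  · have h2 : 2 ^ k ∣ 2 ^ a * m := ⟨_, h1.symm⟩
    exact (Nat.Coprime.pow_left k ((Nat.Prime.coprime_iff_not_dvd Nat.prime_two).2 hm)).dvd_of_dvd_mul_right h2
  · have h2 : 2 ^ a ∣ 2 ^ k * S.relIndex T := ⟨_, h1⟩
    exact (Nat.Coprime.pow_left a ((Nat.Prime.coprime_iff_not_dvd Nat.prime_two).2 hi)).dvd_of_dvd_mul_right h2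

theorem pow_twelve_eq {G : Type*} [Group G] (w : G) :
    w ^ 12 = w * w * (w * w) * (w * w * (w * w)) * (w * w * (w * w)) := by
  simp only [pow_succ, pow_zero, one_mul, mul_assoc]

/-- no abelian subgroup of order `2 ^ 9` -/
theorem fb_of_pow {G : Type*} [Group G] [Finite G] {T S : Subgroup G} (hST : S ≤ T) (hS : Nat.card S = 2 ^ 11)
    (hi : ¬ 2 ∣ S.relIndex T) {w : G} (hw : w ∈ S)
    (h : ∀ B : Subgroup G, B ≤ S → (∀ b ∈ B, w ^ 12 * b = b * w ^ 12) → Nat.card B < 2 ^ 9) : Fb 512 ↥T := by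
  have : Fact (Nat.Prime 2) := ⟨Nat.prime_two⟩
  intro A hA hd
  obtain ⟨Q, hQ⟩ := Sylow.exists_subgroup_card_pow_prime (G := A) 2 (n := 9) hd
  let B1 : Subgroup G := (Q.map A.subtype).map T.subtype
  have h1 : Nat.card B1 = 2 ^ 9 := by
    rw [← hQ, Subgroup.card_map_of_injective T.subtype_injective, Subgroup.card_map_of_injective A.subtype_injective]
  have hB1T : B1 ≤ T := Subgroup.map_subtype_le _
  have hSp : IsPGroup 2 S := IsPGroup.of_card hS
  have hBp : IsPGroup 2 B1 := IsPGroup.of_card h1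
  obtain ⟨g, -, hg⟩ := Cfsg.Agent.TitsK.Abs.exists_conj_sub hST hSp hi hB1T hBp
  let B : Subgroup G := B1.map (MulAut.conj g).toMonoidHom
  have hBS : B ≤ S := by
    rintro _ ⟨t, ht, rfl⟩
    exact hg t ht
  have hBc : Nat.card B = 2 ^ 9 := by
    rw [← h1]
    exact Subgroup.card_map_of_injective (MulAut.conj g).injective
  have hcomm : ∀ a ∈ B, ∀ b ∈ B, a * b = b * a := by
    rintro _ ⟨_, ⟨_, ⟨a, -, rfl⟩, rfl⟩, rfl⟩ _ ⟨_, ⟨_, ⟨b, -, rfl⟩, rfl⟩, rfl⟩
    have h2 := comm_iff.1 hA a a.2 b b.2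
    have h3 : T.subtype (A.subtype a) * T.subtype (A.subtype b) = T.subtype (A.subtype b) * T.subtype (A.subtype a) := by
      rw [← map_mul, ← map_mul]
      exact congrArg T.subtype h2
    rw [← map_mul, h3, map_mul]
  have hidx : B.relIndex S = 4 := by
    have h2 := card_mul_relIndex_aux hBS
    rw [hBc, hS] at h2
    omega
  have hmem := pow_twelve_mem (B := B) (S := S) (by omega) (by omega) hw
  have h3 := h B hBS fun b hb => hcomm _ hmem b hb
  omega

theorem at3_of_isConj {G : Type*} [Group G] [Finite G] {p b : ℕ} (hp : p.Prime) (hb : b ^ 3 < Nat.card G) {t : G}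
    (h : ∀ x : G, orderOf x = p → IsConj x t) (ht : Nat.card ↥(centralizer ({t} : Set G)) ≤ b) : At3 p G := by
  refine at3_of_card hp hb fun x hx => ?_
  obtain ⟨c, hc⟩ := isConj_iff.1 (h x hx)
  rw [← card_cent_equiv' (MulAut.conj c) x]
  rw [MulAut.conj_apply, hc]
  exact ht

theorem ab3_of_sub {L : Type*} [Group L] {T : Subgroup L} (h : Ab3 ↥T) {G : Type*} [Group G]
    (e : Nonempty (↥T ≃* G)) : Ab3 G := by
  obtain ⟨e⟩ := e
  exact h.congr e

namespace TitsR

open Cfsg.Agent.H20.FrobTits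

theorem isConj_or_pow {G : Type u} [Group G] [Finite G] (D : TData G) {y : G} (hy : orderOf y = 13) :
    Nat.card ↥(centralizer ({y} : Set G)) ≤ 26 := by
  have : Fact (Nat.Prime 13) := ⟨by norm_num⟩
  have hZ : Nat.card (zpowers D.x) = 13 := by rw [Nat.card_zpowers, D.x13]
  have hidx : (zpowers D.x).index = 2 ^ 11 * 3 ^ 3 * 5 ^ 2 := by
    have h := (zpowers D.x).card_mul_index
    rw [hZ, D.card] at h
    omega
  obtain ⟨g, hg⟩ := exists_conj_mem (p := 13) (a := 1) (by norm_num) (R := zpowers D.x) (by rw [hZ]; norm_num)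
    (by rw [hidx]; norm_num) (b := 1) (y := y) (by rw [pow_one, ← hy, pow_orderOf_eq_one])
  have h1 : Nat.card ↥(centralizer ({g * y * g⁻¹} : Set G)) = Nat.card ↥(centralizer ({y} : Set G)) := by
    rw [← MulAut.conj_apply, card_cent_equiv']
  have hne : orderOf (g * y * g⁻¹) = 13 := by
    rw [← MulAut.conj_apply, MulEquiv.orderOf_eq, hy]
  have h2 : zpowers (g * y * g⁻¹) = zpowers D.x := by
    apply Subgroup.eq_of_le_of_card_ge
    · rw [zpowers_le]
      exact hg
    · rw [hZ, Nat.card_zpowers, hne]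
  have h3 : D.x ∈ zpowers (g * y * g⁻¹) := by
    rw [h2]
    exact mem_zpowers _
  have h4 : centralizer ({g * y * g⁻¹} : Set G) ≤ centralizer ({D.x} : Set G) := by
    intro c hc
    rw [mem_centralizer_singleton_iff] at hc ⊢
    obtain ⟨k, hk⟩ := mem_zpowers_iff.1 h3
    rw [← hk]
    exact (Commute.zpow_right (show Commute c (g * y * g⁻¹) from hc) k).eq
  have h5 := Nat.le_of_dvd Nat.card_pos (Subgroup.card_dvd_of_le h4)
  rw [← h1]
  rcases D.card_x.2 with h | h <;> omega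

theorem ab3_of {G : Type u} [Group G] [Finite G] (D : TData G) (h512 : Fb 512 G) : Ab3 G := by
  refine ab3_of_chk (N := 17971200) (by rw [D.card]; norm_num) [(2, 11), (3, 3), (5, 2), (13, 1)] (by decide +kernel)
    [3, 5, 13] [512] ?_ ?_ (by decide +kernel)
  · intro p hp
    simp only [List.mem_cons, List.not_mem_nil, or_false] at hp
    rcases hp with rfl | rfl | rfl
    · refine at3_of_isConj (b := 108) Nat.prime_three (by rw [D.card]; norm_num) (t := D.t) ?_ D.card_cent_t.le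
      intro x hx
      refine D.isConj_t (b := 1) (by rw [pow_one, ← hx, pow_orderOf_eq_one]) ?_
      rintro rfl
      rw [orderOf_one] at hx
      omega
    · exact at3_of_card (b := 50) (by norm_num) (by rw [D.card]; norm_num) fun x hx => (D.cent5 x hx).le
    · exact at3_of_card (b := 26) (by norm_num) (by rw [D.card]; norm_num) fun x hx => isConj_or_pow D hx
  · intro m hm
    simp only [List.mem_cons, List.not_mem_nil, or_false] at hm
    rw [hm]
    exact h512

/-- the data, for a group with an elementary abelian subgroup of order 32 -/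
theorem exists_data {X : Type} [Group X] (D : H87.TitsAbs.Dat X) (O : CpAutTits.Row.Out X)
    (hP : ∃ P : Subgroup X, Nat.card P = 25 ∧ ∀ a ∈ P, a ^ 5 = 1) {S : Type u} [Group S] (e : S ≃* X)
    (hV : ∃ V : Subgroup S, Nat.card V = 32 ∧ ∀ u ∈ V, u * u = 1) : Nonempty (TData X) := by
  obtain ⟨V, hV1, hV2⟩ := hV
  obtain ⟨P, hP1, hP2⟩ := hP
  have hfin : Finite X := by
    apply Nat.finite_of_card_ne_zero
    rw [O.card]
    norm_num
  have : Fact (Nat.Prime 13) := ⟨by norm_num⟩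
  have : Fact (Nat.Prime 3) := ⟨by norm_num⟩
  exact ⟨
    { card := O.card
      x := D.x
      t := D.t
      x13 := orderOf_eq_prime D.x13 D.x1
      t3 := orderOf_eq_prime D.t3 D.t1
      txt := D.txt
      R := D.R
      cardR := D.card_R
      conjR := fun r hr h1 => D.R_isConj hr h1
      cent5 := O.cent
      ncomm := O.ncomm
      P := P
      cardP := hP1
      expP := hP2
      V := V.map e.toMonoidHom
      cardV := by
        rw [← hV1]
        exact Nat.card_congr (V.equivMapOfInjective _ e.injective).symm.toEquiv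
      expV := by
        rintro _ ⟨v, hv, rfl⟩
        rw [← map_mul, hV2 v hv, map_one] }⟩

section

open Cfsg.Agent.TitsK Cfsg.Agent.H805.AbT
open Cfsg.Agent.FourTwo.Base hiding bar bar_lt
open Cfsg.Agent.FourTwo.BN Cfsg.Agent.FourTwo.Comm Cfsg.Agent.FourTwo.Classes
open Cfsg.Agent.FourTwo.UCode (mulU)

theorem w_mem : ec 16631707 ∈ UT ⊓ TT := by
  have h : ec 76186 ∈ TT := t76186
  refine ⟨⟨ec_mem_U _, ?_⟩, ?_⟩
  · rw [← w1, ec_mulU]
    exact HT.mul_mem (TT_le t513) (TT_le h)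
  · rw [← w1, ec_mulU]
    exact TT.mul_mem t513 h

theorem w_pow : (ec 16631707 : LL) ^ 12 = ec 1863936 := by
  rw [pow_twelve_eq, ← ec_mulU, w2, ← ec_mulU, w4, ← ec_mulU, w8, ← ec_mulU, w12]

theorem fb_TT : Fb 512 ↥TT := by
  have hS : Nat.card ↥(UT ⊓ TT : Subgroup LL) = 2 ^ 11 :=
    card_of_odd (a := 11) (m := 3 ^ 3 * 5 ^ 2 * 13) inf_le_right ST_isPGroup odd_ST (by norm_num) (by rw [card_TT]; ring)
  refine fb_of_pow inf_le_right hS odd_ST w_mem fun B hB hc => ?_
  refine (card_le_cnt (B := B) (hB.trans inf_le_left) (p := pC) ?_).trans_lt (by rw [cnt]; norm_num)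
  intro e he hpar heB
  unfold pC
  rw [hpar.1 (hB heB).2, cond_false]
  have h1 := hc _ heB
  rw [w_pow, ← ec_mulU, ← ec_mulU] at h1
  rw [ec_inj (mulU_lt (by norm_num) e) (mulU_lt he _) h1]
  exact Nat.beq_refl _

theorem exists_elem : ∃ V : Subgroup ↥TT, Nat.card V = 32 ∧ ∀ u ∈ V, u * u = 1 := by
  refine ⟨A1T.subgroupOf TT, ?_, ?_⟩
  · rw [Nat.card_congr (Subgroup.subgroupOfEquivOfLe (A1T_le.trans inf_le_right)).toEquiv, card_A1T]
    norm_num
  · intro u hu
    exact Subtype.ext (sq_A1T (mem_subgroupOf.1 hu))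

theorem ab3_gen {X : Type} [Group X] (D : H87.TitsAbs.Dat X) (O : CpAutTits.Row.Out X)
    (hP : ∃ P : Subgroup X, Nat.card P = 25 ∧ ∀ a ∈ P, a ^ 5 = 1) {S : Type} [Group S] (e : S ≃* X) (h512 : Fb 512 S)
    (hV : ∃ V : Subgroup S, Nat.card V = 32 ∧ ∀ u ∈ V, u * u = 1) : Ab3 S := by
  obtain ⟨D⟩ := exists_data D O hP e hV
  have hfin : Finite X := by
    apply Nat.finite_of_card_ne_zero
    rw [D.card]
    norm_num
  exact (ab3_of D (h512.congr e)).congr e.symm

theorem ab3_model {S : Type} [Group S] (h : Nonempty (S ≃* Cfsg.Lie.TitsGroup)) (h512 : Fb 512 S)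
    (hV : ∃ V : Subgroup S, Nat.card V = 32 ∧ ∀ u ∈ V, u * u = 1) : Ab3 S := by
  obtain ⟨e⟩ := h
  obtain ⟨D⟩ := H87.TitsData.dat_tits
  exact ab3_gen D (CpAutTits.Row.out ⟨MulEquiv.refl _⟩) H20.FrobTitsInst.exists_P e h512 hV

theorem equiv_TT' {N : Type*} [Group N] (h : Cfsg.Lie.IsoTits N) : Nonempty (↥TT ≃* N) := by
  obtain ⟨e⟩ := h
  obtain ⟨e'⟩ := exists_equiv
  exact ⟨(e.trans e').symm⟩

theorem ab3_TT : Ab3 ↥TT := by
  obtain ⟨e⟩ := exists_equiv
  exact ab3_model ⟨e.symm⟩ fb_TT exists_elem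

end

end TitsR

/-- **The abelian subgroups of the Tits group.** -/
theorem ab3_Tits {G : Type*} [Group G] [Finite G] [IsSimpleGroup G] (h : Cfsg.Lie.IsoTits G) : Ab3 G := by
  exact ab3_of_sub TitsR.ab3_TT (TitsR.equiv_TT' h)

end Cfsg.Agent.H805.Ab
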