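import Mathlib
import Cfsg.Agent.H805.MSym
import Cfsg.Agent.H805.QTwo
import Cfsg.Agent.Fischer891.FinalO
import Cfsg.Agent.SporadicStructure.OrthTransTwo
import Cfsg.Agent.S1629
import Cfsg.Agent.S1630

set_option autoImplicit false

/-!
# S5368: the orthogonal groups over the field with two elements
-/

namespace Cfsg.Agent.H805.MOrth

open Cfsg Cfsg.Agent.SporadicStructure.FischerSpace Cfsg.Agent.Fischer480.Defs
open Cfsg.Agent.ThreeTransPolar.Basic Cfsg.Agent.SporadicStructure.OrthTransTwo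
open Cfsg.Agent.Fischer891.OUp Cfsg.Agent.Fischer891.FinalO

open scoped Matrix MatrixGroups

section

variable {ι : Type} [Fintype ι] [DecidableEq ι]
  {Q : (ι → ZMod 2) → ZMod 2} {B : (ι → ZMod 2) → (ι → ZMod 2) → ZMod 2}

theorem tau_injective (h : IsNdForm Q B) {v w : ι → ZMod 2} (hv : Q v = 1) (hw : Q w = 1)
    (e : tau h v hv = tau h w hw) : v = w := by
  obtain ⟨y, hy⟩ := exists_B_eq_one h (ne_zero_of_Q h hv)
  have h1 : act (tau h v hv) y = act (tau h w hw) y := by rw [e]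
  rw [act_tau, act_tau, hy, one_smul] at h1
  have h2 := add_left_cancel h1
  rcases z_cases (B w y) with h3 | h3
  · rw [h3, zero_smul] at h2
    exact absurd h2 (ne_zero_of_Q h hv)
  · rw [h3, one_smul] at h2
    exact h2

theorem center_eq_bot (h : IsNdForm Q B) (hcard : 5 ≤ Fintype.card ι) :
    Subgroup.center (isometryGroup (ZMod 2) Q) = ⊥ := by
  rw [eq_bot_iff]
  intro g hg
  rw [Subgroup.mem_center_iff] at hg
  rw [Subgroup.mem_bot]
  have key : ∀ w, Q w = 1 → act g w = w := by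
    intro w hw
    have h1 := conj_tau h g w hw
    rw [← hg, mul_assoc, mul_inv_cancel, mul_one] at h1
    exact (tau_injective h hw _ h1).symm
  apply act_ext
  intro x
  rw [act_one]
  rcases z_cases (Q x) with hx | hx
  · obtain ⟨w, hw, -, hqw⟩ := exists_Q_eq_one h hcard x x
    have h1 := key (w + x) (by rw [h.hQ, hqw, hx, B_symm h, hw]; decide)
    rw [act_add, key w hqw] at h1
    exact add_left_cancel h1
  · exact key x hx

end

section

variable {G : Type*} [Group G] {D : Set G} {n : ℕ}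
  {Q : QuadraticForm (ZMod 2) (Fin (2 * n) → ZMod 2)} {f : G → Fin (2 * n) → ZMod 2}
variable {ι : Type} [Fintype ι] [DecidableEq ι]
  {Q' : (ι → ZMod 2) → ZMod 2} {B' : (ι → ZMod 2) → (ι → ZMod 2) → ZMod 2}

theorem f_cj (h : FData D) (C : OChart n D Q f) (hn : 3 ≤ n) : ∀ d ∈ D, ∀ y ∈ D,
    f (cj d y) = tv Q (f d) (f y) := by
  intro d hd y hy
  rw [tv_apply]
  by_cases hc : Commute d y
  · rw [cj_of_commute hc]
    have h1 : QuadraticMap.polar Q (f y) (f d) = 0 := (C.comm y hy d hd).1 hc.symm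
    rw [h1, zero_smul, add_zero]
  · rw [third_eq h C hn hd hy hc]
    have h1 : QuadraticMap.polar Q (f y) (f d) = 1 := by
      rcases z_cases (QuadraticMap.polar Q (f y) (f d)) with h2 | h2
      · exact absurd ((C.comm y hy d hd).2 h2).symm hc
      · exact h2
    rw [h1, one_smul, add_comm]

theorem exists_iso_form (h' : IsNdForm Q' B') (hcard : 5 ≤ Fintype.card ι)
    (hcls : IsThreeTranspositionClass {g : isometryGroup (ZMod 2) Q' |
      (((g : GL ι (ZMod 2)) : Matrix ι ι (ZMod 2)) - 1).rank = 1})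
    (h : FData D) (hz : Subgroup.center G = ⊥) (hn : 3 ≤ n) (C : OChart n D Q f)
    (e : (ι → ZMod 2) ≃ₗ[ZMod 2] (Fin (2 * n) → ZMod 2)) (he : ∀ x, Q (e x) = Q' x) :
    ∃ E : G ≃* isometryGroup (ZMod 2) Q', E '' D = {g : isometryGroup (ZMod 2) Q' |
      (((g : GL ι (ZMod 2)) : Matrix ι ι (ZMod 2)) - 1).rank = 1} := by
  have hB : ∀ x y, B' x y = QuadraticMap.polar Q (e x) (e y) := by
    intro x y
    rw [B_eq h', ← he, ← he, ← he, map_add]
    show _ = Q (e x + e y) - Q (e x) - Q (e y)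
    generalize Q (e x + e y) = a
    generalize Q (e x) = b
    generalize Q (e y) = c
    revert a b c
    decide
  have hq : ∀ x ∈ D, Q' (e.symm (f x)) = 1 := by
    intro x hx
    rw [← he, e.apply_symm_apply, C.one x hx]
  have h₂ : FData {g : isometryGroup (ZMod 2) Q' |
      (((g : GL ι (ZMod 2)) : Matrix ι ι (ZMod 2)) - 1).rank = 1} := fdata_of_class hcls
  let φ₀ : ↥D → ↥{g : isometryGroup (ZMod 2) Q' |
      (((g : GL ι (ZMod 2)) : Matrix ι ι (ZMod 2)) - 1).rank = 1} := fun x =>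
    ⟨tau h' (e.symm (f x)) (hq x x.2), rank_tau h' _ _⟩
  have hbij : Function.Bijective φ₀ := by
    constructor
    · intro x y hxy
      have h1 : tau h' (e.symm (f x)) (hq x x.2) = tau h' (e.symm (f y)) (hq y y.2) :=
        congrArg Subtype.val hxy
      have h2 := tau_injective h' _ _ h1
      exact Subtype.ext (C.inj x x.2 y y.2 (e.symm.injective h2))
    · rintro ⟨g, hg⟩
      obtain ⟨w, hw, rfl⟩ := eq_tau_of_rank h' g hg
      obtain ⟨x, hx, hfx⟩ := C.surj (e w) (by rw [he]; exact hw)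
      refine ⟨⟨x, hx⟩, Subtype.ext ?_⟩
      exact tau_congr h' (hq x hx) hw (by rw [hfx, e.symm_apply_apply])
  refine MSym.exists_iso h h₂ hz (center_eq_bot h' hcard) (Equiv.ofBijective φ₀ hbij) ?_
  intro a b
  show tau h' (e.symm (f (cj (a : G) b))) (hq _ (cj_mem h b.2)) =
    tau h' (e.symm (f a)) (hq a a.2) * tau h' (e.symm (f b)) (hq b b.2) *
      (tau h' (e.symm (f a)) (hq a a.2))⁻¹
  rw [conj_tau]
  apply tau_congr
  rw [act_tau, f_cj h C hn a a.2 b b.2, tv_apply, map_add, map_smul, hB, e.apply_symm_apply,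
    e.apply_symm_apply, QuadraticMap.polar_comm]

theorem isNdForm_minus (m : ℕ) : ∃ B, IsNdForm (quadFormMinus m (ZMod 2) 1 1) B := by
  refine ⟨fun x y => QuadraticMap.polar
    (Cfsg.Agent.LieClassical.QuadForms.minusForm m (ZMod 2) 1 1) x y, ?_, ?_, ?_⟩
  · intro x y
    rw [← Cfsg.Agent.LieClassical.QuadForms.coe_minusForm]
    exact QuadraticMap.map_add _ x y
  · intro x y z
    exact QuadraticMap.polar_add_left _ x y z
  · intro u h
    have h1 : (fun i => u (.inl i)) = (0 : Fin m ⊕ Fin m → ZMod 2) := by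
      refine Cfsg.Agent.LieClassical.QuadForms.polar_plusForm_nondeg m _ fun w => ?_
      have := h (Sum.elim w 0)
      rw [Cfsg.Agent.LieClassical.QuadForms.polar_minusForm] at this
      have h0 : (fun i : Fin 2 => (Sum.elim w 0 : (Fin m ⊕ Fin m) ⊕ Fin 2 → ZMod 2) (Sum.inr i)) = 0 := rfl
      rw [h0, QuadraticMap.polar_zero_right, add_zero] at this
      exact this
    have h2 : ∀ w : Fin 2 → ZMod 2, u (.inr 0) * w 1 + u (.inr 1) * w 0 = 0 := by
      intro w
      have := h (Sum.elim 0 w)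
      rw [Cfsg.Agent.LieClassical.QuadForms.polar_minusForm] at this
      have h0 : (fun i : Fin m ⊕ Fin m => (Sum.elim 0 w : (Fin m ⊕ Fin m) ⊕ Fin 2 → ZMod 2) (Sum.inl i)) = 0 := rfl
      rw [h0, QuadraticMap.polar_zero_right, zero_add,
        Cfsg.Agent.LieClassical.QuadForms.polar_binForm] at this
      have h2 : (2 : ZMod 2) = 0 := by decide
      simpa [h2] using this
    have h3 : u (.inr 0) = 0 := by simpa using h2 (Pi.single 1 1)
    have h4 : u (.inr 1) = 0 := by simpa using h2 (Pi.single 0 1)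
    funext i
    rcases i with i | i
    · exact congrFun h1 i
    · fin_cases i
      · exact h3
      · exact h4

/-- **Type `O(2n)`.** -/
theorem exists_iso_orth (h : FData D) (hz : Subgroup.center G = ⊥) (hn : 3 ≤ n)
    (hO : IsO n D) :
    (∃ m : ℕ, 3 ≤ m ∧ ∃ e : G ≃* ↥(Cfsg.isometryGroup (ZMod 2) (Cfsg.quadFormPlus m (ZMod 2))), e '' D = {g : ↥(Cfsg.isometryGroup (ZMod 2) (Cfsg.quadFormPlus m (ZMod 2))) | (((g : GL (Fin m ⊕ Fin m) (ZMod 2)) : Matrix (Fin m ⊕ Fin m) (Fin m ⊕ Fin m) (ZMod 2)) - 1).rank = 1}) ∨ (∃ m : ℕ, 2 ≤ m ∧ ∃ e : G ≃* ↥(Cfsg.isometryGroup (ZMod 2) (Cfsg.quadFormMinus m (ZMod 2) 1 1)), e '' D = {g : ↥(Cfsg.isometryGroup (ZMod 2) (Cfsg.quadFormMinus m (ZMod 2) 1 1)) | (((g : GL ((Fin m ⊕ Fin m) ⊕ Fin 2) (ZMod 2)) : Matrix ((Fin m ⊕ Fin m) ⊕ Fin 2) ((Fin m ⊕ Fin m) ⊕ Fin 2) (ZMod 2)) - 1).rank = 1}) := by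
  obtain ⟨Q, f, C⟩ := isO_iff.1 hO
  rcases QTwo.classify n Q C.nondeg (by rw [Module.finrank_fin_fun]) with ⟨e, he⟩ | ⟨m, hm, e, he⟩
  · left
    refine ⟨n, hn, exists_iso_form (Cfsg.Agent.S1629.isNdForm_plus n) ?_
      (Cfsg.Agent.S1629.result n hn) h hz hn C e ?_⟩
    · rw [Fintype.card_sum, Fintype.card_fin]; omega
    · intro x
      rw [he, Cfsg.Agent.LieClassical.QuadForms.coe_plusForm]
  · right
    obtain ⟨B, hB⟩ := isNdForm_minus m
    refine ⟨m, by omega, exists_iso_form hB ?_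
      (Cfsg.Agent.S1630.result m (by omega)) h hz hn C e ?_⟩
    · simp only [Fintype.card_sum, Fintype.card_fin]; omega
    · intro x
      rw [he, Cfsg.Agent.LieClassical.QuadForms.coe_minusForm]

end

end Cfsg.Agent.H805.MOrth
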