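import Mathlib
import Cfsg.Agent.H805.MTwentyFour
import Cfsg.Agent.H805.MOrth
import Cfsg.Agent.H805.MSym
import Cfsg.Agent.Fischer480.AllPieces
import Cfsg.Agent.Fischer891.Cases

set_option autoImplicit false

/-!
# S5368: the models of the classes in the list
-/

namespace Cfsg.Agent.H805.Main

open Cfsg Cfsg.Agent.SporadicStructure.FischerSpace
open Cfsg.Agent.ThreeTransPolar.Basic
open Cfsg.Agent.Fischer480.Defs
open Cfsg.Agent.Fischer919.OmegaR
open Cfsg.Agent.Fischer3.Orth3Basic (Form)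
open Cfsg.Agent.H805.MTypes (center_of_sol)

variable {G : Type*} [Group G] {D : Set G}

/-- the type `R n`, in the terms of the reflections of norm one -/
theorem exists_iso_isR {n : ℕ} (h : FData D) (hz : Subgroup.center G = ⊥) (hn : 6 ≤ n)
    (hR : IsR n D) :
    ∃ Q : QuadraticForm (ZMod 3) (Fin n → ZMod 3), (QuadraticMap.polarBilin Q).Nondegenerate ∧ ∃ c : ZMod 3, c ≠ 0 ∧ ∃ e : G ≃* ↥(Cfsg.reflectionSubgroup (⇑Q) c) ⧸ Subgroup.center ↥(Cfsg.reflectionSubgroup (⇑Q) c), e '' D = (QuotientGroup.mk : ↥(Cfsg.reflectionSubgroup (⇑Q) c) → _) '' {g : ↥(Cfsg.reflectionSubgroup (⇑Q) c) | (g : ↥(Cfsg.isometryGroup (ZMod 3) (⇑Q))) ∈ Cfsg.reflectionsOfNorm (⇑Q) c} := by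
  obtain ⟨B, f, hS, hB, h1, h2, h3, h4⟩ := hR
  have F : Form B := ⟨hS.eq, hB.1⟩
  exact ⟨QB B, MSpU.polarBilin_nondeg F hB, 1, by decide,
    MSpU.exists_iso_refl h hz hn F f h1 h2 h3 h4⟩

end Cfsg.Agent.H805.Main
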