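import Cfsg.Agent.H805.NilMcL
import Cfsg.Agent.CpAutHe.Seven
import Cfsg.Agent.H997.OutHe2
import Cfsg.Agent.H547.SelfCent.He

/-!
# Nilpotent subgroups of He (helper805, task 428 for S2242)

`small_He` : `|N| ^ 2 < |G|` for nilpotent `N`.
-/

set_option autoImplicit false

namespace Cfsg.Agent.H805.NilSp

open Cfsg Subgroup Cfsg.Agent.H972 Cfsg.Agent.H972.NSm
open scoped Pointwise

universe u

/-- a nilpotent subgroup with a full Sylow `p`-subgroup: its other Sylow subgroups have orders dividing the orders of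
all centralizers of elements of order `p` -/
theorem dvd_cent_of_full {G : Type*} [Group G] [Finite G] {p q k b : ℕ} (hp : p.Prime) (hq : q.Prime) (hpq : p ≠ q)
    (hk : ¬ p ^ (k + 1) ∣ Nat.card G) {N : Subgroup G} (hN : Group.IsNilpotent ↥N) (h1 : p ^ k ∣ Nat.card ↥N)
    (h2 : q ^ b ∣ Nat.card ↥N) {y : G} (hy : orderOf y = p) :
    q ^ b ∣ Nat.card ↥(centralizer ({y} : Set G)) := by
  have hpf : Fact p.Prime := ⟨hp⟩
  obtain ⟨T, Q, hT, hQ, hTQ⟩ := exists_sylow_pair hN hp hq hpq h1 h2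
  have hTp : IsPGroup p ↥T := IsPGroup.of_card hT
  have hidx : ¬ p ∣ T.index := by
    intro h
    apply hk
    rw [← Subgroup.card_mul_index T, hT, pow_succ]
    exact Nat.mul_dvd_mul_left _ h
  let P : Sylow p G := hTp.toSylow hidx
  have hyp : IsPGroup p ↥(zpowers y) := IsPGroup.of_card (n := 1) (by rw [Nat.card_zpowers, hy, pow_one])
  obtain ⟨P', hP'⟩ := hyp.exists_le_sylow
  obtain ⟨g, hg⟩ := MulAction.exists_smul_eq G P P'
  have h3 : y ∈ (P' : Subgroup G) := hP' (mem_zpowers y)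
  rw [← hg] at h3
  have h4 : g⁻¹ * y * g ∈ T := by
    rw [Sylow.coe_subgroup_smul] at h3
    rw [Subgroup.mem_pointwise_smul_iff_inv_smul_mem] at h3
    have h5 : g⁻¹ * y * g ∈ (P : Subgroup G) := by simpa [MulAut.smul_def] using h3
    exact h5
  have h5 : Q ≤ centralizer ({g⁻¹ * y * g} : Set G) := by
    intro s hs
    exact mem_centralizer_singleton_iff.2 (hTQ _ h4 s hs).symm
  have h6 := Subgroup.card_dvd_of_le h5
  rw [hQ] at h6
  rwa [card_cent_isConj (t := y) (y := g⁻¹ * y * g) (isConj_iff.2 ⟨g⁻¹, by group⟩)] at h6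

open Cfsg.Spor.He Cfsg.Agent.SporadicB.HePerm Cfsg.Agent.FixBN.HeStab

theorem small_He' : NSm.Small Spor.He := by
  have hc : Nat.card Spor.He = 4030387200 := KFacts.He.Classes.card_he
  have hf : Finite Spor.He := Nat.finite_of_card_ne_zero (by rw [hc]; norm_num)
  intro N hN
  by_cases hN2 : 2 ∣ Nat.card ↥N
  · by_cases hN7 : 7 ∣ Nat.card ↥N
    · obtain ⟨x, hx, hxN, hle⟩ := exists_le_centralizer hN (by norm_num : Nat.Prime 7) hN7
      have h1 : Nat.card ↥(centralizer ({x} : Set Spor.He)) ≤ 1176 := by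
        refine CpAutHe.Seven.card_le hx ?_
        rw [Nat.not_odd_iff_even, even_iff_two_dvd]
        exact hN2.trans (Subgroup.card_dvd_of_le hle)
      have h2 := (Nat.le_of_dvd Nat.card_pos (Subgroup.card_dvd_of_le hle)).trans h1
      rw [hc]
      exact (Nat.pow_le_pow_left h2 2).trans_lt (by norm_num)
    · obtain ⟨x, hx, hxN, hle⟩ := exists_le_centralizer hN Nat.prime_two hN2
      have hxx : x * x = 1 := by rw [← pow_two, ← hx, pow_orderOf_eq_one]
      have hx1 : x ≠ 1 := by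
        rintro rfl
        rw [orderOf_one] at hx
        omega
      have h1 : Nat.card ↥N ∣ 161280 ∨ Nat.card ↥N ≤ 21504 := by
        rcases KFacts.He.Classes.two_classes_a hxx hx1 with ⟨g, hg⟩ | ⟨g, hg⟩
        · right
          have h2 := Subgroup.card_dvd_of_le hle
          rw [← hg, card_cent_isConj (isConj_iff.2 ⟨g, rfl⟩), KFacts.He.Classes.card_centralizer] at h2
          exact Nat.le_of_dvd (by norm_num) h2
        · left
          have h2 := Subgroup.card_dvd_of_le hle
          rw [← hg, card_cent_isConj (isConj_iff.2 ⟨g, rfl⟩)] at h2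
          exact h2.trans H997.OutHe.card_cent_a
      have h3 : Nat.card ↥N ≤ 23040 := by
        rcases h1 with h1 | h1
        · have h2 : Nat.card ↥N ∣ 7 * 23040 := h1
          exact Nat.le_of_dvd (by norm_num)
            (((Nat.Prime.coprime_iff_not_dvd (by norm_num : Nat.Prime 7)).2 hN7).symm.dvd_of_dvd_mul_left h2)
        · exact h1.trans (by norm_num)
      rw [hc]
      exact (Nat.pow_le_pow_left h3 2).trans_lt (by norm_num)
  by_cases hN17 : 17 ∣ Nat.card ↥N
  · obtain ⟨x, hx, hxN, hle⟩ := exists_le_centralizer hN (by norm_num : Nat.Prime 17) hN17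
    have h2 := Nat.le_of_dvd Nat.card_pos (Subgroup.card_dvd_of_le hle)
    rw [H547.SelfCent.HeRow.he ⟨MulEquiv.refl _⟩ hc hx] at h2
    rw [hc]
    exact (Nat.pow_le_pow_left h2 2).trans_lt (by norm_num)
  have hdv : Nat.card ↥N ∣ 4030387200 := by rw [← hc]; exact card_subgroup_dvd_card N
  have h3 : Nat.card ↥N ∣ 231525 := by
    have e1 : Nat.card ↥N ∣ 2 ^ 10 * (17 * 231525) := by norm_num; exact hdv
    have e2 := (((Nat.Prime.coprime_iff_not_dvd Nat.prime_two).2 hN2).symm.pow_right 10).dvd_of_dvd_mul_left e1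
    exact ((Nat.Prime.coprime_iff_not_dvd (by norm_num : Nat.Prime 17)).2 hN17).symm.dvd_of_dvd_mul_left e2
  by_contra hlt
  push Not at hlt
  rw [hc] at hlt
  obtain ⟨c, hcc⟩ := h3
  have hc3 : c ≤ 3 := by
    by_contra hc4
    push Not at hc4
    have h4 : Nat.card ↥N * 4 ≤ 231525 := by
      calc Nat.card ↥N * 4 ≤ Nat.card ↥N * c := Nat.mul_le_mul_left _ hc4
        _ = 231525 := hcc.symm
    have h5 : Nat.card ↥N ≤ 57881 := by omega
    have h6 : Nat.card ↥N ^ 2 ≤ 57881 ^ 2 := Nat.pow_le_pow_left h5 2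
    norm_num at h6
    omega
  have hN' : Nat.card ↥N = 231525 ∨ Nat.card ↥N = 77175 := by
    have : c = 0 ∨ c = 1 ∨ c = 2 ∨ c = 3 := by omega
    rcases this with rfl | rfl | rfl | rfl <;> omega
  have hk : ¬ 7 ^ (3 + 1) ∣ Nat.card Spor.He := by rw [hc]; norm_num
  have h5 := dvd_cent_of_full (p := 7) (q := 5) (k := 3) (b := 2) (by norm_num) (by norm_num) (by norm_num) hk hN
    (by rcases hN' with h | h <;> rw [h] <;> norm_num) (by rcases hN' with h | h <;> rw [h] <;> norm_num)
    CpAutHe.Seven.order1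
  have h9 := dvd_cent_of_full (p := 7) (q := 3) (k := 3) (b := 2) (by norm_num) (by norm_num) (by norm_num) hk hN
    (by rcases hN' with h | h <;> rw [h] <;> norm_num) (by rcases hN' with h | h <;> rw [h] <;> norm_num)
    CpAutHe.Seven.order1
  have h225 : 5 ^ 2 * 3 ^ 2 ∣ Nat.card ↥(centralizer ({CpAutHe.Seven.x1} : Set Spor.He)) :=
    Nat.Coprime.mul_dvd_of_dvd_of_dvd (by norm_num) h5 h9
  have h6 := Nat.le_of_dvd Nat.card_pos h225
  have h7 : Nat.card ↥(centralizer ({CpAutHe.Seven.x1} : Set Spor.He)) ≤ 196 := CpAutHe.Bound.card1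
  norm_num at h6
  omega

theorem small_He {G : Type u} [Group G] [Finite G] (h : Cfsg.Spor.IsoHe G)
    (_hI : ∀ (H : Type u) [Group H] [Finite H], IsSimpleGroup H → ¬ IsMulCommutative H → Nat.card H < Nat.card G →
      NSm.Small H) : NSm.Small G := by
  obtain ⟨e⟩ := h
  exact small_He'.congr e.symm

end Cfsg.Agent.H805.NilSp
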