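import Cfsg.Agent.H805.NilJanko
import Cfsg.Agent.H859.BigCent
import Cfsg.Agent.H858.CentS

/-!
# Nilpotent subgroups of J4 (helper805, task 427 for S2242)

`small_J4` : `|N| ^ 2 < |G|` for nilpotent `N`.
-/

set_option autoImplicit false

namespace Cfsg.Agent.H805.NilSp

open Cfsg Subgroup Cfsg.Agent.H972 Cfsg.Agent.H972.NSm
open Cfsg.Agent.J4Type

universe u

theorem card_J4' : Nat.card Spor.J4 = 86775571046077562880 := Cfsg.Agent.S1703.result.2

/-- the centralizers of the involutions of `J4` -/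
theorem cent_two_J4 {u : Spor.J4} (hu : orderOf u = 2) :
    Nat.card ↥(centralizer ({u} : Set Spor.J4)) ∣ 2 ^ 21 * 3 ^ 3 * 5 * 7 * 11 * 23 := by
  have hfin : Finite Spor.J4 := Nat.finite_of_card_ne_zero (by rw [card_J4']; norm_num)
  have hs : IsSimpleGroup Spor.J4 := Cfsg.Agent.S1703.result.1
  obtain ⟨t, Q, N, M, H⟩ := KFacts.J4.Transport.exists_hyp_of_iso (K := Spor.J4) ⟨MulEquiv.refl _⟩
  have hct := H858.CentS.card_cent H
  obtain ⟨C, -, hz, -⟩ := H856.Bridge.exists_compl_of_hyp H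
  have h0 : (none : GolayPt) ≠ some 0 := by decide
  have hnc := C.duad_not_conj none (some 0) h0
  have hz1 : C.z ≠ 1 := H856.CentRho.z_ne C
  have hzz : C.z * C.z = 1 := H856.CentRho.zz C
  have he1 : C.ε {none, some 0} ≠ 1 := DuadUniq.duad_ne_one C.toFrame h0
  have hH := FusionConj.isHex_hex0
  have hee : C.ε {none, some 0} * C.ε {none, some 0} = 1 :=
    (C.E_elem hex0 hH).1 _ (C.ε_mem _ (by rw [Finset.card_pair h0]; decide))
  have huu : u * u = 1 := by rw [← pow_two, ← hu, pow_orderOf_eq_one]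
  have hu1 : u ≠ 1 := by
    rintro rfl
    rw [orderOf_one] at hu
    exact absurd hu (by norm_num)
  have isJ4 := H859.BigPrime.isJ4
  have hcls : IsConj u C.z ∨ IsConj u (C.ε {none, some 0}) := by
    rcases Final.invol isJ4 u huu hu1 with h | h <;> rcases Final.invol isJ4 _ hzz hz1 with hz | hz <;>
      rcases Final.invol isJ4 _ hee he1 with he | he
    · exact absurd (hz.trans he.symm) hnc
    · exact Or.inl (h.trans hz.symm)
    · exact Or.inr (h.trans he.symm)
    · exact absurd (hz.trans he.symm) hnc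
    · exact absurd (hz.trans he.symm) hnc
    · exact Or.inr (h.trans he.symm)
    · exact Or.inl (h.trans hz.symm)
    · exact absurd (hz.trans he.symm) hnc
  rcases hcls with h | h
  · rw [card_cent_isConj h.symm, hz, hct]
    norm_num
  · rw [card_cent_isConj h.symm]
    have hle : centralizer ({C.ε {none, some 0}} : Set Spor.J4) ≤ normalizer (C.E hex0 : Set Spor.J4) := fun y hy =>
      DuadCent.duad_cent C.toFrame h0 (mem_centralizer_singleton_iff.1 hy)
    refine (card_dvd_of_le hle).trans ?_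
    have h1 := C.π.ker.card_mul_index
    rw [Subgroup.index_ker] at h1
    have h2 : C.π.ker = (C.E hex0).subgroupOf (normalizer (C.E hex0 : Set Spor.J4)) := by
      ext n
      rw [MonoidHom.mem_ker, C.π_ker, mem_subgroupOf]
    have h3 : Nat.card ↥((C.E hex0).subgroupOf (normalizer (C.E hex0 : Set Spor.J4))) = 2 ^ 11 := by
      rw [Nat.card_congr (subgroupOfEquivOfLe le_normalizer).toEquiv, C.E_card hex0 hH]
    rw [h2, h3] at h1
    rw [← h1, show (2 : ℕ) ^ 21 * 3 ^ 3 * 5 * 7 * 11 * 23 = 2 ^ 11 * 244823040 by norm_num]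
    refine Nat.mul_dvd_mul_left _ ?_
    rw [← Cfsg.Agent.SporadicA.M24Trans.card_M24]
    exact card_subgroup_dvd_card _

theorem cent_seven_J4 {x : Spor.J4} (hx : orderOf x = 7) :
    Nat.card ↥(centralizer ({x} : Set Spor.J4)) ∣ 2520 := by
  rw [← H859.BigCent.card_normalizer_seven (P := zpowers x) (by rw [Nat.card_zpowers, hx])]
  refine card_dvd_of_le ?_
  intro g hg
  have hgx : Commute g x := mem_centralizer_singleton_iff.1 hg
  rw [mem_normalizer_iff]
  intro h
  constructor
  · intro hh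
    obtain ⟨k, rfl⟩ := mem_zpowers_iff.1 hh
    rw [(hgx.zpow_right k).eq, mul_inv_cancel_right]
    exact hh
  · intro hh
    obtain ⟨k, hk⟩ := mem_zpowers_iff.1 hh
    have h1 : h = x ^ k := by
      have h2 : g⁻¹ * (g * h * g⁻¹) * g = g⁻¹ * x ^ k * g := by rw [hk]
      have h3 : g⁻¹ * (g * h * g⁻¹) * g = h := by group
      rw [← h3, h2, (hgx.zpow_right k).inv_left.eq, inv_mul_cancel_right]
    rw [h1]
    exact zpow_mem (mem_zpowers x) k

/-- the divisors of `|J4|_{2'}` less than 4442 -/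
def LJ4 : List ℕ := [1, 3, 5, 7, 9, 11, 15, 21, 23, 27, 29, 31, 33, 35, 37, 43, 45, 55, 63, 69, 77, 87, 93, 99, 105, 111, 115,
    121, 129, 135, 145, 155, 161, 165, 185, 189, 203, 207, 215, 217, 231, 253, 259, 261, 279, 297, 301, 315, 319,
    333, 341, 345, 363, 385, 387, 407, 435, 465, 473, 483, 495, 555, 605, 609, 621, 645, 651, 667, 693, 713, 759,
    777, 783, 805, 837, 847, 851, 899, 903, 945, 957, 989, 999, 1015, 1023, 1035, 1073, 1085, 1089, 1147, 1155,
    1161, 1221, 1247, 1265, 1295, 1305, 1331, 1333, 1395, 1419, 1449, 1485, 1505, 1591, 1595, 1665, 1705, 1771,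
    1815, 1827, 1935, 1953, 2001, 2035, 2079, 2139, 2233, 2277, 2331, 2365, 2387, 2415, 2541, 2553, 2697, 2709,
    2783, 2849, 2871, 2967, 3045, 3069, 3105, 3219, 3255, 3267, 3311, 3335, 3441, 3465, 3509, 3565, 3663, 3741,
    3751, 3795, 3885, 3915, 3993, 3999, 4185, 4235, 4255, 4257, 4347]

theorem small_J4' : NSm.Small Spor.J4 := by
  have hc := card_J4'
  have hf : Finite Spor.J4 := Nat.finite_of_card_ne_zero (by rw [hc]; norm_num)
  have hs : IsSimpleGroup Spor.J4 := Cfsg.Agent.S1703.result.1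
  have h7 : SmallAt 7 Spor.J4 := smallAt_of_le (b := 2520) (by norm_num) (by rw [hc]; norm_num)
    fun x hx => Nat.le_of_dvd (by norm_num) (cent_seven_J4 hx)
  have hno2 : ∀ p : ℕ, p.Prime → 23 ≤ p → NoComm p 2 Spor.J4 := fun p hp h23 x y hx hy hxy =>
    H859.BigPrime.not_comm_two hp h23 hx hy hxy.eq
  have h2 : SmallAt 2 Spor.J4 := by
    intro N hN h2N
    by_cases h7N : 7 ∣ Nat.card ↥N
    · exact h7 N hN h7N
    obtain ⟨x, hx, -, hle⟩ := exists_le_centralizer hN Nat.prime_two h2N
    have h23 : ¬ 23 ∣ Nat.card ↥N := fun h =>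
      not_dvd_of_noComm (s := 23) (by norm_num) (hno2 23 (by norm_num) le_rfl).symm hx
        (h.trans (card_dvd_of_le hle))
    have hd : Nat.card ↥N ∣ 2 ^ 21 * 3 ^ 3 * 5 * 11 := by
      have h1 := (card_dvd_of_le hle).trans (cent_two_J4 hx)
      rw [show (2 : ℕ) ^ 21 * 3 ^ 3 * 5 * 7 * 11 * 23 = (2 ^ 21 * 3 ^ 3 * 5 * 11) * 7 * 23 by ring] at h1
      have h3 := Nat.Coprime.dvd_of_dvd_mul_right
        ((Nat.Prime.coprime_iff_not_dvd (by norm_num)).2 h23).symm h1
      exact Nat.Coprime.dvd_of_dvd_mul_right ((Nat.Prime.coprime_iff_not_dvd (by norm_num)).2 h7N).symm h3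
    have hle' := Nat.le_of_dvd (by norm_num) hd
    rw [hc]
    exact (Nat.pow_le_pow_left hle' 2).trans_lt (by norm_num)
  refine small_of_chk 21 41377816699065 4442 (by rw [hc]; norm_num) (by norm_num) (by norm_num) [7]
    [23, 29, 31, 37, 43] [(3, 23)] LJ4 (by decide +kernel) ?_ ?_ ?_ h2 (by decide +kernel)
  · intro r hr
    rw [List.mem_singleton] at hr
    subst hr
    exact h7
  · intro r hr
    simp only [List.mem_cons, List.not_mem_nil, or_false] at hr
    rcases hr with rfl | rfl | rfl | rfl | rfl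
    · exact ⟨by norm_num, by norm_num, by norm_num, hno2 _ (by norm_num) (by norm_num)⟩
    · exact ⟨by norm_num, by norm_num, by norm_num, hno2 _ (by norm_num) (by norm_num)⟩
    · exact ⟨by norm_num, by norm_num, by norm_num, hno2 _ (by norm_num) (by norm_num)⟩
    · exact ⟨by norm_num, by norm_num, by norm_num, hno2 _ (by norm_num) (by norm_num)⟩
    · exact ⟨by norm_num, by norm_num, by norm_num, hno2 _ (by norm_num) (by norm_num)⟩
  · intro p hp
    rw [List.mem_singleton] at hp
    subst hp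
    exact ⟨by norm_num, by norm_num, fun x y hx hy hxy =>
      H859.BigPrime.not_comm_three (p := 23) (by norm_num) le_rfl hy hx hxy.symm.eq⟩

theorem small_J4 {G : Type u} [Group G] [Finite G] (h : Cfsg.Spor.IsoJ4 G)
    (_hI : ∀ (H : Type u) [Group H] [Finite H], IsSimpleGroup H → ¬ IsMulCommutative H → Nat.card H < Nat.card G →
      NSm.Small H) : NSm.Small G := by
  obtain ⟨e⟩ := h
  exact small_J4'.congr e.symm

end Cfsg.Agent.H805.NilSp
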