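import Cfsg.Agent.H805.NilSp
import Cfsg.Agent.H413.JOneSpec
import Cfsg.Agent.H379.J2Spec
import Cfsg.Agent.KFacts.J2.Facts
import Cfsg.Agent.H898.J3Cent
import Cfsg.Agent.NotCT.Orders

/-!
# Nilpotent subgroups of J1, J2, J3 (helper805, task 427 for S2242)

`small_J1`, `small_J2`, `small_J3` : `|N| ^ 2 < |G|` for nilpotent `N`.
-/

set_option autoImplicit false

namespace Cfsg.Agent.H805.NilSp

open Cfsg Subgroup Cfsg.Agent.H972 Cfsg.Agent.H972.NSm

universe u

/-! ### J1 -/

theorem small_J1' : NSm.Small Spor.J1 := by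
  have hs : IsSimpleGroup Spor.J1 := Cfsg.Agent.SporadicB.J1.Main.isJ1.1
  have hc : Nat.card Spor.J1 = 175560 := Cfsg.Agent.SporadicB.J1.Main.isJ1.2
  have hf : Finite Spor.J1 := Nat.finite_of_card_ne_zero (by rw [hc]; norm_num)
  have hl := Cfsg.Agent.H413.JOneLocal.isLocal
  have h2 : SmallAt 2 Spor.J1 := smallAt_of_le (b := 120) Nat.prime_two (by rw [hc]; norm_num)
    fun x hx => (H413.JOneSpec.card_cent_two hl hx).le
  refine small_of_chk 3 21945 53 (by rw [hc]; norm_num) (by norm_num) (by norm_num) [3, 5] [] [(7, 11), (7, 19), (11, 19)]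
    [1, 3, 5, 7, 11, 15, 19, 21, 33, 35] (by decide +kernel) ?_ (by simp) ?_ h2 (by decide +kernel)
  · intro r hr
    simp only [List.mem_cons, List.not_mem_nil, or_false] at hr
    rcases hr with rfl | rfl
    · exact smallAt_of_le (b := 30) Nat.prime_three (by rw [hc]; norm_num) fun x hx => (hl.cent3 x hx).le
    · exact smallAt_of_le (b := 30) Nat.prime_five (by rw [hc]; norm_num) fun x hx => (hl.cent5 x hx).le
  · intro p hp
    simp only [List.mem_cons, List.not_mem_nil, or_false] at hp
    rcases hp with rfl | rfl | rfl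
    · exact ⟨by norm_num, by norm_num, noComm_of_spec (by norm_num) fun g hg => by
        have := H413.JOneSpec.orderOf_mem_J1 g; rw [hg] at this; revert this; decide⟩
    · exact ⟨by norm_num, by norm_num, noComm_of_spec (by norm_num) fun g hg => by
        have := H413.JOneSpec.orderOf_mem_J1 g; rw [hg] at this; revert this; decide⟩
    · exact ⟨by norm_num, by norm_num, noComm_of_spec (by norm_num) fun g hg => by
        have := H413.JOneSpec.orderOf_mem_J1 g; rw [hg] at this; revert this; decide⟩

theorem small_J1 {G : Type u} [Group G] [Finite G] (h : Cfsg.Spor.IsoJ1 G)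
    (_hI : ∀ (H : Type u) [Group H] [Finite H], IsSimpleGroup H → ¬ IsMulCommutative H → Nat.card H < Nat.card G →
      NSm.Small H) : NSm.Small G := by
  obtain ⟨e⟩ := h
  exact small_J1'.congr e.symm

/-! ### J2 -/

theorem small_J2 {G : Type u} [Group G] [Finite G] (h : Cfsg.Spor.IsoJ2 G)
    (_hI : ∀ (H : Type u) [Group H] [Finite H], IsSimpleGroup H → ¬ IsMulCommutative H → Nat.card H < Nat.card G →
      NSm.Small H) : NSm.Small G := by
  have hc := NotCT.Orders.j2 h
  have hord : ∀ g : G, orderOf g ∈ ({1, 2, 3, 4, 5, 6, 7, 8, 10, 12, 15} : Finset ℕ) := by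
    obtain ⟨e⟩ := h
    intro g
    rw [← MulEquiv.orderOf_eq e g]
    exact H379.J2Spec.orders_J2 (e g)
  obtain ⟨t, u, Q, v, ρ, D⟩ := KFacts.J2.Facts.exists_dat_of h
  have hs : IsSimpleGroup G := by
    obtain ⟨e⟩ := h
    have := Cfsg.Agent.S1620.result.1
    exact e.isSimpleGroup
  have h2 : SmallAt 2 G := by
    intro N hN h2N
    obtain ⟨x, hx, -, hle⟩ := exists_le_centralizer hN Nat.prime_two h2N
    have hb : Nat.card ↥N ∣ 1920 := by
      refine (Subgroup.card_dvd_of_le hle).trans ?_
      rcases D.F.cover x hx with h1 | h1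
      · rw [card_cent_isConj h1, D.F.cardC]
      · rw [card_cent_isConj h1, D.card_cent_u]; norm_num
    rw [hc]
    by_contra hlt
    push Not at hlt
    obtain ⟨c, hcc⟩ := hb
    have hn : 777 < Nat.card ↥N := by
      by_contra h
      push Not at h
      have := Nat.pow_le_pow_left h 2
      omega
    have hc3 : c < 3 := by
      by_contra h
      push Not at h
      have := Nat.mul_le_mul hn.le h
      omega
    have h30 : 30 ∣ Nat.card ↥N := by
      interval_cases c
      · omega
      · rw [show Nat.card ↥N = 1920 by omega]; norm_num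
      · rw [show Nat.card ↥N = 960 by omega]; norm_num
    obtain ⟨g, hg⟩ := exists_order_three hN Nat.prime_two Nat.prime_three Nat.prime_five (by norm_num) (by norm_num)
      (by norm_num) ((by norm_num : 2 ∣ 30).trans h30) ((by norm_num : 3 ∣ 30).trans h30)
      ((by norm_num : 5 ∣ 30).trans h30)
    have := hord g
    rw [hg] at this
    revert this
    decide
  refine small_of_chk 7 4725 7 (by rw [hc]; norm_num) (by norm_num) (by norm_num) [] [] [(3, 7)]
    [1, 3, 5] (by decide +kernel) (by simp) (by simp) ?_ h2 (by decide +kernel)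
  intro p hp
  simp only [List.mem_cons, List.not_mem_nil, or_false] at hp
  subst hp
  exact ⟨by norm_num, by norm_num, noComm_of_spec (by norm_num) fun g hg => by
    have := hord g; rw [hg] at this; revert this; decide⟩

/-! ### J3 -/

theorem small_J3 {G : Type u} [Group G] [Finite G] (h : Cfsg.Spor.IsoJ3 G)
    (_hI : ∀ (H : Type u) [Group H] [Finite H], IsSimpleGroup H → ¬ IsMulCommutative H → Nat.card H < Nat.card G →
      NSm.Small H) : NSm.Small G := by
  obtain ⟨hs, hc, hM⟩ := H898.J3Cent.base h
  have h2 : SmallAt 2 G := smallAt_of_le (b := 1920) Nat.prime_two (by rw [hc]; norm_num)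
    fun x hx => (hM x hx).2.1.le
  refine small_of_chk 7 392445 56 (by rw [hc]; norm_num) (by norm_num) (by norm_num) [17, 19] [] []
    [1, 3, 5, 9, 15, 17, 19, 27, 45, 51] (by decide +kernel) ?_ (by simp) (by simp) h2 (by decide +kernel)
  intro r hr
  simp only [List.mem_cons, List.not_mem_nil, or_false] at hr
  rcases hr with rfl | rfl
  · exact smallAt_of_le (b := 17) (by norm_num) (by rw [hc]; norm_num) fun x hx => (H898.J3Cent.seventeen h hx).1.le
  · exact smallAt_of_le (b := 19) (by norm_num) (by rw [hc]; norm_num) fun x hx => (H898.J3Cent.card_nineteen h hx).le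

end Cfsg.Agent.H805.NilSp
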